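import Mathlib

/-!
Binary actions on cosets: general theory (helper61).
-/

namespace H61.BinAct

variable {G : Type*} [Group G]

/-- element version of "the action on the cosets of `H` is binary" -/
def Bin (H : Subgroup G) : Prop :=
  ∀ (n : ℕ) (x y : Fin n → G),
    (∀ i j, ∃ g : G, (y i)⁻¹ * g * x i ∈ H ∧ (y j)⁻¹ * g * x j ∈ H) →
    ∃ g : G, ∀ i, (y i)⁻¹ * g * x i ∈ H

theorem smul_eq_iff (H : Subgroup G) (g x y : G) :
    g • (x : G ⧸ H) = (y : G ⧸ H) ↔ y⁻¹ * g * x ∈ H := by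
  rw [MulAction.Quotient.smul_coe, smul_eq_mul, eq_comm, QuotientGroup.eq, mul_assoc]

theorem Bin.apply {H : Subgroup G} (h : Bin H) {ι : Type*} [Finite ι] (x y : ι → G)
    (h2 : ∀ i j, ∃ g : G, (y i)⁻¹ * g * x i ∈ H ∧ (y j)⁻¹ * g * x j ∈ H) :
    ∃ g : G, ∀ i, (y i)⁻¹ * g * x i ∈ H := by
  obtain ⟨g, hg⟩ := h (Nat.card ι) (fun k => x ((Finite.equivFin ι).symm k))
    (fun k => y ((Finite.equivFin ι).symm k)) (fun i j => h2 _ _)
  refine ⟨g, fun i => ?_⟩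
  have := hg (Finite.equivFin ι i)
  simpa using this

theorem bin_iff (H : Subgroup G) :
    (∀ (n : ℕ) (I J : Fin n → G ⧸ H), 2 ≤ n →
        (∀ i j : Fin n, i ≠ j → ∃ g : G, g • I i = J i ∧ g • I j = J j) →
          ∃ g : G, ∀ i, g • I i = J i) ↔ Bin H := by
  constructor
  · intro h n x y h2
    rcases lt_or_ge n 2 with hn | hn
    · have : n = 0 ∨ n = 1 := by omega
      rcases this with rfl | rfl
      · exact ⟨1, fun i => i.elim0⟩
      · obtain ⟨g, hg, -⟩ := h2 0 0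
        refine ⟨g, fun i => ?_⟩
        rw [Subsingleton.elim i 0]; exact hg
    · obtain ⟨g, hg⟩ := h n (fun i => (x i : G ⧸ H)) (fun i => (y i : G ⧸ H)) hn (by
        intro i j _
        obtain ⟨g, h1, h3⟩ := h2 i j
        exact ⟨g, (smul_eq_iff H _ _ _).2 h1, (smul_eq_iff H _ _ _).2 h3⟩)
      exact ⟨g, fun i => (smul_eq_iff H _ _ _).1 (hg i)⟩
  · intro h n I J hn h2
    have e : ∀ (a b : G ⧸ H) (g : G), g • a = b ↔ b.out⁻¹ * g * a.out ∈ H := by
      intro a b g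
      conv_lhs => rw [← QuotientGroup.out_eq' a, ← QuotientGroup.out_eq' b]
      exact smul_eq_iff H _ _ _
    obtain ⟨g, hg⟩ := h n (fun i => (I i).out) (fun i => (J i).out) (by
      intro i j
      by_cases hij : i = j
      · subst hij
        obtain ⟨k, hk⟩ : ∃ k : Fin n, i ≠ k := by
          haveI : Nontrivial (Fin n) := Fin.nontrivial_iff_two_le.2 hn
          obtain ⟨k, hk⟩ := exists_ne i
          exact ⟨k, hk.symm⟩
        obtain ⟨g, h1, -⟩ := h2 i k hk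
        exact ⟨g, (e _ _ _).1 h1, (e _ _ _).1 h1⟩
      · obtain ⟨g, h1, h3⟩ := h2 i j hij
        exact ⟨g, (e _ _ _).1 h1, (e _ _ _).1 h3⟩)
    exact ⟨g, fun i => (e _ _ _).2 (hg i)⟩

/-- `K` is an intersection of conjugates of `H` -/
def IntC (H K : Subgroup G) : Prop :=
  ∃ S : Set G, S.Nonempty ∧ ∀ z, z ∈ K ↔ ∀ s ∈ S, s⁻¹ * z * s ∈ H

theorem IntC.refl (H : Subgroup G) : IntC H H :=
  ⟨{1}, Set.singleton_nonempty 1, fun z => by simp⟩

theorem IntC.inter {H K L : Subgroup G} (h1 : IntC H K) (h2 : IntC H L) : IntC H (K ⊓ L) := by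
  obtain ⟨S, hS, hK⟩ := h1
  obtain ⟨T, hT, hL⟩ := h2
  refine ⟨S ∪ T, hS.inl, fun z => ?_⟩
  rw [Subgroup.mem_inf, hK, hL]
  constructor
  · rintro ⟨a, b⟩ s (hs | hs)
    · exact a s hs
    · exact b s hs
  · intro a
    exact ⟨fun s hs => a s (Or.inl hs), fun s hs => a s (Or.inr hs)⟩

/-- the conjugate `g K g⁻¹` -/
def cj (g : G) (K : Subgroup G) : Subgroup G := K.map (MulAut.conj g).toMonoidHom

theorem mem_cj {g z : G} {K : Subgroup G} : z ∈ cj g K ↔ g⁻¹ * z * g ∈ K := by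
  unfold cj
  constructor
  · rintro ⟨k, hk, rfl⟩
    have : g⁻¹ * (g * k * g⁻¹) * g = k := by group
    simpa [this, mul_assoc] using hk
  · intro h
    refine ⟨g⁻¹ * z * g, h, ?_⟩
    simp [mul_assoc]

theorem IntC.cj {H K : Subgroup G} (h : IntC H K) (g : G) : IntC H (cj g K) := by
  obtain ⟨S, hS, hK⟩ := h
  refine ⟨(fun s => g * s) '' S, hS.image _, fun z => ?_⟩
  rw [mem_cj, hK]
  constructor
  · rintro a _ ⟨s, hs, rfl⟩
    have := a s hs
    have e : (g * s)⁻¹ * z * (g * s) = s⁻¹ * (g⁻¹ * z * g) * s := by group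
    rw [e]; exact this
  · intro a s hs
    have := a _ ⟨s, hs, rfl⟩
    have e : (g * s)⁻¹ * z * (g * s) = s⁻¹ * (g⁻¹ * z * g) * s := by group
    rwa [e] at this

theorem IntC.bin [Finite G] {H K : Subgroup G} (h : IntC H K) (hH : Bin H) : Bin K := by
  obtain ⟨S, ⟨s0, hs0⟩, hK⟩ := h
  intro n x y h2
  obtain ⟨g, hg⟩ := hH.apply (ι := Fin n × S) (fun p => x p.1 * p.2) (fun p => y p.1 * p.2) (by
    rintro ⟨i, s⟩ ⟨j, t⟩
    obtain ⟨g, h1, h3⟩ := h2 i j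
    refine ⟨g, ?_, ?_⟩
    · have := (hK _).1 h1 s s.2
      have e : (y i * s)⁻¹ * g * (x i * s) = (s : G)⁻¹ * ((y i)⁻¹ * g * x i) * s := by group
      simpa only [e] using this
    · have := (hK _).1 h3 t t.2
      have e : (y j * t)⁻¹ * g * (x j * t) = (t : G)⁻¹ * ((y j)⁻¹ * g * x j) * t := by group
      simpa only [e] using this)
  refine ⟨g, fun i => (hK _).2 fun s hs => ?_⟩
  have := hg (i, ⟨s, hs⟩)
  have e : (y i * s)⁻¹ * g * (x i * s) = (s : G)⁻¹ * ((y i)⁻¹ * g * x i) * s := by group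
  simpa only [e] using this

theorem IntC.cj_self (H : Subgroup G) (g : G) : IntC H (H61.BinAct.cj g H) := (IntC.refl H).cj g

/-- trivial intersection relative to `Z` -/
def TI (Z K : Subgroup G) : Prop :=
  ∀ g z : G, z ∈ K → z ∉ Z → g⁻¹ * z * g ∈ K → ∀ k, k ∈ K ↔ g⁻¹ * k * g ∈ K

/-- binary, TI and containing the normal subgroup `Z` -/
structure Good (Z K : Subgroup G) : Prop where
  nor : Z.Normal
  le : Z ≤ K
  ti : TI Z K
  bin : Bin K

theorem Bin.cj {H : Subgroup G} (h : Bin H) (g : G) : Bin (cj g H) := by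
  intro n x y h2
  obtain ⟨k, hk⟩ := h n (fun i => x i * g) (fun i => y i * g) (by
    intro i j
    obtain ⟨a, h1, h3⟩ := h2 i j
    rw [mem_cj] at h1 h3
    refine ⟨a, ?_, ?_⟩
    · have e : (y i * g)⁻¹ * a * (x i * g) = g⁻¹ * ((y i)⁻¹ * a * x i) * g := by group
      rw [e]; exact h1
    · have e : (y j * g)⁻¹ * a * (x j * g) = g⁻¹ * ((y j)⁻¹ * a * x j) * g := by group
      rw [e]; exact h3)
  refine ⟨k, fun i => ?_⟩
  rw [mem_cj]
  have e : (y i * g)⁻¹ * k * (x i * g) = g⁻¹ * ((y i)⁻¹ * k * x i) * g := by group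
  have := hk i
  simp only [e] at this
  exact this

theorem Good.cj {Z K : Subgroup G} (h : Good Z K) (g : G) : Good Z (cj g K) := by
  have hn := h.nor
  refine ⟨h.nor, ?_, ?_, h.bin.cj g⟩
  · intro z hz
    rw [mem_cj]
    apply h.le
    have := hn.conj_mem z hz g⁻¹
    simpa using this
  · intro a z hz hzZ ha k
    rw [mem_cj] at hz ha ⊢
    rw [mem_cj]
    have hz' : g⁻¹ * z * g ∉ Z := by
      intro hc
      apply hzZ
      have := hn.conj_mem _ hc g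
      simpa [mul_assoc] using this
    have key := h.ti (g⁻¹ * a * g) (g⁻¹ * z * g) hz hz' (by
      have e : (g⁻¹ * a * g)⁻¹ * (g⁻¹ * z * g) * (g⁻¹ * a * g) = g⁻¹ * (a⁻¹ * z * a) * g := by group
      rw [e]; exact ha) (g⁻¹ * k * g)
    rw [key]
    have e : (g⁻¹ * a * g)⁻¹ * (g⁻¹ * k * g) * (g⁻¹ * a * g) = g⁻¹ * (a⁻¹ * k * a) * g := by group
    rw [e]

/-- the star property -/
theorem Good.star {Z K : Subgroup G} (h : Good Z K) {a b x y : G} (ha : a ∈ K) (haZ : a ∉ Z)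
    (hb : x⁻¹ * b * x ∈ K) (hba : y⁻¹ * (b * a) * y ∈ K) : b ∈ K := by
  have hn := h.nor
  obtain ⟨g, hg⟩ := h.bin 3 ![1, x, y] ![1, x, a * y] (by
    have h01 : ∀ i j : Fin 3, ∃ g : G, (![1, x, a * y] i)⁻¹ * g * ![1, x, y] i ∈ K ∧
        (![1, x, a * y] j)⁻¹ * g * ![1, x, y] j ∈ K := by
      have c01 : ∃ g : G, (1 : G)⁻¹ * g * 1 ∈ K ∧ x⁻¹ * g * x ∈ K := ⟨1, by simp, by simp⟩
      have c02 : ∃ g : G, (1 : G)⁻¹ * g * 1 ∈ K ∧ (a * y)⁻¹ * g * y ∈ K :=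
        ⟨a, by simpa using ha, by simp⟩
      have c12 : ∃ g : G, x⁻¹ * g * x ∈ K ∧ (a * y)⁻¹ * g * y ∈ K := by
        refine ⟨b⁻¹, ?_, ?_⟩
        · have := K.inv_mem hb
          have e : x⁻¹ * b⁻¹ * x = (x⁻¹ * b * x)⁻¹ := by group
          rw [e]; exact this
        · have := K.inv_mem hba
          have e : (a * y)⁻¹ * b⁻¹ * y = (y⁻¹ * (b * a) * y)⁻¹ := by group
          rw [e]; exact this
      have c0 : ∃ g : G, (1 : G)⁻¹ * g * 1 ∈ K ∧ (1 : G)⁻¹ * g * 1 ∈ K := ⟨1, by simp, by simp⟩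
      have c1 : ∃ g : G, x⁻¹ * g * x ∈ K ∧ x⁻¹ * g * x ∈ K := ⟨1, by simp, by simp⟩
      have c2 : ∃ g : G, (a * y)⁻¹ * g * y ∈ K ∧ (a * y)⁻¹ * g * y ∈ K := ⟨a, by simp, by simp⟩
      intro i j
      fin_cases i <;> fin_cases j
      · simpa using c0
      · simpa using c01
      · simpa using c02
      · obtain ⟨g, h1, h2⟩ := c01; exact ⟨g, h2, h1⟩
      · simpa using c1
      · simpa using c12
      · obtain ⟨g, h1, h2⟩ := c02; exact ⟨g, h2, h1⟩
      · obtain ⟨g, h1, h2⟩ := c12; exact ⟨g, h2, h1⟩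
      · simpa using c2
    exact h01)
  have g0 : g ∈ K := by have := hg 0; simpa using this
  have g1 : x⁻¹ * g * x ∈ K := by have := hg 1; simpa using this
  have g2 : (a * y)⁻¹ * g * y ∈ K := by have := hg 2; simpa using this
  by_cases hgZ : g ∈ Z
  · have c1 : y⁻¹ * g * y ∈ Z := by
      have := hn.conj_mem g hgZ y⁻¹
      simpa using this
    have c2 : y⁻¹ * a * y ∈ K := by
      have e : y⁻¹ * a * y = (y⁻¹ * g * y) * ((a * y)⁻¹ * g * y)⁻¹ := by group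
      rw [e]
      exact K.mul_mem (h.le c1) (K.inv_mem g2)
    have := (h.ti y a ha haZ c2 (b * a)).2 hba
    have := K.mul_mem this (K.inv_mem ha)
    simpa using this
  · exact (h.ti x g g0 hgZ g1 b).2 hb

/-- a minimal intersection (not inside `Z`) -/
theorem exists_good [Finite G] {Z H M : Subgroup G} (hn : Z.Normal) (hZ : Z ≤ H) (hH : Bin H)
    (hM : IntC H M) (hMZ : ¬ M ≤ Z) :
    ∃ K, IntC H K ∧ K ≤ M ∧ ¬ K ≤ Z ∧ Good Z K := by
  classical
  have hle : ∀ K, IntC H K → Z ≤ K := by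
    rintro K ⟨S, hS, hK⟩ z hz
    rw [hK]
    intro s _
    apply hZ
    have := hn.conj_mem z hz s⁻¹
    simpa using this
  obtain ⟨K, ⟨hK1, hK2, hK3⟩, hmin⟩ := Set.exists_min_image
    {K : Subgroup G | IntC H K ∧ K ≤ M ∧ ¬ K ≤ Z} (fun K => Nat.card K) (Set.toFinite _)
    ⟨M, hM, le_rfl, hMZ⟩
  refine ⟨K, hK1, hK2, hK3, hn, hle K hK1, ?_, hK1.bin hH⟩
  have key : ∀ g z : G, z ∈ K → z ∉ Z → g⁻¹ * z * g ∈ K → ∀ k, k ∈ K → g⁻¹ * k * g ∈ K := by
    intro g z hz hzZ hg k hk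
    have h1 : Nat.card K ≤ Nat.card (K ⊓ cj g K : Subgroup G) := by
      apply hmin
      refine ⟨hK1.inter (hK1.cj g), le_trans inf_le_left hK2, ?_⟩
      intro hc
      exact hzZ (hc ⟨hz, mem_cj.2 hg⟩)
    have h2 : K ⊓ cj g K = K := by
      apply Subgroup.eq_of_le_of_card_ge inf_le_left h1
    have : k ∈ K ⊓ cj g K := by rw [h2]; exact hk
    exact mem_cj.1 this.2
  intro g z hz hzZ hg k
  refine ⟨key g z hz hzZ hg k, fun hk => ?_⟩
  have := key g⁻¹ (g⁻¹ * z * g) hg (by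
    intro hc
    apply hzZ
    have := hn.conj_mem _ hc g
    simpa [mul_assoc] using this) (by simpa [mul_assoc] using hz) _ hk
  simpa [mul_assoc] using this

/-- transfer along a surjection -/
theorem bin_comap {G' : Type*} [Group G'] (f : G →* G') (hf : Function.Surjective f)
    (H : Subgroup G') : Bin (H.comap f) ↔ Bin H := by
  constructor
  · intro h n x y h2
    choose u hu using hf
    obtain ⟨g, hg⟩ := h n (fun i => u (x i)) (fun i => u (y i)) (by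
      intro i j
      obtain ⟨g, h1, h3⟩ := h2 i j
      refine ⟨u g, ?_, ?_⟩
      · simpa [hu] using h1
      · simpa [hu] using h3)
    refine ⟨f g, fun i => ?_⟩
    have := hg i
    simpa [hu] using this
  · intro h n x y h2
    obtain ⟨g, hg⟩ := h n (fun i => f (x i)) (fun i => f (y i)) (by
      intro i j
      obtain ⟨g, h1, h3⟩ := h2 i j
      exact ⟨f g, by simpa using h1, by simpa using h3⟩)
    obtain ⟨g', rfl⟩ := hf g
    exact ⟨g', fun i => by simpa using hg i⟩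

/-- sufficient condition for being binary -/
theorem bin_of_ti {H : Subgroup G}
    (hti : TI ⊥ H)
    (hs : ∀ a b x y : G, a ∈ H → a ≠ 1 → x⁻¹ * b * x ∈ H → b ≠ 1 → y⁻¹ * (b * a) * y ∈ H → b ∈ H) :
    Bin H := by
  -- conjugation-invariant version of the hypotheses
  have hs' : ∀ c a b x y : G, c⁻¹ * a * c ∈ H → a ≠ 1 → x⁻¹ * b * x ∈ H → b ≠ 1 →
      y⁻¹ * (b * a) * y ∈ H → c⁻¹ * b * c ∈ H := by
    intro c a b x y ha ha1 hb hb1 hab
    refine hs (c⁻¹ * a * c) (c⁻¹ * b * c) (c⁻¹ * x) (c⁻¹ * y) ha ?_ ?_ ?_ ?_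
    · intro h; apply ha1
      have : a = c * (c⁻¹ * a * c) * c⁻¹ := by group
      rw [this, h]; simp
    · have e : (c⁻¹ * x)⁻¹ * (c⁻¹ * b * c) * (c⁻¹ * x) = x⁻¹ * b * x := by group
      rw [e]; exact hb
    · intro h; apply hb1
      have : b = c * (c⁻¹ * b * c) * c⁻¹ := by group
      rw [this, h]; simp
    · have e : (c⁻¹ * y)⁻¹ * (c⁻¹ * b * c * (c⁻¹ * a * c)) * (c⁻¹ * y) = y⁻¹ * (b * a) * y := by group
      rw [e]; exact hab
  have hti' : ∀ c d z : G, c⁻¹ * z * c ∈ H → z ≠ 1 → d⁻¹ * z * d ∈ H →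
      ∀ k, c⁻¹ * k * c ∈ H ↔ d⁻¹ * k * d ∈ H := by
    intro c d z hz hz1 hd k
    have := hti (c⁻¹ * d) (c⁻¹ * z * c) hz (by
      rw [Subgroup.mem_bot]; intro h; apply hz1
      have : z = c * (c⁻¹ * z * c) * c⁻¹ := by group
      rw [this, h]; simp) (by
      have e : (c⁻¹ * d)⁻¹ * (c⁻¹ * z * c) * (c⁻¹ * d) = d⁻¹ * z * d := by group
      rw [e]; exact hd) (c⁻¹ * k * c)
    rw [this]
    have e : (c⁻¹ * d)⁻¹ * (c⁻¹ * k * c) * (c⁻¹ * d) = d⁻¹ * k * d := by group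
    rw [e]
  intro n x y h2
  rcases Nat.eq_zero_or_pos n with rfl | hn
  · exact ⟨1, fun i => i.elim0⟩
  by_cases hall : ∀ i j : Fin n, ∀ k, (x i)⁻¹ * k * x i ∈ H ↔ (x j)⁻¹ * k * x j ∈ H
  · -- all stabilisers equal
    let i0 : Fin n := ⟨0, hn⟩
    obtain ⟨g, hg, -⟩ := h2 i0 i0
    refine ⟨g, fun j => ?_⟩
    obtain ⟨k, hk0, hkj⟩ := h2 i0 j
    have e1 : (x i0)⁻¹ * (k⁻¹ * g) * x i0 ∈ H := by
      have := H.mul_mem (H.inv_mem hk0) hg
      have e : ((y i0)⁻¹ * k * x i0)⁻¹ * ((y i0)⁻¹ * g * x i0) = (x i0)⁻¹ * (k⁻¹ * g) * x i0 := by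
        group
      rwa [e] at this
    have e2 := (hall i0 j _).1 e1
    have := H.mul_mem hkj e2
    have e : (y j)⁻¹ * k * x j * ((x j)⁻¹ * (k⁻¹ * g) * x j) = (y j)⁻¹ * g * x j := by group
    rwa [e] at this
  · push Not at hall
    obtain ⟨i, j, k, hk⟩ := hall
    have hij : ∀ z, (x i)⁻¹ * z * x i ∈ H → (x j)⁻¹ * z * x j ∈ H → z = 1 := by
      intro z h1 h3
      by_contra hz
      have := hti' (x i) (x j) z h1 hz h3 k
      tauto
    obtain ⟨g, hgi, hgj⟩ := h2 i j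
    refine ⟨g, fun l => ?_⟩
    obtain ⟨u, hui, hul⟩ := h2 i l
    obtain ⟨v, hvj, hvl⟩ := h2 j l
    -- a = g⁻¹ u fixes x i ; b = g⁻¹ v fixes x j ; b⁻¹ a fixes x l
    have ha : (x i)⁻¹ * (g⁻¹ * u) * x i ∈ H := by
      have := H.mul_mem (H.inv_mem hgi) hui
      have e : ((y i)⁻¹ * g * x i)⁻¹ * ((y i)⁻¹ * u * x i) = (x i)⁻¹ * (g⁻¹ * u) * x i := by group
      rwa [e] at this
    have hb : (x j)⁻¹ * (g⁻¹ * v) * x j ∈ H := by
      have := H.mul_mem (H.inv_mem hgj) hvj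
      have e : ((y j)⁻¹ * g * x j)⁻¹ * ((y j)⁻¹ * v * x j) = (x j)⁻¹ * (g⁻¹ * v) * x j := by group
      rwa [e] at this
    have hc : (x l)⁻¹ * ((g⁻¹ * v)⁻¹ * (g⁻¹ * u)) * x l ∈ H := by
      have := H.mul_mem (H.inv_mem hvl) hul
      have e : ((y l)⁻¹ * v * x l)⁻¹ * ((y l)⁻¹ * u * x l) =
        (x l)⁻¹ * ((g⁻¹ * v)⁻¹ * (g⁻¹ * u)) * x l := by group
      rwa [e] at this
    by_cases ha1 : g⁻¹ * u = 1
    · have : u = g := by
        have := congrArg (fun t => g * t) ha1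
        simpa using this
      rw [← this]; exact hul
    by_cases hb1 : g⁻¹ * v = 1
    · have : v = g := by
        have := congrArg (fun t => g * t) hb1
        simpa using this
      rw [← this]; exact hvl
    exfalso
    have hb' : (x i)⁻¹ * (g⁻¹ * v)⁻¹ * x i ∈ H := by
      refine hs' (x i) (g⁻¹ * u) (g⁻¹ * v)⁻¹ (x j) (x l) ha ha1 ?_ ?_ hc
      · have := H.inv_mem hb
        have e : ((x j)⁻¹ * (g⁻¹ * v) * x j)⁻¹ = (x j)⁻¹ * (g⁻¹ * v)⁻¹ * x j := by group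
        rwa [e] at this
      · exact fun h => hb1 (inv_eq_one.1 h)
    apply hb1
    apply hij
    · have := H.inv_mem hb'
      have e : ((x i)⁻¹ * (g⁻¹ * v)⁻¹ * x i)⁻¹ = (x i)⁻¹ * (g⁻¹ * v) * x i := by group
      rwa [e] at this
    · exact hb

end H61.BinAct
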