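import Cfsg.Agent.Lib.H61.BinSz1
import Cfsg.Agent.Lib.H61.BinAct
import Cfsg.Agent.S2247
import Mathlib

/-!
Binary subgroups of the Suzuki groups (helper61).
-/

set_option autoImplicit false

namespace H61.BinSz

open Cfsg H8.SuzOvoid H8.SuzField H8.SuzMat H8.SuzStab H8.SuzGroup H8.SuzSylow H8.SuzCent H8.TICount H8.SuzTorus
open H42.SuzSol H53.SzCov H61.BinAct

section general

variable {G : Type*} [Group G]

/-- the normaliser, via conjugation -/
def nr (K : Subgroup G) : Subgroup G where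
  carrier := {g | ∀ k, k ∈ K ↔ g⁻¹ * k * g ∈ K}
  one_mem' := fun k => by simp
  mul_mem' := by
    intro a b ha hb k
    rw [ha k, hb]
    have e : b⁻¹ * (a⁻¹ * k * a) * b = (a * b)⁻¹ * k * (a * b) := by group
    rw [e]
  inv_mem' := by
    intro a ha k
    have := ha (a * k * a⁻¹)
    have e : a⁻¹ * (a * k * a⁻¹) * a = k := by group
    rw [e] at this
    rw [← this]
    simp

theorem mem_nr {K : Subgroup G} {g : G} : g ∈ nr K ↔ ∀ k, k ∈ K ↔ g⁻¹ * k * g ∈ K := Iff.rfl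

theorem le_nr (K : Subgroup G) : K ≤ nr K := by
  intro g hg k
  constructor
  · intro hk
    exact K.mul_mem (K.mul_mem (K.inv_mem hg) hk) hg
  · intro hk
    have := K.mul_mem (K.mul_mem hg hk) (K.inv_mem hg)
    have e : g * (g⁻¹ * k * g) * g⁻¹ = k := by group
    rwa [e] at this

theorem normal_of_nr {K : Subgroup G} (h : nr K = ⊤) : K.Normal := by
  constructor
  intro k hk g
  have hg : g⁻¹ ∈ nr K := by rw [h]; trivial
  have := (hg k).1 hk
  simpa using this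

theorem cj_cj' (g k : G) (K : Subgroup G) : cj g (cj k K) = cj (g * k) K := by
  ext x
  rw [mem_cj, mem_cj, mem_cj]
  have e : k⁻¹ * (g⁻¹ * x * g) * k = (g * k)⁻¹ * x * (g * k) := by group
  rw [e]

theorem cj_one' (K : Subgroup G) : cj 1 K = K := by
  ext x; rw [mem_cj]; simp

theorem cj_mono' {g : G} {K L : Subgroup G} (h : K ≤ L) : cj g K ≤ cj g L := by
  intro x hx
  rw [mem_cj] at hx ⊢
  exact h hx

theorem cj_top' {K : Subgroup G} {g : G} (h : cj g K = ⊤) : K = ⊤ := by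
  rw [eq_top_iff]
  intro x _
  have : g * x * g⁻¹ ∈ cj g K := by rw [h]; trivial
  rw [mem_cj] at this
  have e : g⁻¹ * (g * x * g⁻¹) * g = x := by group
  rwa [e] at this

/-- the triple lemma without TI -/
theorem tri {H : Subgroup G} (h : Bin H) {a b x y : G} (ha : a ∈ H)
    (hb : x⁻¹ * b * x ∈ H) (hba : y⁻¹ * (b * a) * y ∈ H) :
    ∃ g, g ∈ H ∧ x⁻¹ * g * x ∈ H ∧ (a * y)⁻¹ * g * y ∈ H := by
  obtain ⟨g, hg⟩ := h 3 ![1, x, y] ![1, x, a * y] (by
    have c01 : ∃ g : G, (1 : G)⁻¹ * g * 1 ∈ H ∧ x⁻¹ * g * x ∈ H := ⟨1, by simp, by simp⟩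
    have c02 : ∃ g : G, (1 : G)⁻¹ * g * 1 ∈ H ∧ (a * y)⁻¹ * g * y ∈ H :=
      ⟨a, by simpa using ha, by simp⟩
    have c12 : ∃ g : G, x⁻¹ * g * x ∈ H ∧ (a * y)⁻¹ * g * y ∈ H := by
      refine ⟨b⁻¹, ?_, ?_⟩
      · have := H.inv_mem hb
        have e : x⁻¹ * b⁻¹ * x = (x⁻¹ * b * x)⁻¹ := by group
        rw [e]; exact this
      · have := H.inv_mem hba
        have e : (a * y)⁻¹ * b⁻¹ * y = (y⁻¹ * (b * a) * y)⁻¹ := by group
        rw [e]; exact this
    have c0 : ∃ g : G, (1 : G)⁻¹ * g * 1 ∈ H ∧ (1 : G)⁻¹ * g * 1 ∈ H := ⟨1, by simp, by simp⟩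
    have c1 : ∃ g : G, x⁻¹ * g * x ∈ H ∧ x⁻¹ * g * x ∈ H := ⟨1, by simp, by simp⟩
    have c2 : ∃ g : G, (a * y)⁻¹ * g * y ∈ H ∧ (a * y)⁻¹ * g * y ∈ H := ⟨a, by simp, by simp⟩
    intro i j
    fin_cases i <;> fin_cases j
    · simpa using c0
    · simpa using c01
    · simpa using c02
    · obtain ⟨g, h1, h2⟩ := c01; exact ⟨g, h2, h1⟩
    · simpa using c1
    · simpa using c12
    · obtain ⟨g, h1, h2⟩ := c02; exact ⟨g, h2, h1⟩
    · obtain ⟨g, h1, h2⟩ := c12; exact ⟨g, h2, h1⟩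
    · simpa using c2)
  refine ⟨g, ?_, ?_, ?_⟩
  · have := hg 0; simpa using this
  · have := hg 1; simpa using this
  · have := hg 2; simpa using this

end general

variable {F : Type*} [Field F] [Fintype F] {m : ℕ}

/-- the Borel subgroup -/
abbrev BB (hF : Fintype.card F = 2 ^ (2 * m + 1)) : Subgroup (Sz F m) :=
  Subgroup.normalizer ((TT (m := m) hF : Subgroup (Sz F m)) : Set (Sz F m))

theorem top_of_TT (hm : 1 ≤ m) (hF : Fintype.card F = 2 ^ (2 * m + 1)) {X : Subgroup (Sz F m)}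
    (h1 : TT (m := m) hF ≤ X) {g : Sz F m} (hg : g ∈ X) (hgB : g ∉ BB (m := m) hF) : X = ⊤ := by
  by_contra hne
  obtain ⟨M, hM, hXM⟩ := (eq_top_or_exists_le_coatom X).resolve_left hne
  have := Cfsg.Agent.S2247.unique_TT hm hF M hM (h1.trans hXM)
  apply hgB
  rw [BB, ← this]
  exact hXM hg

theorem top_of_normal (hm : 1 ≤ m) (hF : Fintype.card F = 2 ^ (2 * m + 1)) {K : Subgroup (Sz F m)}
    (h : nr K = ⊤) (hne : K ≠ ⊥) : K = ⊤ := by
  have := normal_of_nr h
  exact ((H8.SuzSimple.isSimple hm hF).eq_bot_or_eq_top_of_normal K this).resolve_left hne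

theorem t1_ne (hF : Fintype.card F = 2 ^ (2 * m + 1)) {b : F} (hb : b ≠ 0) : (tG hF 0 b : Sz F m) ≠ 1 := by
  intro h
  rw [← tG_one hF] at h
  exact hb (tG_inj hF h).2

theorem w_not_mem (hm : 1 ≤ m) (hF : Fintype.card F = 2 ^ (2 * m + 1)) : wG (m := m) hF ∉ BB (m := m) hF := by
  rw [BB, normalizer_TT hm hF]
  intro h
  have h1 : W F • suzukiPointInfinity F = suzukiPointInfinity F := h
  rw [W_smul_inf (m := m)] at h1
  exact pnt_ne_inf (m := m) (0 : F) 0 h1

/-- an element of the Borel subgroup whose order is a power of two is a translation -/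
theorem mem_TT_of_two (hm : 1 ≤ m) (hF : Fintype.card F = 2 ^ (2 * m + 1)) {x : Sz F m}
    (hx : x ∈ BB (m := m) hF) {k : ℕ} (hk : x ^ (2 ^ k) = 1) : x ∈ TT (m := m) hF := by
  have hfact : Fact (Nat.Prime 2) := ⟨Nat.prime_two⟩
  -- zpowers x ⊔ TT is a 2-group
  have hP : IsPGroup 2 (Subgroup.zpowers x) := by
    rw [IsPGroup.iff_card] 
    have h1 : orderOf x ∣ 2 ^ k := orderOf_dvd_of_pow_eq_one hk
    obtain ⟨j, -, hj⟩ := (Nat.dvd_prime_pow Nat.prime_two).1 h1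
    exact ⟨j, by rw [Nat.card_zpowers, hj]⟩
  have hle : Subgroup.zpowers x ≤ BB (m := m) hF := by
    rw [Subgroup.zpowers_le]; exact hx
  have hS : IsPGroup 2 ((Subgroup.zpowers x ⊔ TT (m := m) hF : Subgroup (Sz F m))) :=
    IsPGroup.to_sup_of_normal_right' hP (isPGroup_TT hF) hle
  have hmax := (PT (m := m) hm hF).is_maximal' hS le_sup_right
  have : x ∈ (Subgroup.zpowers x ⊔ TT (m := m) hF : Subgroup (Sz F m)) :=
    (le_sup_left : Subgroup.zpowers x ≤ _) (Subgroup.mem_zpowers x)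
  rw [hmax] at this
  exact this

theorem inv_involution {G : Type*} [Group G] {t : G} (h : t * t = 1) : t⁻¹ = t :=
  inv_eq_of_mul_eq_one_right h

/-- an involution inverting a non-trivial element of odd order of the Borel subgroup is not in
the Borel subgroup -/
theorem inverting_not_mem (hm : 1 ≤ m) (hF : Fintype.card F = 2 ^ (2 * m + 1)) {x t : Sz F m}
    (hx : x ∈ BB (m := m) hF) (hx1 : x ≠ 1) (hodd : Odd (orderOf x)) (htt : t * t = 1)
    (ht : t * x * t⁻¹ = x⁻¹) : t ∉ BB (m := m) hF := by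
  intro htB
  have htT : t ∈ TT (m := m) hF := mem_TT_of_two hm hF htB (k := 1) (by rw [pow_one, pow_two]; exact htt)
  -- x⁻¹ * x⁻¹ ∈ TT
  have h1 : x * t⁻¹ * x⁻¹ ∈ TT (m := m) hF :=
    (Subgroup.mem_normalizer_iff.1 hx _).1 (Subgroup.inv_mem _ htT)
  have h2 : x⁻¹ * x⁻¹ ∈ TT (m := m) hF := by
    have e : x⁻¹ * x⁻¹ = t * (x * t⁻¹ * x⁻¹) := by
      nth_rewrite 1 [← ht]; group
    rw [e]; exact Subgroup.mul_mem _ htT h1
  have h3 : x ^ 2 ∈ TT (m := m) hF := by
    have := Subgroup.inv_mem _ h2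
    have e : (x⁻¹ * x⁻¹)⁻¹ = x ^ 2 := by group
    rwa [e] at this
  obtain ⟨a, b, hab⟩ := h3
  have h4 : (x ^ 2) ^ 4 = 1 := by rw [hab, tG_pow_four]
  have h5 : orderOf x ∣ 2 ^ 3 := by
    apply orderOf_dvd_of_pow_eq_one
    rw [← h4, ← pow_mul]
    norm_num
  obtain ⟨j, -, hj⟩ := (Nat.dvd_prime_pow Nat.prime_two).1 h5
  rcases Nat.eq_zero_or_pos j with rfl | hj0
  · rw [pow_zero] at hj
    exact hx1 (orderOf_eq_one_iff.1 hj)
  · rw [hj] at hodd
    have : Even (2 ^ j) := (Nat.even_pow.2 ⟨even_two, by omega⟩)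
    exact (Nat.not_even_iff_odd.2 hodd) this

/-- a good subgroup all of whose elements have odd order is trivial -/
theorem odd_triv (hm : 1 ≤ m) (hF : Fintype.card F = 2 ^ (2 * m + 1)) {K : Subgroup (Sz F m)}
    (hK : Good ⊥ K) (hodd : ∀ x ∈ K, Odd (orderOf x)) : K = ⊥ := by
  by_contra hne
  obtain ⟨⟨a, haK⟩, ha1'⟩ := Subgroup.ne_bot_iff_exists_ne_one.1 hne
  have ha1 : a ≠ 1 := fun h => ha1' (Subtype.ext h)
  obtain ⟨t, htt, ht1, ht⟩ := H53.SzReal.exists_inverting hm hF ha1 (hodd a haK)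
  have hti := inv_involution htt
  have htN : ∀ k, k ∈ K ↔ t⁻¹ * k * t ∈ K := by
    apply hK.ti t a haK (by rwa [Subgroup.mem_bot])
    rw [hti]
    have : t * a * t = a⁻¹ := by rw [← ht, hti]
    rw [this]; exact K.inv_mem haK
  let φ : K →* K :=
    { toFun := fun k => ⟨t⁻¹ * k * t, (htN k).1 k.2⟩
      map_one' := by apply Subtype.ext; simp
      map_mul' := by
        intro x y; apply Subtype.ext
        show t⁻¹ * (x * y) * t = t⁻¹ * x * t * (t⁻¹ * y * t)
        group }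
  have hinv : Function.Involutive φ := by
    intro k
    apply Subtype.ext
    show t⁻¹ * (t⁻¹ * k * t) * t = k
    have e : t⁻¹ * (t⁻¹ * k * t) * t = (t * t)⁻¹ * k * (t * t) := by group
    rw [e, htt]; simp
  have hfp : MonoidHom.FixedPointFree φ := by
    intro k hk
    by_contra hk1
    have hk' : t⁻¹ * (k : Sz F m) * t = k := congrArg Subtype.val hk
    have hkt : (k : Sz F m) * t = t * k := by
      calc (k : Sz F m) * t = t * (t⁻¹ * k * t) := by group
        _ = t * k := by rw [hk']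
    obtain ⟨x, b, hb, hx⟩ := H53.SzReal.exists_conj_tG hm hF ht1 htt
    have h1 : x * k * x⁻¹ ∈ TT (m := m) hF := by
      apply mem_TT_of_commute hm hF (t1_ne hF hb)
      rw [← hx]
      calc x * k * x⁻¹ * (x * t * x⁻¹) = x * (k * t) * x⁻¹ := by group
        _ = x * (t * k) * x⁻¹ := by rw [hkt]
        _ = _ := by group
    obtain ⟨a', b', hab⟩ := h1
    have h2 : tr (k : Sz F m) = 0 := by
      rw [← tr_conj x, hab, tr_tG]
    exact tr_of_odd hm hF (fun h => hk1 (Subtype.ext h)) (hodd k k.2) h2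
  have hab : ∀ x ∈ K, ∀ y ∈ K, x * y = y * x := by
    intro x hx y hy
    have := hfp.commute_all_of_involutive hinv ⟨x, hx⟩ ⟨y, hy⟩
    exact congrArg Subtype.val this.eq
  have hta := tr_of_odd hm hF ha1 (hodd a haK)
  obtain ⟨y, hy1, hy2, hy3⟩ := exists_y hm hF hta
  apply hy3
  have hyK : y ∈ K := by
    obtain ⟨g, hg⟩ := conj_of_tr hm hF (g := y) (h := a) (by rw [hy1]; exact hta) hy1
    obtain ⟨k, hk⟩ := conj_of_tr hm hF (g := y * a) (h := a) (by rw [hy2]; exact hta) hy2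
    refine hK.star (a := a) (b := y) (x := g⁻¹) (y := k⁻¹) haK (by rwa [Subgroup.mem_bot]) ?_ ?_
    · rw [inv_inv, hg]; exact haK
    · rw [inv_inv, hk]; exact haK
  exact hab y hyK a haK

/-- the centre of the translation group -/
def Z0 (hF : Fintype.card F = 2 ^ (2 * m + 1)) : Subgroup (Sz F m) where
  carrier := {g | ∃ b : F, g = tG hF 0 b}
  one_mem' := ⟨0, (tG_one hF).symm⟩
  mul_mem' := by
    rintro _ _ ⟨b, rfl⟩ ⟨c, rfl⟩
    refine ⟨b + c, ?_⟩
    rw [tG_mul, th_zero]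
    congr 1 <;> ring
  inv_mem' := by
    rintro _ ⟨b, rfl⟩
    refine ⟨b, ?_⟩
    apply inv_eq_of_mul_eq_one_right
    rw [← pow_two, tG_sq, mul_zero, tG_one]

theorem mem_Z0 {hF : Fintype.card F = 2 ^ (2 * m + 1)} {g : Sz F m} :
    g ∈ Z0 hF ↔ ∃ b : F, g = tG hF 0 b := Iff.rfl

theorem Z0_le (hF : Fintype.card F = 2 ^ (2 * m + 1)) : Z0 (m := m) hF ≤ TT hF := by
  rintro _ ⟨b, rfl⟩; exact ⟨0, b, rfl⟩

theorem mem_Z0_of_sq (hF : Fintype.card F = 2 ^ (2 * m + 1)) {g : Sz F m} (hg : g ∈ TT (m := m) hF)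
    (h : g * g = 1) : g ∈ Z0 hF := H53.SzReal.tG_of_sq hF hg h

/-- a two-element is conjugate into the translations -/
theorem two_of_tr (hm : 1 ≤ m) (hF : Fintype.card F = 2 ^ (2 * m + 1)) {x : Sz F m} (hx : tr x = 0) :
    ∃ y : Sz F m, ∃ a b : F, y * x * y⁻¹ = tG hF a b := by
  rcases cases_odd hm hF x with h | h
  · exact h
  · by_cases h1 : x = 1
    · exact ⟨1, 0, 0, by rw [h1, tG_one]; group⟩
    · exact absurd hx (tr_of_odd hm hF h1 h)

/-- elements of order four are conjugate to `tG 1 0` or its inverse -/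
theorem four_cases (hF : Fintype.card F = 2 ^ (2 * m + 1)) {a b : F} (ha : a ≠ 0) :
    ∃ y : Sz F m, y ∈ BB (m := m) hF ∧ (y * tG hF a b * y⁻¹ = tG hF 1 0 ∨
      y * tG hF a b * y⁻¹ = (tG hF 1 0)⁻¹) := by
  have two := two_eq_zero hF
  have hTB : TT (m := m) hF ≤ BB hF := Subgroup.le_normalizer
  obtain ⟨k, hk⟩ : ∃ k : Fˣ, (k : F) = a⁻¹ := ⟨Units.mk0 a⁻¹ (inv_ne_zero ha), rfl⟩
  obtain ⟨d, hd⟩ : ∃ d, d = (k : F) * th m (k : F) * b := ⟨_, rfl⟩
  have h1 : dG hF k * tG hF a b * (dG hF k)⁻¹ = (tG hF 1 d : Sz F m) := by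
    rw [H8.SuzSimple.dG_conj, hk, inv_mul_cancel₀ ha, hd, hk]
  have hdB : dG (m := m) hF k ∈ BB hF := by
    rw [Subgroup.mem_normalizer_iff]
    intro x
    constructor
    · rintro ⟨s, t, rfl⟩
      exact ⟨_, _, H8.SuzSimple.dG_conj hF k s t⟩
    · rintro ⟨s, t, hst⟩
      have e : x = dG hF k⁻¹ * tG hF s t * (dG (m := m) hF k⁻¹)⁻¹ := by
        rw [← hst, map_inv]; group
      exact ⟨_, _, e.trans (H8.SuzSimple.dG_conj hF k⁻¹ s t)⟩
  have hinv : (tG hF 1 0 : Sz F m)⁻¹ = tG hF 1 1 := by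
    apply inv_eq_of_mul_eq_one_right
    rw [tG_mul, th_one, ← tG_one hF]
    congr 1
    · linear_combination two
    · linear_combination two
  have hL : ∀ e : F, (tG hF e 0 : Sz F m) * tG hF 1 d * (tG hF e 0)⁻¹ = tG hF 1 (d + (e + th m e)) := by
    intro e
    rw [tG_conj_tG]
    congr 2
    show th m e * 1 + th m 1 * e = e + th m e
    rw [th_one]; ring
  by_cases hdH : d ∈ HL (m := m) hF
  · obtain ⟨e, he⟩ := (mem_HL hF).1 hdH
    refine ⟨tG hF e 0 * dG hF k, Subgroup.mul_mem _ (hTB ⟨e, 0, rfl⟩) hdB, Or.inl ?_⟩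
    have e1 : tG hF e 0 * dG hF k * tG hF a b * (tG hF e 0 * dG hF k)⁻¹ =
        tG hF e 0 * (dG hF k * tG hF a b * (dG hF k)⁻¹) * (tG hF e 0 : Sz F m)⁻¹ := by group
    rw [e1, h1, hL, he]
    congr 1
    linear_combination (e + th m e) * two
  · obtain ⟨e, he⟩ := (mem_HL hF).1 (add_one_mem hF hdH)
    refine ⟨tG hF e 0 * dG hF k, Subgroup.mul_mem _ (hTB ⟨e, 0, rfl⟩) hdB, Or.inr ?_⟩
    have e1 : tG hF e 0 * dG hF k * tG hF a b * (tG hF e 0 * dG hF k)⁻¹ =
        tG hF e 0 * (dG hF k * tG hF a b * (dG hF k)⁻¹) * (tG hF e 0 : Sz F m)⁻¹ := by group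
    rw [e1, h1, hL, hinv, ← he]
    congr 1
    linear_combination d * two

theorem tr_w_one (hF : Fintype.card F = 2 ^ (2 * m + 1)) : tr (wG hF * tG hF 1 0 : Sz F m) = 0 := by
  have two := two_eq_zero hF
  show Matrix.trace (Wm F * Tm m 1 0) = _
  simp [Tm, Wm, suzukiForm, Matrix.trace, Fin.sum_univ_four, Matrix.mul_apply, f_eq, th_zero, th_one]
  linear_combination two

/-- `w * tG 1 0` is conjugate into any subgroup containing `tG 1 0` -/
theorem conj_w_one (hm : 1 ≤ m) (hF : Fintype.card F = 2 ^ (2 * m + 1)) {H : Subgroup (Sz F m)}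
    (h1 : tG hF 1 0 ∈ H) : (∃ y : Sz F m, y⁻¹ * (wG hF * tG hF 1 0) * y ∈ H) ∧
      ∃ x : Sz F m, x⁻¹ * wG hF * x ∈ H := by
  have h01 : tG hF 0 1 ∈ H := by
    have := H.mul_mem h1 h1
    rw [← pow_two, tG_sq, th_one, one_mul] at this
    exact this
  have hw1 : wG (m := m) hF ≠ 1 := by
    intro h
    apply w_not_mem hm hF
    rw [h]; exact Subgroup.one_mem _
  constructor
  · obtain ⟨y, a, b, hy⟩ := two_of_tr hm hF (tr_w_one (m := m) hF)
    by_cases ha : a = 0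
    · have hb : b ≠ 0 := by
        rintro rfl
        rw [ha, tG_one] at hy
        have h3 : wG hF * tG hF 1 0 = (1 : Sz F m) := by
          calc wG hF * tG hF 1 0 = y⁻¹ * (y * (wG hF * tG hF 1 0) * y⁻¹) * y := by group
            _ = 1 := by rw [hy]; group
        apply w_not_mem hm hF
        rw [eq_inv_of_mul_eq_one_left h3]
        exact Subgroup.inv_mem _ (Subgroup.le_normalizer ⟨1, 0, rfl⟩)
      obtain ⟨k, hk⟩ := H53.SzReal.conj_tG (m := m) hF hb one_ne_zero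
      refine ⟨(dG hF k * y)⁻¹, ?_⟩
      have e : ((dG hF k * y)⁻¹)⁻¹ * (wG hF * tG hF 1 0) * (dG hF k * y)⁻¹ =
          dG hF k * (y * (wG hF * tG hF 1 0) * y⁻¹) * (dG (m := m) hF k)⁻¹ := by group
      rw [e, hy, ha, hk]
      exact h01
    · obtain ⟨z, -, hz⟩ := four_cases (m := m) hF (b := b) ha
      refine ⟨(z * y)⁻¹, ?_⟩
      have e : ((z * y)⁻¹)⁻¹ * (wG hF * tG hF 1 0) * (z * y)⁻¹ =
          z * (y * (wG hF * tG hF 1 0) * y⁻¹) * z⁻¹ := by group
      rw [e, hy]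
      rcases hz with h | h
      · rw [h]; exact h1
      · rw [h]; exact H.inv_mem h1
  · obtain ⟨x, hx⟩ := H53.SzReal.conj_involutions hm hF hw1 (wG_mul hF) (t1_ne hF (one_ne_zero (α := F)))
      (by rw [← pow_two, tG_sq, mul_zero, tG_one])
    refine ⟨x⁻¹, ?_⟩
    rw [inv_inv, hx]; exact h01

/-- the translations normalise a good subgroup containing an involution of the centre -/
theorem TT_le_nr (hF : Fintype.card F = 2 ^ (2 * m + 1)) {K : Subgroup (Sz F m)}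
    (hK : Good ⊥ K) {b : F} (hb : b ≠ 0) (h1 : tG hF 0 b ∈ K) : TT (m := m) hF ≤ nr K := by
  rintro _ ⟨s, t, rfl⟩
  refine hK.ti _ (tG hF 0 b) h1 (by rw [Subgroup.mem_bot]; exact t1_ne hF hb) ?_
  have : tG hF 0 b * tG hF s t = (tG hF s t * tG hF 0 b : Sz F m) := by
    rw [tG_mul, tG_mul, th_zero]
    congr 1 <;> ring
  rw [mul_assoc, this, inv_mul_cancel_left]
  exact h1

theorem no_four (hm : 1 ≤ m) (hF : Fintype.card F = 2 ^ (2 * m + 1)) {K : Subgroup (Sz F m)}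
    (hK : Good ⊥ K) (hne : K ≠ ⊤) {a b : F} (hab : tG hF a b ∈ K) : a = 0 := by
  by_contra ha
  obtain ⟨y, -, hy⟩ := four_cases (m := m) hF (b := b) ha
  have hK' := hK.cj y
  have h1 : tG hF 1 0 ∈ cj y K := by
    have h2 : y * tG hF a b * y⁻¹ ∈ cj y K := by
      rw [mem_cj]
      have e : y⁻¹ * (y * tG hF a b * y⁻¹) * y = tG hF a b := by group
      rw [e]; exact hab
    rcases hy with h | h
    · rw [← h]; exact h2
    · rw [h] at h2
      have := (cj y K).inv_mem h2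
      rwa [inv_inv] at this
  have h01 : tG hF 0 1 ∈ cj y K := by
    have := (cj y K).mul_mem h1 h1
    rw [← pow_two, tG_sq, th_one, one_mul] at this
    exact this
  obtain ⟨⟨v, hv⟩, x, hx⟩ := conj_w_one hm hF h1
  have hw : wG hF ∈ cj y K := hK'.star h1 (by
    rw [Subgroup.mem_bot]
    intro h
    rw [← tG_one hF] at h
    exact one_ne_zero (tG_inj hF h).1) hx hv
  have hT := TT_le_nr hF hK' one_ne_zero h01
  have htop := top_of_TT hm hF hT (le_nr _ hw) (w_not_mem hm hF)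
  apply hne
  apply cj_top' (g := y)
  apply top_of_normal hm hF htop
  intro h
  rw [h, Subgroup.mem_bot] at h01
  exact t1_ne hF one_ne_zero h01

theorem order_two_pow {G : Type*} [Group G] {x : G} {k : ℕ} (h : x ^ (2 ^ k) = 1) (hodd : Odd (orderOf x)) :
    x = 1 := by
  obtain ⟨j, -, hj⟩ := (Nat.dvd_prime_pow Nat.prime_two).1 (orderOf_dvd_of_pow_eq_one h)
  rcases Nat.eq_zero_or_pos j with rfl | hj0
  · rw [pow_zero] at hj
    exact orderOf_eq_one_iff.1 hj
  · rw [hj] at hodd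
    have : Even (2 ^ j) := (Nat.even_pow.2 ⟨even_two, by omega⟩)
    exact absurd this (Nat.not_even_iff_odd.2 hodd)

/-- good subgroup containing a central translation -/
theorem even_good (hm : 1 ≤ m) (hF : Fintype.card F = 2 ^ (2 * m + 1)) {K : Subgroup (Sz F m)}
    (hK : Good ⊥ K) (hne : K ≠ ⊤) {c : F} (hc : c ≠ 0) (h1 : tG hF 0 c ∈ K) : K = Z0 hF := by
  have two := two_eq_zero hF
  have hT := TT_le_nr hF hK hc h1
  have hKne : K ≠ ⊥ := by
    intro h
    rw [h, Subgroup.mem_bot] at h1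
    exact t1_ne hF hc h1
  have hnr : ∀ g ∈ nr K, g ∈ BB (m := m) hF := by
    intro g hg
    by_contra hgB
    exact hne (top_of_normal hm hF (top_of_TT hm hF hT hg hgB) hKne)
  apply le_antisymm
  · intro x hx
    have hxB := hnr x (le_nr _ hx)
    rcases cases_odd hm hF x with ⟨y, a, b, hy⟩ | hodd
    · have hx4 : x ^ (2 ^ 2) = 1 := by
        have h2 : (y * x * y⁻¹) ^ 4 = 1 := by rw [hy, tG_pow_four]
        rw [conj_pow] at h2
        have h3 : x ^ 4 = y⁻¹ * (y * x ^ 4 * y⁻¹) * y := by group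
        show x ^ 4 = 1
        rw [h3, h2]; group
      obtain ⟨a', b', hab⟩ := mem_TT_of_two hm hF hxB hx4
      rw [hab] at hx
      have := no_four hm hF hK hne hx
      rw [hab, this]
      exact ⟨b', rfl⟩
    · by_cases hx1 : x = 1
      · rw [hx1]; exact Subgroup.one_mem _
      exfalso
      obtain ⟨t, htt, ht1, ht⟩ := H53.SzReal.exists_inverting hm hF hx1 hodd
      apply inverting_not_mem hm hF hxB hx1 hodd htt ht
      apply hnr
      have hti := inv_involution htt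
      refine hK.ti t x hx (by rwa [Subgroup.mem_bot]) ?_
      rw [hti]
      have : t * x * t = x⁻¹ := by rw [← ht, hti]
      rw [this]; exact K.inv_mem hx
  · rintro _ ⟨b, rfl⟩
    by_cases hb : b = 0
    · rw [hb, tG_one]; exact K.one_mem
    by_cases hbc : b + c = 0
    · have : b = c := by linear_combination hbc - c * two
      rw [this]; exact h1
    obtain ⟨k, hk⟩ := H53.SzReal.conj_tG (m := m) hF hb hc
    obtain ⟨l, hl⟩ := H53.SzReal.conj_tG (m := m) hF hbc hc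
    refine hK.star (a := tG hF 0 c) (b := tG hF 0 b) (x := (dG hF k)⁻¹) (y := (dG hF l)⁻¹) h1
      (by rw [Subgroup.mem_bot]; exact t1_ne hF hc) ?_ ?_
    · rw [inv_inv, hk]; exact h1
    · have e : tG hF 0 b * tG hF 0 c = (tG hF 0 (b + c) : Sz F m) := by
        rw [tG_mul, th_zero]; congr 1 <;> ring
      rw [e, inv_inv, hl]; exact h1

/-- good subgroups are trivial, everything, or conjugate to `Z0` -/
theorem good_cases (hm : 1 ≤ m) (hF : Fintype.card F = 2 ^ (2 * m + 1)) {K : Subgroup (Sz F m)}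
    (hK : Good ⊥ K) : K = ⊥ ∨ K = ⊤ ∨ ∃ g, K = cj g (Z0 hF) := by
  by_cases hodd : ∀ x ∈ K, Odd (orderOf x)
  · left; exact odd_triv hm hF hK hodd
  right
  by_cases hne : K = ⊤
  · left; exact hne
  right
  push Not at hodd
  obtain ⟨x, hx, hxo⟩ := hodd
  rw [Nat.not_odd_iff_even] at hxo
  obtain ⟨j, hj⟩ := hxo.two_dvd
  have hj0 : j ≠ 0 := by
    rintro rfl
    have := orderOf_pos x
    omega
  have htt : x ^ j * x ^ j = 1 := by
    rw [← pow_add, ← two_mul, ← hj, pow_orderOf_eq_one]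
  have ht1 : x ^ j ≠ 1 := by
    intro h
    have := orderOf_dvd_of_pow_eq_one h
    rw [hj] at this
    have := Nat.le_of_dvd (by omega) this
    omega
  obtain ⟨y, b, hb, hy⟩ := H53.SzReal.exists_conj_tG hm hF ht1 htt
  have h1 : tG hF 0 b ∈ cj y K := by
    rw [← hy, mem_cj]
    have e : y⁻¹ * (y * x ^ j * y⁻¹) * y = x ^ j := by group
    rw [e]; exact K.pow_mem hx j
  have h2 := even_good hm hF (hK.cj y) (fun h => hne (cj_top' h)) hb h1
  refine ⟨y⁻¹, ?_⟩
  rw [← h2, cj_cj', inv_mul_cancel, cj_one']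

end H61.BinSz
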