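import Mathlib
import Cfsg.Agent.Lib.H61.RootND
import Cfsg.Agent.Lib.H61.BinSz2
import Cfsg.Agent.Lib.H24.SzIso
import Cfsg.Agent.Lib.H24.U3Syl

/-!
No two involutions of L₂(2ⁿ), Sz(q), U₃(2ⁿ) have a product of order four (helper61); connectivity of the commuting
graph of a non-degenerate class of root involutions from S5044.
-/

set_option autoImplicit false
open Cfsg H85.RootInv

namespace H61.RootND

universe u

/-- involutions with product of order dividing four commute -/
def No4 (L : Type*) [Group L] : Prop :=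
  ∀ u v : L, u * u = 1 → v * v = 1 → (u * v) ^ 4 = 1 → u * v = v * u

theorem No4.of_equiv {L M : Type*} [Group L] [Group M] (e : L ≃* M) (h : No4 M) : No4 L := by
  intro u v hu hv huv
  apply e.injective
  rw [map_mul, map_mul]
  exact h _ _ (by rw [← map_mul, hu, map_one]) (by rw [← map_mul, hv, map_one])
    (by rw [← map_mul, ← map_pow, huv, map_one])

/-- criterion via Sylow subgroups -/
theorem No4.of_sylow {L : Type*} [Group L] [Finite L] (h : ∀ S : Sylow 2 L, ∀ x ∈ (S : Subgroup L), x * x = 1 →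
    ∀ y ∈ (S : Subgroup L), x * y = y * x) : No4 L := by
  intro u v hu hv huv
  haveI : Fact (Nat.Prime 2) := ⟨Nat.prime_two⟩
  have h1 : IsPGroup 2 (Subgroup.zpowers u) := by
    rw [IsPGroup.iff_card]
    obtain ⟨j, -, hj⟩ := (Nat.dvd_prime_pow Nat.prime_two).1
      (show orderOf u ∣ 2 ^ 1 from orderOf_dvd_of_pow_eq_one (by rw [pow_one, pow_two, hu]))
    exact ⟨j, by rw [Nat.card_zpowers, hj]⟩
  have h2 : IsPGroup 2 (Subgroup.zpowers (u * v)) := by
    rw [IsPGroup.iff_card]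
    obtain ⟨j, -, hj⟩ := (Nat.dvd_prime_pow Nat.prime_two).1
      (show orderOf (u * v) ∣ 2 ^ 2 from orderOf_dvd_of_pow_eq_one huv)
    exact ⟨j, by rw [Nat.card_zpowers, hj]⟩
  have hui : u⁻¹ = u := inv_eq_of_mul_eq_one_right hu
  have hvi : v⁻¹ = v := inv_eq_of_mul_eq_one_right hv
  have h3 : Subgroup.zpowers u ≤ Subgroup.normalizer (Subgroup.zpowers (u * v) : Set L) := by
    rw [Subgroup.zpowers_le]
    have hc : ∀ x ∈ Subgroup.zpowers (u * v), u * x * u⁻¹ ∈ Subgroup.zpowers (u * v) := by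
      rintro x ⟨k, rfl⟩
      have e : u * (u * v) ^ k * u⁻¹ = (u * v) ^ (-k) := by
        rw [← conj_zpow, zpow_neg, ← inv_zpow]
        congr 1
        rw [mul_inv_rev, hui, hvi]
        calc u * (u * v) * u = (u * u) * v * u := by group
          _ = v * u := by rw [hu, one_mul]
      show u * (u * v) ^ k * u⁻¹ ∈ _
      rw [e]
      exact ⟨-k, rfl⟩
    rw [Subgroup.mem_normalizer_iff]
    intro x
    refine ⟨hc x, fun hx => ?_⟩
    have := hc _ hx
    rw [hui] at this
    have e : u * (u * x * u) * u = x := by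
      calc u * (u * x * u) * u = (u * u) * x * (u * u) := by group
        _ = x := by rw [hu, one_mul, mul_one]
    rwa [e] at this
  have h4 : IsPGroup 2 ((Subgroup.zpowers u ⊔ Subgroup.zpowers (u * v) : Subgroup L)) :=
    IsPGroup.to_sup_of_normal_right' h1 h2 h3
  obtain ⟨S, hS⟩ := h4.exists_le_sylow
  have huS : u ∈ (S : Subgroup L) := hS ((le_sup_left : Subgroup.zpowers u ≤ _) (Subgroup.mem_zpowers u))
  have huvS : u * v ∈ (S : Subgroup L) :=
    hS ((le_sup_right : Subgroup.zpowers (u * v) ≤ _) (Subgroup.mem_zpowers (u * v)))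
  have hvS : v ∈ (S : Subgroup L) := by
    have := (S : Subgroup L).mul_mem ((S : Subgroup L).inv_mem huS) huvS
    rwa [inv_mul_cancel_left] at this
  exact h S u huS hu v hvS

/-- one Sylow subgroup is enough -/
theorem No4.of_one {L : Type*} [Group L] [Finite L] [Fact (Nat.Prime 2)] (S : Sylow 2 L)
    (h : ∀ x ∈ (S : Subgroup L), x * x = 1 → ∀ y ∈ (S : Subgroup L), x * y = y * x) : No4 L := by
  apply No4.of_sylow
  intro T x hx hxx y hy
  obtain ⟨e⟩ : Nonempty (T ≃* S) := ⟨T.equiv S⟩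
  have h1 := h (e ⟨x, hx⟩) (e ⟨x, hx⟩).2 (by
    rw [← Subgroup.coe_mul, ← map_mul]
    have : (⟨x, hx⟩ : T) * ⟨x, hx⟩ = 1 := Subtype.ext hxx
    rw [this, map_one]; rfl) (e ⟨y, hy⟩) (e ⟨y, hy⟩).2
  rw [← Subgroup.coe_mul, ← Subgroup.coe_mul, ← map_mul, ← map_mul] at h1
  exact congrArg Subtype.val (e.injective (Subtype.ext h1))

theorem no4_of_equiv_model {L P : Type*} [Group L] [Finite L] [Fact (Nat.Prime 2)] [Group P] (S : Sylow 2 L)
    (e : S ≃* P) (h : ∀ x : P, x * x = 1 → ∀ y : P, x * y = y * x) : No4 L := by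
  apply No4.of_one S
  intro x hx hxx y hy
  have h1 := h (e ⟨x, hx⟩) (by
    rw [← map_mul]
    have : (⟨x, hx⟩ : S) * ⟨x, hx⟩ = 1 := Subtype.ext hxx
    rw [this, map_one]) (e ⟨y, hy⟩)
  rw [← map_mul, ← map_mul] at h1
  exact congrArg Subtype.val (e.injective h1)

theorem no4_psu {K : Type} [Field K] [Fintype K] {q : ℕ} [CharP K 2] (hK : Fintype.card K = q ^ 2) (hq : 4 ≤ q) :
    No4 (PSU 3 K q) := by
  haveI : Fact (Nat.Prime 2) := ⟨Nat.prime_two⟩
  have two : (2 : K) = 0 := by exact_mod_cast CharP.cast_eq_zero K 2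
  obtain ⟨n, hn⟩ : ∃ n, q = 2 ^ n := by
    obtain ⟨k, -, hk⟩ := FiniteField.card K 2
    rw [hK] at hk
    have : q ∣ 2 ^ (k : ℕ) := ⟨q, by rw [← hk, pow_two]⟩
    obtain ⟨n, -, hn⟩ := (Nat.dvd_prime_pow Nat.prime_two).1 this
    exact ⟨n, hn⟩
  have hn2 : 2 ≤ n := by
    by_contra hlt
    have : n ≤ 1 := by omega
    have : q ≤ 2 := by
      rw [hn]
      calc 2 ^ n ≤ 2 ^ 1 := Nat.pow_le_pow_right (by norm_num) this
        _ = 2 := by norm_num
    omega
  have hfin : Finite (PSU 3 K q) := inferInstance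
  let S : Sylow 2 (PSU 3 K q) := default
  obtain ⟨e⟩ := H24.U3Syl.main two hK hn2 hn S
  apply no4_of_equiv_model S e
  rintro ⟨x, a, b, hab, rfl⟩ hx ⟨y, c, d, hcd, rfl⟩
  have h1 : H24.U3Syl.u q a b * H24.U3Syl.u q a b = 1 := congrArg Subtype.val hx
  rw [H24.U3Syl.invol_iff two hK] at h1
  subst h1
  apply Subtype.ext
  show H24.U3Syl.u q 0 b * H24.U3Syl.u q c d = H24.U3Syl.u q c d * H24.U3Syl.u q 0 b
  have hq0 : q ≠ 0 := by omega
  rw [H24.U3Syl.u_mul hK, H24.U3Syl.u_mul hK, zero_pow hq0]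
  congr 1 <;> ring

theorem no4_sz {G : Type*} [Group G] (h : Lie.IsoSuzuki G) : No4 G := by
  obtain ⟨F, _, _, m, hm, hF, ⟨e⟩⟩ := h
  haveI : Fact (Nat.Prime 2) := ⟨Nat.prime_two⟩
  apply No4.of_equiv (e.trans (H24.SzIso.equiv hF hm).symm)
  apply No4.of_one (H8.SuzSylow.PT (m := m) hm hF)
  intro x hx hxx y hy
  have hx' : x ∈ H8.SuzSylow.TT (m := m) hF := hx
  obtain ⟨b, rfl⟩ := H61.BinSz.mem_Z0_of_sq hF hx' hxx
  obtain ⟨c, d, rfl⟩ := hy
  rw [H8.SuzSylow.tG_mul, H8.SuzSylow.tG_mul, H8.SuzField.th_zero]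
  congr 1 <;> ring

open Matrix in
theorem sl2_sq {F : Type*} [Field F] (M : SpecialLinearGroup (Fin 2) F) :
    M.1 * M.1 = M.1.trace • M.1 - 1 := by
  have hd := M.2
  rw [Matrix.det_fin_two] at hd
  ext i j
  fin_cases i <;> fin_cases j <;>
    simp [Matrix.mul_apply, Fin.sum_univ_two, Matrix.trace_fin_two]
  · linear_combination (-1 : F) * hd
  · ring
  · ring
  · linear_combination (-1 : F) * hd

open Matrix in
theorem no4_sl2 {F : Type*} [Field F] [CharP F 2] : No4 (SpecialLinearGroup (Fin 2) F) := by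
  have two : (2 : F) = 0 := by exact_mod_cast CharP.cast_eq_zero F 2
  have key : ∀ M : SpecialLinearGroup (Fin 2) F, M * M = 1 ↔ M.1.trace = 0 := by
    intro M
    have h1 := sl2_sq M
    constructor
    · intro h
      have h2 : M.1 * M.1 = 1 := congrArg Subtype.val h
      rw [h2] at h1
      have h3 : M.1.trace • M.1 = 0 := by
        have : M.1.trace • M.1 = (2 : F) • (1 : Matrix (Fin 2) (Fin 2) F) := by
          rw [two_smul]
          rw [eq_sub_iff_add_eq] at h1
          exact h1.symm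
        rw [this, two, zero_smul]
      rcases smul_eq_zero.1 h3 with h4 | h4
      · exact h4
      · rw [h4]; simp
    · intro h
      apply Subtype.ext
      show M.1 * M.1 = 1
      rw [h1, h, zero_smul, zero_sub]
      ext i j
      have : ∀ x : F, -x = x := fun x => by linear_combination (-x) * two
      rw [Matrix.neg_apply, this]
  intro u v hu hv huv
  have h1 : ((u * v) * (u * v)) * ((u * v) * (u * v)) = 1 := by
    rw [← huv]; simp only [pow_succ, pow_zero, one_mul, mul_assoc]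
  rw [key] at h1
  have h2 : ((u * v) * (u * v)).1.trace = (u * v).1.trace * (u * v).1.trace := by
    show ((u * v).1 * (u * v).1).trace = _
    rw [sl2_sq, Matrix.trace_sub, Matrix.trace_smul, Matrix.trace_one]
    simp only [Fintype.card_fin, smul_eq_mul]
    linear_combination (-1 : F) * two
  rw [h2] at h1
  have h3 := (key _).2 (mul_self_eq_zero.1 h1)
  calc u * v = u * v * ((u * v) * (u * v)) * ((v * v)) * 1 := by rw [h3, hv]; simp
    _ = u * v * ((u * v) * (u * v)) := by rw [hv]; simp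
    _ = u * v := by rw [h3, mul_one]
    _ = (u * v)⁻¹ := by rw [eq_inv_iff_mul_eq_one]; exact h3
    _ = v⁻¹ * u⁻¹ := mul_inv_rev u v
    _ = v * u := by rw [inv_eq_of_mul_eq_one_right hu, inv_eq_of_mul_eq_one_right hv]

open Matrix in
theorem no4_psl2 {F : Type*} [Field F] [CharP F 2] : No4 (ProjectiveSpecialLinearGroup (Fin 2) F) := by
  have two : (2 : F) = 0 := by exact_mod_cast CharP.cast_eq_zero F 2
  have hc : ∀ M ∈ Subgroup.center (SpecialLinearGroup (Fin 2) F), M = 1 := by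
    intro M hM
    rw [Matrix.SpecialLinearGroup.mem_center_iff] at hM
    obtain ⟨r, hr, hM⟩ := hM
    have h1 : (r - 1) * (r - 1) = 0 := by
      have : r ^ 2 = 1 := by simpa using hr
      linear_combination this - r * two + two
    have h2 : r = 1 := by
      have := mul_self_eq_zero.1 h1
      linear_combination this
    apply Subtype.ext
    rw [← hM, h2]
    simp
  intro u v hu hv huv
  obtain ⟨u, rfl⟩ := QuotientGroup.mk_surjective u
  obtain ⟨v, rfl⟩ := QuotientGroup.mk_surjective v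
  have h1 : u * u = 1 := hc _ ((QuotientGroup.eq_one_iff _).1 (by rw [QuotientGroup.mk_mul]; exact hu))
  have h2 : v * v = 1 := hc _ ((QuotientGroup.eq_one_iff _).1 (by rw [QuotientGroup.mk_mul]; exact hv))
  have h3 : (u * v) ^ 4 = 1 := hc _ ((QuotientGroup.eq_one_iff _).1 (by
    rw [QuotientGroup.mk_pow, QuotientGroup.mk_mul]; exact huv))
  have h4 := no4_sl2 u v h1 h2 h3
  rw [← QuotientGroup.mk_mul, ← QuotientGroup.mk_mul, h4]

/-- the statement S5044 -/
def Stm44 : Prop := ∀ (G : Type u) [Group G] [Finite G] (D : Set G), IsRootInvolutionSet D →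
    (D ∩ commutingProducts D).Nonempty →
    IsConnectedSet (CommAdj D) D ∨
    (∃ (F : Type) (_ : Field F) (_ : Fintype F), CharP F 2 ∧ 4 ≤ Fintype.card F ∧
      Nonempty (G ⧸ twoZCore G ≃* Matrix.ProjectiveSpecialLinearGroup (Fin 2) F)) ∨
    Lie.IsoSuzuki (G ⧸ twoZCore G) ∨
    (∃ (F : Type) (_ : Field F) (_ : Fintype F) (q : ℕ), CharP F 2 ∧ Fintype.card F = q ^ 2 ∧ 4 ≤ q ∧
      Nonempty (G ⧸ twoZCore G ≃* PSU 3 F q))

theorem commConn_of (h44 : Stm44.{u}) : CommConn.{u} := by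
  intro G _ _ D h
  have hD := h.cl.1
  have hc := h.conn
  obtain ⟨-, -, -, ⟨a, ha, b, hb, hab⟩⟩ := h.nd
  have hb' : b ∈ fourPartners D a := ⟨hb, hab⟩
  have hm := four_mem hD ha hb'
  have hcl := four_comm_left hD ha hb'
  have hml := four_mul_left_mem hD ha hb'
  have hDD : (D ∩ commutingProducts D).Nonempty := by
    refine ⟨a * (a * b) ^ 2, hml, a, ha, (a * b) ^ 2, hm, hcl.eq, ?_, rfl⟩
    exact ne_one hD hml
  have hns := not_solvable hD hc hDD
  have hfalse : No4 (G ⧸ twoZCore G) → False := by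
    intro hn
    have hq : ∀ x : G, x ∈ D → (x : G ⧸ twoZCore G) * (x : G ⧸ twoZCore G) = 1 := by
      intro x hx
      rw [← QuotientGroup.mk_mul, sq hD hx, QuotientGroup.mk_one]
    have h1 := hn (a : G ⧸ twoZCore G) (b : G ⧸ twoZCore G) (hq a ha) (hq b hb) (by
      rw [← QuotientGroup.mk_mul, ← QuotientGroup.mk_pow, ← hab, pow_orderOf_eq_one, QuotientGroup.mk_one])
    have h2 : (((a * b) ^ 2 : G) : G ⧸ twoZCore G) = 1 := by
      rw [QuotientGroup.mk_pow, QuotientGroup.mk_mul, pow_two]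
      nth_rewrite 2 [h1]
      calc (a : G ⧸ twoZCore G) * b * (b * a) = a * (b * b) * a := by group
        _ = 1 := by rw [hq b hb, mul_one, hq a ha]
    have h3 := (QuotientGroup.eq_one_iff _).1 h2
    have h4 := eq_top_of_mem hD hc (inferInstance : (twoZCore G).Normal) hm h3
    apply hns
    have h5 := twoZCore_solvable (G := G)
    rw [h4] at h5
    exact Group.isSolvable_of_surjective (f := (Subgroup.topEquiv : (⊤ : Subgroup G) ≃* G).toMonoidHom)
      Subgroup.topEquiv.surjective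
  rcases h44 G D hD hDD with h1 | ⟨F, _, _, hF, -, ⟨e⟩⟩ | h1 | ⟨F, _, _, q, hF, hK, hq, ⟨e⟩⟩
  · exact h1
  · exact (hfalse (No4.of_equiv e no4_psl2)).elim
  · exact (hfalse (no4_sz h1)).elim
  · exact (hfalse (No4.of_equiv e (no4_psu hK hq))).elim

end H61.RootND
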