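import Cfsg.Agent.Lib.H61.J1d
import Mathlib.GroupTheory.SpecificGroups.Cyclic

set_option autoImplicit false

/-! The Janko group `J1`: perfectness and simplicity. -/

namespace H61.J1

open H61.Mat7 Cfsg.Spor
open scoped commutatorElement

def y : J := ⟨jankoY, Subgroup.subset_closure (by simp)⟩

theorem Cd_y : Cd yC (y : GM) := Cd_Y

theorem y_pow : y ^ 5 = 1 := ext_of (Cd_pow' Cd_y 5) Cd_1 (by decide +kernel)

theorem gen_xy : Subgroup.closure ({x, y} : Set J) = ⊤ := by
  have h : (Subgroup.closure ({x, y} : Set J)).map Cfsg.Spor.J1.subtype = Cfsg.Spor.J1 := by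
    rw [MonoidHom.map_closure, Set.image_pair]
    rfl
  rw [eq_top_iff]
  intro g _
  have h1 : (g : GM) ∈ (Subgroup.closure ({x, y} : Set J)).map Cfsg.Spor.J1.subtype := by rw [h]; exact g.2
  obtain ⟨k, hk, hk'⟩ := h1
  have : k = g := Subtype.ext hk'
  rw [← this]; exact hk

theorem hom_trivial {A : Type*} [CommGroup A] (φ : J →* A) : φ = 1 := by
  have hx : φ x = 1 := by
    have h1 := congrArg φ z_x
    rw [map_mul, map_mul, map_pow, mul_comm (φ x ^ 4)] at h1
    have h2 : φ x = φ x ^ 4 := mul_left_cancel h1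
    have h3 : φ x ^ 3 = 1 := by
      have : φ x * φ x ^ 3 = φ x * 1 := by rw [mul_one, ← pow_succ']; exact h2.symm
      exact mul_left_cancel this
    have h4 : φ x ^ 7 = 1 := by rw [← map_pow, x_pow, map_one]
    calc φ x = (φ x ^ 3) ^ 5 * ((φ x ^ 7) ^ 2)⁻¹ := by
          rw [← pow_mul, ← pow_mul, eq_mul_inv_iff_mul_eq, ← pow_succ']
      _ = 1 := by rw [h3, h4]; simp
  have hsi : ∀ i, φ (si i) = φ s := by
    intro i
    rw [si_eq, map_mul, map_mul, map_inv, map_pow, hx]
    simp
  have hs : φ s = 1 := by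
    have h1 := congrArg φ l1
    rw [map_mul, hsi, hsi] at h1
    exact mul_eq_left.1 h1
  have h6 : ∀ g : J, φ g ^ 6 = 1 := by
    intro g
    have hg : g ∈ Subgroup.closure ({x, z, s, u} : Set J) := by rw [gen]; trivial
    induction hg using Subgroup.closure_induction with
    | mem w hw =>
      rcases hw with rfl | rfl | rfl | rfl
      · rw [hx, one_pow]
      · rw [← map_pow, show (6 : ℕ) = 3 * 2 by norm_num, pow_mul, z_pow, one_pow, map_one]
      · rw [hs, one_pow]
      · rw [← map_pow, show (6 : ℕ) = 2 * 3 by norm_num, pow_mul, pow_two, u_sq, one_pow, map_one]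
    | one => rw [map_one, one_pow]
    | mul a b _ _ ha hb => rw [map_mul, mul_pow, ha, hb, one_mul]
    | inv a _ ha => rw [map_inv, inv_pow, ha, inv_one]
  have hy : φ y = 1 := by
    have h5 : φ y ^ 5 = 1 := by rw [← map_pow, y_pow, map_one]
    have := h6 y
    rw [pow_succ, h5, one_mul] at this
    exact this
  have hall : ∀ g : J, φ g = 1 := by
    intro g
    have hg : g ∈ Subgroup.closure ({x, y} : Set J) := by rw [gen_xy]; trivial
    induction hg using Subgroup.closure_induction with
    | mem w hw =>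
      rcases hw with rfl | rfl
      · exact hx
      · exact hy
    | one => exact map_one φ
    | mul a b _ _ ha hb => rw [map_mul, ha, hb, one_mul]
    | inv a _ ha => rw [map_inv, ha, inv_one]
  ext g
  rw [hall g]; rfl

theorem perfect : commutator J = ⊤ := by
  have h := hom_trivial (Abelianization.of : J →* Abelianization J)
  rw [← Abelianization.ker_of, h]
  exact MonoidHom.ker_one

theorem commute_s_pow {i : ℕ} (h : Commute (x ^ i) s) : x ^ i = 1 := by
  have h1 : si i = si 0 := by
    rw [si_zero, si_eq, h.eq, mul_inv_cancel_right]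
  rw [← si_mod, ← si_mod 0] at h1
  have h2 := si_inj (Nat.mod_lt _ (by norm_num)) (Nat.mod_lt _ (by norm_num)) h1
  have h3 : 7 ∣ i := Nat.dvd_of_mod_eq_zero h2
  obtain ⟨k, rfl⟩ := h3
  rw [pow_mul, x_pow, one_pow]

/-- the centralizer of `{x, s}` is trivial -/
theorem cent_xs {g : J} (h1 : Commute g x) (h2 : Commute g s) : g = 1 := by
  have h3 := cent_x h1
  have hfin : IsOfFinOrder x := isOfFinOrder_of_finite x
  rw [hfin.mem_zpowers_iff_mem_range_orderOf] at h3
  rw [Finset.mem_image] at h3
  obtain ⟨i, -, rfl⟩ := h3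
  exact commute_s_pow h2

theorem not_cyclic_normal (K : Subgroup J) [K.Normal] [IsCyclic K] : K = ⊥ := by
  have hφ : ∀ g : J, (MulAut.conjNormal g : MulAut K) = 1 := by
    intro g
    let e := IsCyclic.mulAutMulEquiv K
    let φ : J →* (ZMod (Nat.card K))ˣ := e.toMonoidHom.comp MulAut.conjNormal
    have h := hom_trivial φ
    have h1 : e (MulAut.conjNormal g) = 1 := congrArg (fun f => f g) h
    exact (MulEquiv.map_eq_one_iff e).1 h1
  rw [eq_bot_iff]
  intro k hk
  have hc : ∀ g : J, Commute k g := by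
    intro g
    have h := congrArg (fun f : MulAut K => ((f ⟨k, hk⟩ : K) : J)) (hφ g)
    simp only [MulAut.conjNormal_apply, MulAut.one_apply] at h
    have : g * k = k * g := by
      rw [mul_inv_eq_iff_eq_mul] at h
      exact h
    exact this.symm
  rw [Subgroup.mem_bot]
  exact cent_xs (hc x) (hc s)

/-- two subgroups of order a full prime power are conjugate -/
theorem conj_of_card {G : Type*} [Group G] [Finite G] (p n : ℕ) [Fact p.Prime] (hn : ¬ p ^ (n + 1) ∣ Nat.card G)
    (A B : Subgroup G) (hA : Nat.card A = p ^ n) (hB : Nat.card B = p ^ n) :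
    ∃ g : G, ∀ a, a ∈ A ↔ g * a * g⁻¹ ∈ B := by
  have hsyl : ∀ W : Subgroup G, Nat.card W = p ^ n → ∃ Q : Sylow p G, (Q : Subgroup G) = W := by
    intro W hW
    have hp : IsPGroup p W := IsPGroup.of_card hW
    obtain ⟨Q, hQ⟩ := hp.exists_le_sylow
    refine ⟨Q, ?_⟩
    symm
    apply Subgroup.eq_of_le_of_card_ge hQ
    obtain ⟨k, hk⟩ := IsPGroup.iff_card.1 Q.isPGroup'
    have hdvd := Subgroup.card_subgroup_dvd_card (Q : Subgroup G)
    rw [hk] at hdvd
    have hkn : k ≤ n := by
      by_contra hcon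
      exact hn ((Nat.pow_dvd_pow p (by omega)).trans hdvd)
    rw [hk, hW]
    exact Nat.pow_le_pow_right (Fact.out : p.Prime).one_le hkn
  obtain ⟨Q1, hQ1⟩ := hsyl A hA
  obtain ⟨Q2, hQ2⟩ := hsyl B hB
  obtain ⟨g, hg⟩ := MulAction.exists_smul_eq G Q1 Q2
  refine ⟨g, ?_⟩
  intro a
  rw [← hQ1, ← hQ2, ← hg, Sylow.coe_subgroup_smul]
  constructor
  · intro ha
    exact ⟨a, ha, rfl⟩
  · rintro ⟨b, hb, hb'⟩
    have : b = a := by
      have h1 : g * b * g⁻¹ = g * a * g⁻¹ := hb'
      exact mul_left_cancel (mul_right_cancel h1)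
    rw [← this]; exact hb

instance fact2 : Fact (Nat.Prime 2) := ⟨Nat.prime_two⟩

/-- every involution is conjugate to `s` -/
theorem invol_conj {t : J} (ht : orderOf t = 2) : ∃ g : J, g * t * g⁻¹ = s := by
  -- a subgroup of order 8 containing `t`
  obtain ⟨Q, hQ⟩ := (IsPGroup.of_card (p := 2) (n := 1) (by rw [Nat.card_zpowers, ht, pow_one]) :
    IsPGroup 2 (Subgroup.zpowers t)).exists_le_sylow
  obtain ⟨Q', hQ'⟩ := (IsPGroup.of_card (p := 2) (n := 3) (by rw [card_D]; norm_num) : IsPGroup 2 D).exists_le_sylow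
  have hcard : ∀ P : Sylow 2 J, Nat.card P ≤ 8 := by
    intro P
    obtain ⟨k, hk⟩ := IsPGroup.iff_card.1 P.isPGroup'
    have hdvd := Subgroup.card_subgroup_dvd_card (P : Subgroup J)
    rw [hk, card_J1] at hdvd
    have : k ≤ 3 := by
      by_contra hcon
      have h2 : 2 ^ 4 ∣ 175560 := (Nat.pow_dvd_pow 2 (by omega)).trans hdvd
      norm_num at h2
    rw [hk]
    calc 2 ^ k ≤ 2 ^ 3 := Nat.pow_le_pow_right (by norm_num) this
      _ = 8 := by norm_num
  have hD : D = Q' := Subgroup.eq_of_le_of_card_ge hQ' (by rw [card_D]; exact hcard Q')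
  obtain ⟨g, hg⟩ := MulAction.exists_smul_eq J Q Q'
  have h1 : g * t * g⁻¹ ∈ D := by
    rw [hD, ← hg, Sylow.coe_subgroup_smul]
    exact ⟨t, hQ (Subgroup.mem_zpowers t), rfl⟩
  rcases h1 with h1 | ⟨i, h1⟩
  · exfalso
    have : t = 1 := by
      have h2 : t = g⁻¹ * (g * t * g⁻¹) * g := by group
      rw [h2, h1]; group
    rw [this, orderOf_one] at ht
    exact absurd ht (by norm_num)
  · refine ⟨(x ^ i)⁻¹ * g, ?_⟩
    have h2 : (x ^ i)⁻¹ * g * t * ((x ^ i)⁻¹ * g)⁻¹ = (x ^ i)⁻¹ * (g * t * g⁻¹) * x ^ i := by group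
    rw [h2, h1, si_eq]
    group

theorem simple : IsSimpleGroup J := by
  have hnt : Nontrivial J := ⟨⟨x, 1, x_ne⟩⟩
  refine { exists_pair_ne := hnt.exists_pair_ne, eq_bot_or_eq_top_of_normal := ?_ }
  intro N hN
  by_cases hbot : N = ⊥
  · exact Or.inl hbot
  right
  have hdvd : Nat.card N ∣ 175560 := by rw [← card_J1]; exact Subgroup.card_subgroup_dvd_card N
  by_cases h2 : 2 ∣ Nat.card N
  · obtain ⟨t, ht⟩ := exists_prime_orderOf_dvd_card' 2 h2
    have ht' : orderOf (t : J) = 2 := by rw [Subgroup.orderOf_coe]; exact ht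
    obtain ⟨g, hg⟩ := invol_conj ht'
    have hsN : s ∈ N := by rw [← hg]; exact hN.conj_mem _ t.2 g
    have hDN : D ≤ N := by
      rintro d (rfl | ⟨i, rfl⟩)
      · exact one_mem _
      · rw [si_eq]; exact hN.conj_mem _ hsN _
    have h8 : 8 ∣ Nat.card N := by rw [← card_D]; exact Subgroup.card_dvd_of_le hDN
    have hidx : N.index ∣ 21945 := by
      have h3 := N.card_mul_index
      rw [card_J1] at h3
      obtain ⟨c, hc⟩ := h8
      refine ⟨c, ?_⟩
      rw [hc] at h3
      have : 8 * (N.index * c) = 8 * 21945 := by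
        calc 8 * (N.index * c) = 8 * c * N.index := by ring
          _ = 175560 := h3
          _ = 8 * 21945 := by norm_num
      exact (Nat.eq_of_mul_eq_mul_left (by norm_num) this).symm
    have huN : u ∈ N := by
      have h4 : ((u : J) : J ⧸ N) ^ 2 = 1 := by
        rw [← QuotientGroup.mk_pow, pow_two, u_sq]; rfl
      have h5 : ((u : J) : J ⧸ N) ^ (Nat.card (J ⧸ N)) = 1 := pow_card_eq_one'
      have h6 : orderOf ((u : J) : J ⧸ N) ∣ 2 := orderOf_dvd_of_pow_eq_one h4
      have h7 : orderOf ((u : J) : J ⧸ N) ∣ 21945 := by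
        refine (orderOf_dvd_of_pow_eq_one h5).trans ?_
        rw [← Subgroup.index_eq_card]
        exact hidx
      have h8 : orderOf ((u : J) : J ⧸ N) ∣ 1 := by
        have := Nat.dvd_gcd h6 h7
        have e : Nat.gcd 2 21945 = 1 := by norm_num
        rwa [e] at this
      have h9 : ((u : J) : J ⧸ N) = 1 := orderOf_eq_one_iff.1 (Nat.dvd_one.1 h8)
      exact (QuotientGroup.eq_one_iff _).1 h9
    have hxN : x ∈ N := by
      have h3 : x⁻¹ * (u * x * u⁻¹) ∈ N := by
        have h4 : x⁻¹ * u * x ∈ N := by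
          have := hN.conj_mem u huN x⁻¹
          rwa [inv_inv] at this
        have h5 := mul_mem h4 (inv_mem huN)
        have e : x⁻¹ * u * x * u⁻¹ = x⁻¹ * (u * x * u⁻¹) := by group
        rwa [e] at h5
      have h4 : u * x * u⁻¹ = x ^ 6 := by rw [u_x, mul_inv_cancel_right]
      rw [h4] at h3
      have h5 : x⁻¹ * x ^ 6 = x ^ 5 := by rw [pow_succ' x 5, inv_mul_cancel_left]
      rw [h5] at h3
      have h6 : x = (x ^ 5) ^ 3 := by
        rw [← pow_mul]
        calc x = (x ^ 7) ^ 2 * x := by rw [x_pow]; simp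
          _ = x ^ (5 * 3) := by rw [← pow_mul, ← pow_succ]
      rw [h6]
      exact pow_mem h3 3
    -- the quotient is cyclic, generated by the image of `z`
    have hcomm : ∀ g h : J, g * h * g⁻¹ * h⁻¹ ∈ N := by
      have hall : ∀ g : J, ∃ k : ℤ, ((g : J) : J ⧸ N) = ((z : J) : J ⧸ N) ^ k := by
        intro g
        have hg : g ∈ Subgroup.closure ({x, z, s, u} : Set J) := by rw [gen]; trivial
        induction hg using Subgroup.closure_induction with
        | mem w hw =>
          rcases hw with rfl | rfl | rfl | rfl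
          · exact ⟨0, by rw [zpow_zero]; exact (QuotientGroup.eq_one_iff _).2 hxN⟩
          · exact ⟨1, (zpow_one _).symm⟩
          · exact ⟨0, by rw [zpow_zero]; exact (QuotientGroup.eq_one_iff _).2 hsN⟩
          · exact ⟨0, by rw [zpow_zero]; exact (QuotientGroup.eq_one_iff _).2 huN⟩
        | one => exact ⟨0, by rw [zpow_zero]; rfl⟩
        | mul a b _ _ ha hb =>
          obtain ⟨k, hk⟩ := ha
          obtain ⟨l, hl⟩ := hb
          exact ⟨k + l, by rw [QuotientGroup.mk_mul, hk, hl, zpow_add]⟩
        | inv a _ ha =>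
          obtain ⟨k, hk⟩ := ha
          exact ⟨-k, by rw [QuotientGroup.mk_inv, hk, zpow_neg]⟩
      intro g h
      obtain ⟨k, hk⟩ := hall g
      obtain ⟨l, hl⟩ := hall h
      rw [← QuotientGroup.eq_one_iff]
      rw [QuotientGroup.mk_mul, QuotientGroup.mk_mul, QuotientGroup.mk_mul, QuotientGroup.mk_inv, QuotientGroup.mk_inv, hk, hl,
        ← zpow_neg, ← zpow_neg, ← zpow_add, ← zpow_add, ← zpow_add]
      have : k + l + -k + -l = 0 := by ring
      rw [this, zpow_zero]
    rw [eq_top_iff, ← perfect]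
    rw [commutator_eq_closure, Subgroup.closure_le]
    rintro g ⟨a, b, rfl⟩
    exact hcomm a b
  · -- odd order
    exfalso
    have hsq : Squarefree (Nat.card N) := by
      have h3 : Nat.card N ∣ 21945 := by
        have hco : Nat.Coprime (Nat.card N) 8 := by
          have : Nat.Coprime (Nat.card N) 2 := ((Nat.prime_two.coprime_iff_not_dvd).2 h2).symm
          have := this.pow_right 3
          norm_num at this
          exact this
        have h4 : Nat.card N ∣ 8 * 21945 := hdvd
        exact hco.dvd_of_dvd_mul_left h4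
      have h4 : Squarefree 21945 := by
        rw [show (21945 : ℕ) = 3 * (5 * (7 * (11 * 19))) by norm_num]
        refine (Nat.squarefree_mul (by norm_num)).2 ⟨(by norm_num : Nat.Prime 3).squarefree, ?_⟩
        refine (Nat.squarefree_mul (by norm_num)).2 ⟨(by norm_num : Nat.Prime 5).squarefree, ?_⟩
        refine (Nat.squarefree_mul (by norm_num)).2 ⟨(by norm_num : Nat.Prime 7).squarefree, ?_⟩
        exact (Nat.squarefree_mul (by norm_num)).2 ⟨(by norm_num : Nat.Prime 11).squarefree, (by norm_num : Nat.Prime 19).squarefree⟩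
      exact h4.squarefree_of_dvd h3
    have hZ : IsZGroup N := IsZGroup.of_squarefree hsq
    by_cases hc : commutator N = ⊥
    · have : Group.IsNilpotent N := by
        have hcomm : ∀ a b : N, a * b = b * a := by
          intro a b
          have h3 : ⁅a, b⁆ ∈ commutator N := Subgroup.commutator_mem_commutator (Subgroup.mem_top a) (Subgroup.mem_top b)
          rw [hc, Subgroup.mem_bot] at h3
          exact commutatorElement_eq_one_iff_mul_comm.1 h3
        let _ : CommGroup N := { (inferInstance : Group N) with mul_comm := hcomm }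
        infer_instance
      have : IsCyclic N := inferInstance
      exact hbot (not_cyclic_normal N)
    · have hcyc : IsCyclic (commutator N) := IsZGroup.isCyclic_commutator N
      have hnorm : ((commutator N).map N.subtype).Normal := inferInstance
      have hcyc' : IsCyclic ((commutator N).map N.subtype) := by
        have e := (commutator N).equivMapOfInjective N.subtype (Subgroup.subtype_injective N)
        exact isCyclic_of_surjective e.toMonoidHom e.surjective
      have h3 := not_cyclic_normal ((commutator N).map N.subtype)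
      apply hc
      rw [Subgroup.map_eq_bot_iff_of_injective _ (Subgroup.subtype_injective N)] at h3
      exact h3

end H61.J1
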