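import Cfsg.Agent.Lib.H61.J1e
import Cfsg.Agent.S3377

set_option autoImplicit false

/-! The Janko group `J1`: the centralizer of an involution. -/

namespace H61.J1

open H61.Mat7 Cfsg.Spor

theorem exists_J {c : ℕ} (h : ∃ g ∈ G0, Cd c g) : ∃ g : J, Cd c (g : GM) := by
  obtain ⟨g, hg, hc⟩ := h
  rw [G0_eq] at hg
  exact ⟨⟨g, hg⟩, hc⟩

theorem exists_ab : ∃ a b : J, a ^ 3 = 1 ∧ b ^ 5 = 1 ∧ (a * b) ^ 2 = 1 ∧ a * s = s * a ∧ b * s = s * b ∧ a ≠ 1 := by
  obtain ⟨a, ha⟩ := exists_J (c := HL.getD 67 0) (by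
    obtain ⟨g, hg, hc⟩ := HL_spec' (getD_mem (l := HL) (n := 67) (by rw [len_HL]; norm_num))
    exact ⟨g, H_le_G0 hg, hc⟩)
  obtain ⟨b, hb⟩ := exists_J (c := Mat7.mul (HL.getD 9 0) (Mat7.mul (DL.getD 10 0) (HL.getD 59 0))) (by
    obtain ⟨g, hg, hc⟩ := HL_spec' (getD_mem (l := HL) (n := 9) (by rw [len_HL]; norm_num))
    obtain ⟨e, he, hec⟩ := exists_code 10 59 (by norm_num) (by norm_num)
    exact ⟨g * e, mul_mem (H_le_G0 hg) he, hc.mul hec⟩)
  refine ⟨a, b, ?_, ?_, ?_, ?_, ?_, ?_⟩
  · exact ext_of (Cd_pow' ha 3) Cd_1 (by decide +kernel)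
  · exact ext_of (Cd_pow' hb 5) Cd_1 (by decide +kernel)
  · exact ext_of (Cd_pow' (Cd_mul' ha hb) 2) Cd_1 (by decide +kernel)
  · exact ext_of (Cd_mul' ha Cd_s) (Cd_mul' Cd_s ha) (by decide +kernel)
  · exact ext_of (Cd_mul' hb Cd_s) (Cd_mul' Cd_s hb) (by decide +kernel)
  · intro h
    rw [h] at ha
    have := ha.code_inj Cd_one (HL_lt (getD_mem (l := HL) (n := 67) (by rw [len_HL]; norm_num))) one_lt
    exact absurd this (by decide +kernel)

theorem orderOf_s : orderOf s = 2 := orderOf_eq_prime (by rw [pow_two, s_sq]) s_ne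

theorem card_cent_s : Nat.card (Subgroup.centralizer ({s} : Set J)) ∣ 120 := by
  set C := Subgroup.centralizer ({s} : Set J) with hC
  have hmem : ∀ w : J, w ∈ C → Commute s w := by
    intro w hw
    rw [hC, Subgroup.mem_centralizer_iff] at hw
    exact hw s rfl
  have hdvd : Nat.card C ∣ 175560 := by rw [← card_J1]; exact Subgroup.card_subgroup_dvd_card C
  have hno : ∀ r : ℕ, r.Prime → (r = 7 ∨ r = 11 ∨ r = 19) → ¬ r ∣ Nat.card C := by
    intro r hr hr' hrC
    have : Fact r.Prime := ⟨hr⟩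
    obtain ⟨w, hw⟩ := exists_prime_orderOf_dvd_card' r hrC
    have hw' : orderOf (w : J) = r := by rw [Subgroup.orderOf_coe]; exact hw
    have hc : Commute s (w : J) := hmem _ w.2
    rcases hr' with rfl | rfl | rfl
    · exact order_bad hc orderOf_s hw' (by norm_num) (by decide)
    · exact order_bad hc orderOf_s hw' (by norm_num) (by decide)
    · exact order_bad hc orderOf_s hw' (by norm_num) (by decide)
  have h7 : Nat.Coprime (Nat.card C) 7 := ((Nat.Prime.coprime_iff_not_dvd (by norm_num)).2 (hno 7 (by norm_num) (by norm_num))).symm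
  have h11 : Nat.Coprime (Nat.card C) 11 := ((Nat.Prime.coprime_iff_not_dvd (by norm_num)).2 (hno 11 (by norm_num) (by norm_num))).symm
  have h19 : Nat.Coprime (Nat.card C) 19 := ((Nat.Prime.coprime_iff_not_dvd (by norm_num)).2 (hno 19 (by norm_num) (by norm_num))).symm
  have h1 : Nat.card C ∣ 120 * (7 * (11 * 19)) := hdvd
  exact (h7.mul_right (h11.mul_right h19)).dvd_of_dvd_mul_right h1

theorem exists_A5 : ∃ f : alternatingGroup (Fin 5) →* Subgroup.centralizer ({s} : Set J), Function.Injective f := by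
  obtain ⟨a, b, ha, hb, hab, has, hbs, hane⟩ := exists_ab
  obtain ⟨e⟩ := Cfsg.Agent.S3377.result
  set C := Subgroup.centralizer ({s} : Set J) with hC
  have haC : a ∈ C := by
    rw [hC, Subgroup.mem_centralizer_iff]
    rintro h rfl
    exact has.symm
  have hbC : b ∈ C := by
    rw [hC, Subgroup.mem_centralizer_iff]
    rintro h rfl
    exact hbs.symm
  let v : Fin 2 → C := ![⟨a, haC⟩, ⟨b, hbC⟩]
  have hv : ∀ r ∈ ({FreeGroup.of (0 : Fin 2) ^ 3, FreeGroup.of (1 : Fin 2) ^ 5,
        (FreeGroup.of (0 : Fin 2) * FreeGroup.of 1) ^ 2} : Set (FreeGroup (Fin 2))), FreeGroup.lift v r = 1 := by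
    rintro r (rfl | rfl | rfl)
    · rw [map_pow, FreeGroup.lift_apply_of]
      exact Subtype.ext ha
    · rw [map_pow, FreeGroup.lift_apply_of]
      exact Subtype.ext hb
    · rw [map_pow, map_mul, FreeGroup.lift_apply_of, FreeGroup.lift_apply_of]
      exact Subtype.ext hab
  let φ := PresentedGroup.toGroup hv
  let f : alternatingGroup (Fin 5) →* C := φ.comp e.symm.toMonoidHom
  refine ⟨f, ?_⟩
  have hsimple : IsSimpleGroup (alternatingGroup (Fin 5)) := alternatingGroup.isSimpleGroup_five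
  have hker : f.ker = ⊥ := by
    rcases (inferInstance : f.ker.Normal).eq_bot_or_eq_top with h | h
    · exact h
    · exfalso
      have h1 : f (e (PresentedGroup.of 0)) = 1 := by
        have : e (PresentedGroup.of 0) ∈ f.ker := by rw [h]; trivial
        exact this
      have h2 : f (e (PresentedGroup.of 0)) = ⟨a, haC⟩ := by
        change φ (e.symm (e (PresentedGroup.of 0))) = _
        rw [MulEquiv.symm_apply_apply, PresentedGroup.toGroup.of]
        rfl
      rw [h2] at h1
      exact hane (congrArg Subtype.val h1)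
  exact (MonoidHom.ker_eq_bot_iff f).1 hker

theorem center_A5 : Subgroup.center (alternatingGroup (Fin 5)) = ⊥ :=
  alternatingGroup.center_eq_bot (by simp)

theorem cent_iso : Nonempty (Subgroup.centralizer ({s} : Set J) ≃* Multiplicative (ZMod 2) × alternatingGroup (Fin 5)) := by
  obtain ⟨f, hf⟩ := exists_A5
  let C := Subgroup.centralizer ({s} : Set J)
  have hsC : s ∈ C := by
    rw [Subgroup.mem_centralizer_iff]
    rintro h rfl
    rfl
  have hcomm : ∀ w : C, Commute (⟨s, hsC⟩ : C) w := by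
    intro w
    have hw : (w : J) ∈ Subgroup.centralizer ({s} : Set J) := w.2
    rw [Subgroup.mem_centralizer_iff] at hw
    exact Subtype.ext (hw s rfl)
  let Z := Subgroup.zpowers (⟨s, hsC⟩ : C)
  have hZ : Nat.card Z = 2 := by rw [Nat.card_zpowers, Subgroup.orderOf_mk, orderOf_s]
  have hZc : ∀ (a : Z) (w : C), Commute (a : C) w := by
    rintro ⟨a, ha⟩ w
    obtain ⟨k, rfl⟩ := Subgroup.mem_zpowers_iff.1 ha
    exact (hcomm w).zpow_left k
  let ψ : Z × alternatingGroup (Fin 5) →* C := MonoidHom.noncommCoprod Z.subtype f (fun a w => hZc a (f w))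
  have hψ : ∀ a w, ψ (a, w) = (a : C) * f w := fun a w => rfl
  have hinj : Function.Injective ψ := by
    rw [injective_iff_map_eq_one]
    rintro ⟨a, w⟩ h
    rw [hψ] at h
    have hw : w = 1 := by
      have h1 : w ∈ Subgroup.center (alternatingGroup (Fin 5)) := by
        rw [Subgroup.mem_center_iff]
        intro v
        apply hf
        rw [map_mul, map_mul]
        have h2 : f w = (a : C)⁻¹ := (inv_eq_of_mul_eq_one_right h).symm
        rw [h2]
        exact ((hZc a (f v)).inv_left).eq.symm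
      rw [center_A5, Subgroup.mem_bot] at h1
      exact h1
    subst hw
    rw [map_one, mul_one] at h
    have : a = 1 := Subtype.ext h
    rw [this]; rfl
  have hcardA5 : Nat.card (alternatingGroup (Fin 5)) = 60 := Cfsg.Agent.S3377.card_alt5
  have hcard : Nat.card (Z × alternatingGroup (Fin 5)) = 120 := by
    rw [Nat.card_prod, hZ, hcardA5]
  have hbij : Function.Bijective ψ := by
    rw [Nat.bijective_iff_injective_and_card]
    refine ⟨hinj, ?_⟩
    apply le_antisymm
    · exact Nat.card_le_card_of_injective ψ hinj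
    · rw [hcard]
      exact Nat.le_of_dvd (by norm_num) card_cent_s
  have e1 : C ≃* Z × alternatingGroup (Fin 5) := (MulEquiv.ofBijective ψ hbij).symm
  have : IsCyclic Z := inferInstance
  have e2 : Z ≃* Multiplicative (ZMod 2) := mulEquivOfCyclicCardEq (by
    rw [hZ]; simp)
  exact ⟨e1.trans (MulEquiv.prodCongr e2 (MulEquiv.refl _))⟩

end H61.J1
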