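import Cfsg.Agent.Lib.H53.SzCov
import Mathlib

/-!
Suzuki groups: non-commuting triples in a class of elements of odd order (helper61).
-/

set_option autoImplicit false

namespace H61.BinSz

open Cfsg H8.SuzOvoid H8.SuzField H8.SuzMat H8.SuzStab H8.SuzGroup H8.SuzSylow H8.SuzCent H8.TICount H8.SuzTorus
open H42.SuzSol H53.SzCov

variable {F : Type*} [Field F] [Fintype F] {m : ℕ}

theorem tr_of_odd (hm : 1 ≤ m) (hF : Fintype.card F = 2 ^ (2 * m + 1)) {z : Sz F m} (hz : z ≠ 1)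
    (hodd : Odd (orderOf z)) : tr z ≠ 0 := by
  obtain ⟨y, β, hβ, hy⟩ := exists_nf hm hF hz hodd
  rw [← tr_conj y z, hy]
  exact nf_ne hF hβ

theorem sqrt_ex (hF : Fintype.card F = 2 ^ (2 * m + 1)) (x : F) : ∃ s : F, s ^ 2 = x := by
  obtain ⟨y, hy⟩ := th_surj (m := m) hF x
  obtain ⟨z, hz⟩ := th_surj (m := m) hF y
  exact ⟨z, by rw [← th_th hF, hz, hy]⟩

/-- the case `β ≠ 1` -/
theorem exists_y_ne (hF : Fintype.card F = 2 ^ (2 * m + 1)) {β : F} (hβ : β ≠ 0) (hβ1 : β ≠ 1) :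
    ∃ y : Sz F m, tr y = tr (nf hF β) ∧ tr (y * nf hF β) = tr (nf hF β) ∧
      y * nf hF β ≠ nf hF β * y := by
  have two := two_eq_zero hF
  obtain ⟨s, hs⟩ := sqrt_ex (m := m) hF (β⁻¹)
  have hs0 : s ≠ 0 := by
    rintro rfl
    apply inv_ne_zero hβ
    rw [← hs]; ring
  have hsβ : s ^ 2 * β = 1 := by rw [hs, inv_mul_cancel₀ hβ]
  have hT : th m s ^ 2 * th m β = 1 := by
    rw [← th_pow, ← th_mul, hsβ, th_one]
  have hB0 : th m β ≠ 0 := fun h => hβ (th_eq_zero.1 h)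
  have hS0 : th m s ≠ 0 := fun h => hs0 (th_eq_zero.1 h)
  refine ⟨tG hF 0 s * (wG hF * tG hF 0 β * wG hF) * tG hF 0 s * tG hF 0 1, ?_, ?_, ?_⟩
  · rw [tr_nf]
    show Matrix.trace (Tm m 0 s * (Wm F * Tm m 0 β * Wm F) * Tm m 0 s * Tm m 0 1) = _
    simp [Tm, Wm, suzukiForm, Matrix.trace, Fin.sum_univ_four, f_eq, th_zero, th_one]
    linear_combination (2 + s * β * 2 + β + th m s * th m β) * two
  · have e : tG hF 0 s * (wG hF * tG hF 0 β * wG hF) * tG hF 0 s * tG hF 0 1 * nf hF β =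
        (tG hF 0 s * (wG hF * tG hF 0 β * wG hF) * tG hF 0 s * (wG hF * tG hF 0 β * wG hF) : Sz F m) := by
      unfold nf
      have h1 : (tG hF 0 1 : Sz F m) * tG hF 0 1 = 1 := by
        rw [← pow_two, tG_sq, mul_zero, tG_one]
      calc _ = tG hF 0 s * (wG hF * tG hF 0 β * wG hF) * tG hF 0 s * (tG hF 0 1 * tG hF 0 1) *
            (wG hF * tG hF 0 β * wG hF) := by group
        _ = _ := by rw [h1, mul_one]
    rw [e, tr_four, tr_nf]
    linear_combination (th m β) * hT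
  · intro h
    have h1 := congrFun (congrFun (congrArg (fun z : Sz F m => (z : SL F).1) h) 1) 0
    change (Tm m 0 s * (Wm F * Tm m 0 β * Wm F) * Tm m 0 s * Tm m 0 1 *
      (Tm m 0 1 * (Wm F * Tm m 0 β * Wm F)) : Matrix (Fin 4) (Fin 4) F) 1 0 =
      (Tm m 0 1 * (Wm F * Tm m 0 β * Wm F) *
      (Tm m 0 s * (Wm F * Tm m 0 β * Wm F) * Tm m 0 s * Tm m 0 1) : Matrix (Fin 4) (Fin 4) F) 1 0 at h1
    simp [Tm, Wm, suzukiForm, Fin.sum_univ_four, f_eq, th_zero, th_one] at h1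
    have h2 : th m s * th m β ^ 2 * (s + 1) = 0 := by
      linear_combination h1 + (th m s * th m β ^ 2 - th m β * s - th m β * s * β -
        th m β * s ^ 2 * β - th m β ^ 2 * s) * two
    have h3 : s + 1 = 0 := (mul_eq_zero.1 h2).resolve_left (mul_ne_zero hS0 (pow_ne_zero 2 hB0))
    have h4 : s = 1 := by linear_combination h3 - two
    apply hβ1
    rw [h4] at hsβ
    linear_combination hsβ

/-- the case `β = 1` -/
theorem exists_y_one (hm : 1 ≤ m) (hF : Fintype.card F = 2 ^ (2 * m + 1)) :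
    ∃ y : Sz F m, tr y = tr (nf hF 1) ∧ tr (y * nf hF 1) = tr (nf hF 1) ∧
      y * nf hF 1 ≠ nf hF 1 * y := by
  have two := two_eq_zero hF
  -- choose `λ`
  obtain ⟨t, ht⟩ := exists_th_ne hm hF
  have hx1 : 1 + (t + th m t) ∉ HL (m := m) hF := by
    intro hc
    apply one_not_mem (m := m) hF
    have h1 : t + th m t ∈ HL (m := m) hF := (mem_HL hF).2 ⟨t, rfl⟩
    have := (HL (m := m) hF).sub_mem hc h1
    simpa using this
  obtain ⟨x, hx⟩ : ∃ x, x = 1 + (t + th m t) := ⟨_, rfl⟩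
  rw [← hx] at hx1
  have hx0 : x ≠ 0 := by
    rintro rfl
    exact hx1 (HL (m := m) hF).zero_mem
  have hxne : x ≠ 1 := by
    intro h
    apply ht
    rw [h] at hx
    linear_combination -hx
  obtain ⟨c, hc⟩ := th_surj (m := m) hF (x⁻¹)
  have hc0 : c ≠ 0 := by
    rintro rfl
    rw [th_zero] at hc
    exact inv_ne_zero hx0 hc.symm
  have hc1 : c ≠ 1 := by
    rintro rfl
    rw [th_one] at hc
    apply hxne
    rw [← inv_inv x, ← hc, inv_one]
  have hC0 : th m c ≠ 0 := fun h => hc0 (th_eq_zero.1 h)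
  have hCx : th m c * x = 1 := by rw [hc, inv_mul_cancel₀ hx0]
  obtain ⟨e, he⟩ := (mem_HL hF).1 (add_one_mem hF hx1)
  obtain ⟨p, hp⟩ : ∃ p, p = th m c / c := ⟨_, rfl⟩
  obtain ⟨s, hs⟩ : ∃ s, s = c * e := ⟨_, rfl⟩
  have hP : th m p = c ^ 2 / th m c := by rw [hp, th_div, th_th hF]
  have hS : th m s = th m c * th m e := by rw [hs, th_mul]
  have hf : p * s + th m p * p ^ 2 + th m s = 1 := by
    rw [hP, hS, hs, hp]
    field_simp
    linear_combination (-(th m c)) * he + hCx + th m c * two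
  have hp0 : p ≠ 0 := by rw [hp]; exact div_ne_zero hC0 hc0
  have hp1 : p ≠ 1 := by
    intro h
    rw [h] at hp
    have h1 : th m c = c := by
      field_simp at hp
      exact hp.symm
    have h2 : th m (th m c) = c := by rw [h1, h1]
    rw [th_th hF] at h2
    have : c * (c - 1) = 0 := by linear_combination h2
    rcases mul_eq_zero.1 this with h3 | h3
    · exact hc0 h3
    · exact hc1 (by linear_combination h3)
  have hinv : (tG hF p s : Sz F m) * tG hF p (s + th m p * p) = 1 := by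
    rw [tG_mul, ← tG_one hF]
    congr 1
    · linear_combination p * two
    · linear_combination (s + th m p * p) * two
  have hinv' : (tG hF p s : Sz F m)⁻¹ = tG hF p (s + th m p * p) := inv_eq_of_mul_eq_one_right hinv
  have hcomm : (tG hF p s : Sz F m)⁻¹ * tG hF 0 1 = tG hF 0 1 * (tG hF p s : Sz F m)⁻¹ := by
    rw [hinv', tG_mul, tG_mul, th_zero]
    congr 1 <;> ring
  refine ⟨tG hF p s * (wG hF * tG hF 0 1 * wG hF) * (tG hF p s)⁻¹ * tG hF 0 1, ?_, ?_, ?_⟩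
  · have h1 : tG hF p s * (wG hF * tG hF 0 1 * wG hF) * (tG hF p s)⁻¹ * tG hF 0 1 =
        (tG hF p s * ((wG hF * tG hF 0 1 * wG hF) * tG hF 0 1) * (tG hF p s)⁻¹ : Sz F m) := by
      rw [mul_assoc _ (tG hF p s : Sz F m)⁻¹, hcomm]; group
    rw [h1, tr_conj, tr_mul_comm]
    rfl
  · have h0 : tG hF p s * (wG hF * tG hF 0 1 * wG hF) * (tG hF p s)⁻¹ * tG hF 0 1 * nf hF 1 =
        (tG hF p s * (wG hF * tG hF 0 1 * wG hF) * tG hF p (s + th m p * p) *
          (wG hF * tG hF 0 1 * wG hF) : Sz F m) := by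
      unfold nf
      have h1 : (tG hF 0 1 : Sz F m) * tG hF 0 1 = 1 := by
        rw [← pow_two, tG_sq, mul_zero, tG_one]
      calc _ = tG hF p s * (wG hF * tG hF 0 1 * wG hF) * (tG hF p s)⁻¹ * (tG hF 0 1 * tG hF 0 1) *
            (wG hF * tG hF 0 1 * wG hF) := by group
        _ = _ := by rw [h1, mul_one, hinv']
    rw [h0, tr_nf, th_one]
    show Matrix.trace (Tm m p s * (Wm F * Tm m 0 1 * Wm F) * Tm m p (s + th m p * p) *
      (Wm F * Tm m 0 1 * Wm F)) = _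
    simp [Tm, Wm, suzukiForm, Matrix.trace, Fin.sum_univ_four, f_eq, th_zero, th_one,
      th_add hF, th_mul, th_th hF]
    linear_combination (p * s + th m p * p ^ 2 + th m s + 1) * hf +
      (2 + s * 4 + s * p * 4 + s * p * th m p * 3 + s * p ^ 2 * th m p * 6 + s * p ^ 3 * th m p +
        s * th m s * 2 + s ^ 2 + s ^ 2 * p * 2 + p * th m p * 6 + p * th m p * th m s * 2 +
        p ^ 2 * th m p * 6 + p ^ 2 * th m p * th m s + p ^ 2 * th m p ^ 2 * 3 +
        p ^ 3 * th m p ^ 2 * 3 + p ^ 4 * th m p ^ 2 + th m p * th m s + th m s * 2) * two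
  · intro h
    rw [hinv'] at h
    have h1 := congrFun (congrFun (congrArg (fun z : Sz F m => (z : SL F).1) h) 2) 0
    change (Tm m p s * (Wm F * Tm m 0 1 * Wm F) * Tm m p (s + th m p * p) * Tm m 0 1 *
      (Tm m 0 1 * (Wm F * Tm m 0 1 * Wm F)) : Matrix (Fin 4) (Fin 4) F) 2 0 =
      (Tm m 0 1 * (Wm F * Tm m 0 1 * Wm F) *
      (Tm m p s * (Wm F * Tm m 0 1 * Wm F) * Tm m p (s + th m p * p) * Tm m 0 1) : Matrix (Fin 4) (Fin 4) F) 2 0 at h1
    simp [Tm, Wm, suzukiForm, Fin.sum_univ_four, f_eq, th_zero, th_one,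
      th_add hF, th_mul, th_th hF] at h1
    have h2 : p * (p * th m p + 1) = 0 := by
      linear_combination h1 + p * hf + (-2 - p * 4 - p * th m p - p * s - p * th m s - p ^ 2 -
        p ^ 2 * th m p * 2 - p ^ 2 * s - p ^ 3 * th m p * 2) * two
    have h3 := (mul_eq_zero.1 h2).resolve_left hp0
    have h4 : p * th m p = 1 := by linear_combination h3 - two
    exact hp1 (k_eq_one hF h4)

theorem exists_y (hm : 1 ≤ m) (hF : Fintype.card F = 2 ^ (2 * m + 1)) {a : Sz F m}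
    (ha : tr a ≠ 0) : ∃ y : Sz F m, tr y = tr a ∧ tr (y * a) = tr a ∧ y * a ≠ a * y := by
  obtain ⟨h1, h2⟩ := odd_of_tr hm hF ha
  obtain ⟨x, β, hβ, hx⟩ := exists_nf hm hF h1 h2
  obtain ⟨y, hy1, hy2, hy3⟩ : ∃ y : Sz F m, tr y = tr (nf hF β) ∧
      tr (y * nf hF β) = tr (nf hF β) ∧ y * nf hF β ≠ nf hF β * y := by
    by_cases h : β = 1
    · rw [h]; exact exists_y_one hm hF
    · exact exists_y_ne hF hβ h
  have ht : tr (nf (m := m) hF β) = tr a := by rw [← hx, tr_conj]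
  refine ⟨x⁻¹ * y * x, ?_, ?_, ?_⟩
  · have := tr_conj x⁻¹ y
    rw [inv_inv] at this
    rw [this, hy1, ht]
  · have e : x⁻¹ * y * x * a = x⁻¹ * (y * (x * a * x⁻¹)) * x⁻¹⁻¹ := by group
    rw [e, tr_conj, hx, hy2, ht]
  · intro h
    apply hy3
    rw [← hx]
    calc y * (x * a * x⁻¹) = x * (x⁻¹ * y * x * a) * x⁻¹ := by group
      _ = x * (a * (x⁻¹ * y * x)) * x⁻¹ := by rw [h]
      _ = _ := by group

end H61.BinSz
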