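import Cfsg.Agent.Lib.H61.BinSz2
import Cfsg.Agent.Lib.H42.SuzMax7
import Mathlib

/-!
Binary subgroups of the Suzuki groups, part 3 (helper61).
-/

set_option autoImplicit false

namespace H61.BinSz

open Cfsg H8.SuzOvoid H8.SuzField H8.SuzMat H8.SuzStab H8.SuzGroup H8.SuzSylow H8.SuzCent H8.TICount H8.SuzTorus
open H42.SuzSol H53.SzCov H61.BinAct

variable {F : Type*} [Field F] [Fintype F] {m : ℕ}

theorem BB_ne_top (hm : 1 ≤ m) (hF : Fintype.card F = 2 ^ (2 * m + 1)) : BB (m := m) hF ≠ ⊤ := by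
  intro h
  apply w_not_mem hm hF
  rw [h]; trivial

theorem ti_inv (hm : 1 ≤ m) (hF : Fintype.card F = 2 ^ (2 * m + 1)) {g x : Sz F m} (hx : x ∈ TT (m := m) hF)
    (hx1 : x ≠ 1) (h : g⁻¹ * x * g ∈ TT (m := m) hF) : g ∈ BB (m := m) hF := by
  have := TI_TT hm hF g⁻¹ x hx hx1 (by rw [inv_inv]; exact h)
  have h2 := Subgroup.inv_mem _ this
  rwa [inv_inv] at h2

theorem mem_conj_inv (hF : Fintype.card F = 2 ^ (2 * m + 1)) {g x : Sz F m} (hg : g ∈ BB (m := m) hF)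
    (h : g⁻¹ * x * g ∈ TT (m := m) hF) : x ∈ TT (m := m) hF := by
  have := (Subgroup.mem_normalizer_iff.1 hg _).1 h
  have e : g * (g⁻¹ * x * g) * g⁻¹ = x := by group
  rwa [e] at this

/-- a nontrivial proper binary subgroup contains a conjugate of `Z0` -/
theorem f1 (hm : 1 ≤ m) (hF : Fintype.card F = 2 ^ (2 * m + 1)) {H M : Subgroup (Sz F m)}
    (hH : Bin H) (hM : IntC H M) (hne : M ≠ ⊥) (hT : M ≠ ⊤) : ∃ g, cj g (Z0 hF) ≤ M := by
  obtain ⟨K, hK1, hK2, hK3, hK4⟩ := exists_good (Z := ⊥) inferInstance bot_le hH hM (by rwa [le_bot_iff])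
  rcases good_cases hm hF hK4 with h | h | ⟨g, hg⟩
  · exact absurd h.le hK3
  · exfalso; apply hT; rw [eq_top_iff, ← h]; exact hK2
  · exact ⟨g, hg ▸ hK2⟩

theorem pow_of_tr {x y : Sz F m} (hF : Fintype.card F = 2 ^ (2 * m + 1)) {a b : F} (hy : y * x * y⁻¹ = tG hF a b) :
    x ^ (2 ^ 2) = 1 := by
  have h2 : (y * x * y⁻¹) ^ 4 = 1 := by rw [hy, tG_pow_four]
  rw [conj_pow] at h2
  have h3 : x ^ 4 = y⁻¹ * (y * x ^ 4 * y⁻¹) * y := by group
  show x ^ 4 = 1
  rw [h3, h2]; group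

/-- binary subgroups of the Borel subgroup are inside the translations -/
theorem f2a (hm : 1 ≤ m) (hF : Fintype.card F = 2 ^ (2 * m + 1)) {H : Subgroup (Sz F m)}
    (hH : Bin H) (hB : H ≤ BB (m := m) hF) : H ≤ TT (m := m) hF := by
  intro x hx
  rcases cases_odd hm hF x with ⟨y, a, b, hy⟩ | hodd
  · exact mem_TT_of_two hm hF (hB hx) (pow_of_tr hF hy)
  by_cases hx1 : x = 1
  · rw [hx1]; exact Subgroup.one_mem _
  exfalso
  obtain ⟨t, htt, ht1, ht⟩ := H53.SzReal.exists_inverting hm hF hx1 hodd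
  have htB := inverting_not_mem hm hF (hB hx) hx1 hodd htt ht
  have hti := inv_involution htt
  obtain ⟨g, hg⟩ := f1 hm hF hH ((IntC.refl H).inter (IntC.cj_self H t)) (by
    intro h
    have : x ∈ (H ⊓ cj t H : Subgroup (Sz F m)) := by
      refine ⟨hx, ?_⟩
      show x ∈ cj t H
      rw [mem_cj, hti]
      have : t * x * t = x⁻¹ := by rw [← ht, hti]
      rw [this]; exact H.inv_mem hx
    rw [h, Subgroup.mem_bot] at this
    exact hx1 this) (by
    intro h
    apply BB_ne_top hm hF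
    rw [eq_top_iff, ← h]
    exact le_trans inf_le_left hB)
  -- an involution in H ⊓ cj t H
  have hu : g * tG hF 0 1 * g⁻¹ ∈ (H ⊓ cj t H : Subgroup (Sz F m)) := by
    apply hg
    rw [mem_cj]
    exact ⟨1, by group⟩
  have hpow : ∀ z : Sz F m, z * (g * tG hF 0 1 * g⁻¹) * z⁻¹ ∈ BB (m := m) hF →
      z * (g * tG hF 0 1 * g⁻¹) * z⁻¹ ∈ TT (m := m) hF := by
    intro z hz
    apply mem_TT_of_two hm hF hz (k := 2)
    have e : z * (g * tG hF 0 1 * g⁻¹) * z⁻¹ = (z * g) * tG hF 0 1 * (z * g)⁻¹ := by group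
    rw [e, conj_pow]
    show (z * g) * tG hF 0 1 ^ 4 * (z * g)⁻¹ = 1
    rw [tG_pow_four]; group
  have h1 : g * tG hF 0 1 * g⁻¹ ∈ TT (m := m) hF := by
    have := hpow 1 (by simpa using hB hu.1)
    simpa using this
  have h2 : t⁻¹ * (g * tG hF 0 1 * g⁻¹) * t ∈ TT (m := m) hF := by
    have := hpow t⁻¹ (by
      rw [inv_inv]; exact hB (mem_cj.1 hu.2))
    rwa [inv_inv] at this
  apply htB
  apply ti_inv hm hF h1 _ h2
  intro h
  apply t1_ne (m := m) hF (one_ne_zero (α := F))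
  have e : tG hF 0 1 = g⁻¹ * (g * tG hF 0 1 * g⁻¹) * g := by group
  rw [e, h]; group

/-- binary subgroups of the Borel subgroup are inside `Z0` -/
theorem f2 (hm : 1 ≤ m) (hF : Fintype.card F = 2 ^ (2 * m + 1)) {H : Subgroup (Sz F m)}
    (hH : Bin H) (hB : H ≤ BB (m := m) hF) : H ≤ Z0 hF := by
  have hT := f2a hm hF hH hB
  intro u hu
  obtain ⟨a, b, hab⟩ := hT hu
  by_cases ha : a = 0
  · rw [hab, ha]; exact ⟨b, rfl⟩
  exfalso
  rw [hab] at hu
  obtain ⟨y, hyB, hy⟩ := four_cases (m := m) hF (b := b) ha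
  have h1 : tG hF 1 0 ∈ cj y H := by
    have h2 : y * tG hF a b * y⁻¹ ∈ cj y H := by
      rw [mem_cj]
      have e : y⁻¹ * (y * tG hF a b * y⁻¹) * y = tG hF a b := by group
      rw [e]; exact hu
    rcases hy with h | h
    · rw [← h]; exact h2
    · rw [h] at h2
      have := (cj y H).inv_mem h2
      rwa [inv_inv] at this
  have hT' : cj y H ≤ TT (m := m) hF := by
    intro x hx
    rw [mem_cj] at hx
    exact mem_conj_inv hF hyB (hT hx)
  have h10 : (tG hF 1 0 : Sz F m) ≠ 1 := by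
    intro h
    rw [← tG_one hF] at h
    exact one_ne_zero (tG_inj hF h).1
  obtain ⟨⟨v, hv⟩, x, hx⟩ := conj_w_one hm hF h1
  obtain ⟨g, hg1, hg2, hg3⟩ := tri (hH.cj y) h1 hx hv
  by_cases hg : g = 1
  · rw [hg] at hg3
    have h2 : v⁻¹ * tG hF 1 0 * v ∈ TT (m := m) hF := by
      have := Subgroup.inv_mem _ (hT' hg3)
      have e : ((tG hF 1 0 * v)⁻¹ * 1 * v)⁻¹ = v⁻¹ * tG hF 1 0 * v := by group
      rwa [e] at this
    have hvB := ti_inv hm hF ⟨1, 0, rfl⟩ h10 h2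
    have h3 := mem_conj_inv hF hvB (hT' hv)
    apply w_not_mem hm hF
    apply Subgroup.le_normalizer
    have h4 := Subgroup.mul_mem _ h3 (Subgroup.inv_mem _ (show tG hF 1 0 ∈ TT (m := m) hF from ⟨1, 0, rfl⟩))
    have e : wG hF * tG hF 1 0 * (tG hF 1 0)⁻¹ = (wG hF : Sz F m) := by group
    rwa [e] at h4
  · have hxB := ti_inv hm hF (hT' hg1) hg (hT' hg2)
    apply w_not_mem hm hF
    apply Subgroup.le_normalizer
    exact mem_conj_inv hF hxB (hT' hx)

theorem card_Z0 (hF : Fintype.card F = 2 ^ (2 * m + 1)) : Nat.card (Z0 (m := m) hF) = 2 ^ (2 * m + 1) := by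
  rw [← hF, ← Nat.card_eq_fintype_card]
  symm
  apply Nat.card_congr
  refine Equiv.ofBijective (fun b => ⟨tG hF 0 b, b, rfl⟩) ⟨?_, ?_⟩
  · intro b c h
    exact (tG_inj hF (congrArg Subtype.val h)).2
  · rintro ⟨_, b, rfl⟩
    exact ⟨b, rfl⟩

/-- a subgroup containing `Z0` is in the Borel subgroup or everything -/
theorem f3 (hm : 1 ≤ m) (hF : Fintype.card F = 2 ^ (2 * m + 1)) {H : Subgroup (Sz F m)}
    (hZ : Z0 (m := m) hF ≤ H) (hT : H ≠ ⊤) : H ≤ BB (m := m) hF := by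
  rcases H42.SuzMax.good_all hm hF H hT with ⟨g, hg⟩ | ⟨V, hV, hVH⟩ | ⟨k, hk1, hk2, -, S, ⟨e⟩, hS⟩
  · have hg' : H ≤ cj g (BB hF) := by
      intro x hx
      rw [mem_cj, BB, normalizer_TT hm hF]
      exact H42.SuzMax.mem_cj.1 (hg hx)
    have h1 : g⁻¹ * tG hF 0 1 * g ∈ BB (m := m) hF := by
      rw [← mem_cj]; exact hg' (hZ ⟨1, rfl⟩)
    have h2 : g⁻¹ * tG hF 0 1 * g ∈ TT (m := m) hF := by
      apply mem_TT_of_two hm hF h1 (k := 2)
      have e : g⁻¹ * tG hF 0 1 * g = g⁻¹ * tG hF 0 1 * (g⁻¹)⁻¹ := by group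
      rw [e, conj_pow]
      show g⁻¹ * tG hF 0 1 ^ 4 * (g⁻¹)⁻¹ = 1
      rw [tG_pow_four]; group
    have hgB := ti_inv hm hF ⟨0, 1, rfl⟩ (t1_ne (m := m) hF (one_ne_zero (α := F))) h2
    intro x hx
    have h3 := mem_cj.1 (hg' hx)
    have h4 := Subgroup.mul_mem _ (Subgroup.mul_mem _ hgB h3) (Subgroup.inv_mem _ hgB)
    have e : g * (g⁻¹ * x * g) * g⁻¹ = x := by group
    rwa [e] at h4
  · exfalso
    obtain ⟨c, hc⟩ := hV.isTorus hm hF
    have h1 : Nat.card (Z0 (m := m) hF) ∣ c * Nat.card V := by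
      rw [← hc.card]
      exact Subgroup.card_dvd_of_le (hZ.trans hVH)
    rw [card_Z0] at h1
    have h2 : Nat.Coprime (2 ^ (2 * m + 1)) (Nat.card V) := by
      apply Nat.Coprime.pow_left
      rw [Nat.coprime_two_left]
      rw [← Nat.not_even_iff_odd, even_iff_two_dvd]
      exact hc.odd
    have h3 := h2.dvd_of_dvd_mul_right h1
    have h4 : 8 ≤ 2 ^ (2 * m + 1) := by
      calc 8 = 2 ^ 3 := by norm_num
        _ ≤ 2 ^ (2 * m + 1) := Nat.pow_le_pow_right (by norm_num) (by omega)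
    have h5 := Nat.le_of_dvd (by rcases hc.hc with h | h <;> omega) h3
    rcases hc.hc with h | h <;> omega
  · exfalso
    haveI : Fintype (GaloisField 2 (2 * k + 1)) := Fintype.ofFinite _
    have hK : Fintype.card (GaloisField 2 (2 * k + 1)) = 2 ^ (2 * k + 1) := by
      rw [← Nat.card_eq_fintype_card, GaloisField.card 2 _ (by omega)]
    have hZS : ∀ b : F, tG (m := m) hF 0 b ∈ S := fun b => hS (hZ ⟨b, rfl⟩)
    obtain ⟨φ, hφ⟩ : ∃ φ : F → Sz (GaloisField 2 (2 * k + 1)) k, φ = fun b => e ⟨tG hF 0 b, hZS b⟩ := ⟨_, rfl⟩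
    have hφinj : Function.Injective φ := by
      intro b c h
      rw [hφ] at h
      have := e.injective h
      exact (tG_inj hF (congrArg Subtype.val this)).2
    have hφmul : ∀ b c, φ (b + c) = φ b * φ c := by
      intro b c
      rw [hφ]
      show e _ = e _ * e _
      rw [← map_mul]
      congr 1
      apply Subtype.ext
      show tG hF 0 (b + c) = (tG hF 0 b * tG hF 0 c : Sz F m)
      rw [tG_mul, th_zero]
      congr 1 <;> ring
    have two := two_eq_zero hF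
    have hφ0 : φ 0 = 1 := by
      have := hφmul 0 0
      rw [add_zero] at this
      exact (mul_eq_left.1 this.symm)
    have hφsq : ∀ b, φ b * φ b = 1 := by
      intro b
      rw [← hφmul, ← hφ0]
      congr 1
      linear_combination b * two
    have hφ1 : φ 1 ≠ 1 := by
      intro h
      rw [← hφ0] at h
      exact one_ne_zero (hφinj h)
    obtain ⟨x, c, hc, hx⟩ := H53.SzReal.exists_conj_tG hk1 hK hφ1 (hφsq 1)
    have hmem : ∀ b, x * φ b * x⁻¹ ∈ Z0 (m := k) hK := by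
      intro b
      apply mem_Z0_of_sq hK
      · apply mem_TT_of_commute hk1 hK (t1_ne hK hc)
        rw [← hx]
        have h1 : φ b * φ 1 = φ 1 * φ b := by rw [← hφmul, ← hφmul, add_comm b 1]
        calc x * φ b * x⁻¹ * (x * φ 1 * x⁻¹) = x * (φ b * φ 1) * x⁻¹ := by group
          _ = x * (φ 1 * φ b) * x⁻¹ := by rw [h1]
          _ = _ := by group
      · calc x * φ b * x⁻¹ * (x * φ b * x⁻¹) = x * (φ b * φ b) * x⁻¹ := by group
          _ = 1 := by rw [hφsq]; group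
    have h1 : Nat.card F ≤ Nat.card (Z0 (m := k) hK) := by
      apply Nat.card_le_card_of_injective (fun b => (⟨_, hmem b⟩ : Z0 (m := k) hK))
      intro b c h
      apply hφinj
      have h2 := congrArg Subtype.val h
      exact mul_left_cancel (mul_right_cancel h2)
    rw [card_Z0, Nat.card_eq_fintype_card, hF] at h1
    have h2 := (Nat.pow_le_pow_iff_right (by norm_num : 1 < 2)).1 h1
    omega

/-- the main result in one direction -/
theorem bin_cases (hm : 1 ≤ m) (hF : Fintype.card F = 2 ^ (2 * m + 1)) {H : Subgroup (Sz F m)}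
    (hH : Bin H) (hT : H ≠ ⊤) : H = ⊥ ∨ ∃ g, H = cj g (Z0 hF) := by
  by_cases hne : H = ⊥
  · left; exact hne
  right
  obtain ⟨g, hg⟩ := f1 hm hF hH (IntC.refl H) hne hT
  have h1 : Z0 hF ≤ cj g⁻¹ H := by
    have := cj_mono' (g := g⁻¹) hg
    rwa [cj_cj', inv_mul_cancel, cj_one'] at this
  have h2 := f3 hm hF h1 (fun h => hT (cj_top' h))
  have h3 := f2 hm hF (hH.cj g⁻¹) h2
  refine ⟨g, ?_⟩
  rw [← le_antisymm h3 h1, cj_cj', mul_inv_cancel, cj_one']

theorem ti_Z0 (hm : 1 ≤ m) (hF : Fintype.card F = 2 ^ (2 * m + 1)) : TI ⊥ (Z0 (m := m) hF) := by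
  intro g z hz hz1 hgz
  rw [Subgroup.mem_bot] at hz1
  have hgB := ti_inv hm hF (Z0_le hF hz) hz1 (Z0_le hF hgz)
  have key : ∀ g ∈ BB (m := m) hF, ∀ k ∈ Z0 (m := m) hF, g * k * g⁻¹ ∈ Z0 (m := m) hF := by
    intro g hg k hk
    apply mem_Z0_of_sq hF ((Subgroup.mem_normalizer_iff.1 hg _).1 (Z0_le hF hk))
    obtain ⟨b, rfl⟩ := hk
    calc g * tG hF 0 b * g⁻¹ * (g * tG hF 0 b * g⁻¹) = g * (tG hF 0 b * tG hF 0 b) * g⁻¹ := by group
      _ = 1 := by rw [← pow_two, tG_sq, mul_zero, tG_one]; group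
  intro k
  constructor
  · intro hk
    have := key g⁻¹ (Subgroup.inv_mem _ hgB) k hk
    rwa [inv_inv] at this
  · intro hk
    have := key g hgB _ hk
    have e : g * (g⁻¹ * k * g) * g⁻¹ = k := by group
    rwa [e] at this

theorem bin_Z0 (hm : 1 ≤ m) (hF : Fintype.card F = 2 ^ (2 * m + 1)) : Bin (Z0 (m := m) hF) := by
  apply bin_of_ti (ti_Z0 hm hF)
  intro a b x y ha ha1 hb hb1 hab
  have sq : ∀ (x z : Sz F m), x⁻¹ * z * x ∈ Z0 (m := m) hF → z * z = 1 := by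
    intro x z hz
    obtain ⟨c, hc⟩ := hz
    have h1 : (x⁻¹ * z * x) * (x⁻¹ * z * x) = 1 := by
      rw [hc, ← pow_two, tG_sq, mul_zero, tG_one]
    calc z * z = x * ((x⁻¹ * z * x) * (x⁻¹ * z * x)) * x⁻¹ := by group
      _ = 1 := by rw [h1]; group
  have hb2 := sq x b hb
  have hab2 := sq y (b * a) hab
  have ha2 := sq 1 a (by simpa using ha)
  obtain ⟨c, rfl⟩ := ha
  apply mem_Z0_of_sq hF _ hb2
  apply mem_TT_of_commute hm hF ha1
  have h1 := inv_eq_of_mul_eq_one_right hab2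
  rw [mul_inv_rev, inv_eq_of_mul_eq_one_right hb2, inv_eq_of_mul_eq_one_right ha2] at h1
  exact h1.symm

theorem bin_bot {G : Type*} [Group G] : Bin (⊥ : Subgroup G) := by
  apply bin_of_ti
  · intro g z hz hz1
    exact absurd hz hz1
  · intro a b x y ha ha1
    exact absurd (Subgroup.mem_bot.1 ha) ha1

end H61.BinSz
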