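import Cfsg.Agent.Lib.H61.BinU3a
import Cfsg.Agent.Lib.H61.BinSz2
import Mathlib

/-!
Binary subgroups of `SU₃(q)`, `q` even: subgroups of the Borel subgroup (helper61).
-/

set_option autoImplicit false

namespace H61.BinU3

open Cfsg H7.QuadExt H7.UnitSU H24.U3Syl H62.BSU H61.BinAct H61.BinSz
open Matrix hiding J

variable {K : Type*} [Field K] [Fintype K] {q : ℕ} {hK : Fintype.card K = q ^ 2}

section
variable (two : (2 : K) = 0)
include two

theorem same {g k : GJ hK} (h : IsB g) (h' : IsB k) (h1 : cc g = cc k) (h2 : vv g = vv k) :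
    g⁻¹ * k ∈ ZZ two hK := by
  have hc := cc_ne h
  refine ⟨⟨h.inv.mul h', ?_⟩, ?_⟩
  · rw [cc_mul h.inv h', cc_inv h, ← h1, inv_mul_cancel₀ hc]
  · rw [vv_mul h.inv h', cc_inv h, vv_inv two h, ← h2]
    field_simp
    linear_combination (vv g) * two

/-- conjugates of elements of `PP` -/
theorem conj_PP {g p : GJ hK} (h : IsB g) (hp : p ∈ PP hK) : g * p * g⁻¹ ∈ PP hK ∧ vv (g * p * g⁻¹) = cc g * vv p := by
  have hc := cc_ne h
  refine ⟨⟨(h.mul hp.1).mul h.inv, ?_⟩, ?_⟩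
  · rw [cc_mul (h.mul hp.1) h.inv, cc_mul h hp.1, cc_inv h, hp.2]
    field_simp
  · rw [vv_mul (h.mul hp.1) h.inv, cc_mul h hp.1, vv_mul h hp.1, vv_inv two h, hp.2]
    field_simp
    linear_combination (vv g) * two

theorem conj_PP' {g p : GJ hK} (h : IsB g) (hp : p ∈ PP hK) : g⁻¹ * p * g ∈ PP hK ∧ vv (g⁻¹ * p * g) = (cc g)⁻¹ * vv p := by
  have := conj_PP two h.inv hp
  rw [inv_inv, cc_inv h] at this
  exact this

/-- the translation parts of a subgroup -/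
def V (X : Subgroup (GJ hK)) : Set K := {z | ∃ p ∈ X, p ∈ PP hK ∧ vv p = z}

omit two in
theorem V_zero (X : Subgroup (GJ hK)) : (0 : K) ∈ V X := ⟨1, X.one_mem, (PP hK).one_mem, vv_one⟩

omit two in
theorem V_add {X : Subgroup (GJ hK)} {a b : K} (ha : a ∈ V X) (hb : b ∈ V X) : a + b ∈ V X := by
  obtain ⟨p, hp, hp', rfl⟩ := ha
  obtain ⟨r, hr, hr', rfl⟩ := hb
  refine ⟨r * p, X.mul_mem hr hp, (PP hK).mul_mem hr' hp', ?_⟩
  rw [vv_mul hr'.1 hp'.1, hr'.2, one_mul]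

theorem mem_of_V {X : Subgroup (GJ hK)} (hZ : ZZ two hK ≤ X) {x : GJ hK} (hx : x ∈ PP hK) (h : vv x ∈ V X) : x ∈ X := by
  obtain ⟨p, hp, hp', hv⟩ := h
  have h1 := same two hp'.1 hx.1 (by rw [hp'.2, hx.2]) hv
  have := X.mul_mem hp (hZ h1)
  rwa [mul_inv_cancel_left] at this

omit two in
/-- multipliers -/
def R (X : Subgroup (GJ hK)) : Set K := {r | ∀ z ∈ V X, r * z ∈ V X}

omit two in
theorem R_one (X : Subgroup (GJ hK)) : (1 : K) ∈ R X := fun z hz => by rwa [one_mul]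

omit two in
theorem R_add {X : Subgroup (GJ hK)} {a b : K} (ha : a ∈ R X) (hb : b ∈ R X) : a + b ∈ R X := by
  intro z hz
  rw [add_mul]
  exact V_add (ha z hz) (hb z hz)

omit two in
theorem R_mul {X : Subgroup (GJ hK)} {a b : K} (ha : a ∈ R X) (hb : b ∈ R X) : a * b ∈ R X := by
  intro z hz
  rw [mul_assoc]
  exact ha _ (hb z hz)

omit two in
theorem R_pow {X : Subgroup (GJ hK)} {a : K} (ha : a ∈ R X) (n : ℕ) : a ^ n ∈ R X := by
  induction n with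
  | zero => rw [pow_zero]; exact R_one X
  | succ n ih => rw [pow_succ]; exact R_mul ih ha

omit two in
theorem R_inv {X : Subgroup (GJ hK)} {a : K} (ha : a ∈ R X) (h0 : a ≠ 0) : a⁻¹ ∈ R X := by
  have h1 := FiniteField.pow_card_sub_one_eq_one a h0
  have hc : 1 < Fintype.card K := Fintype.one_lt_card
  have h2 : a⁻¹ = a ^ (Fintype.card K - 2) := by
    symm
    apply eq_inv_of_mul_eq_one_left
    rw [← pow_succ]
    have : Fintype.card K - 2 + 1 = Fintype.card K - 1 := by omega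
    rw [this, h1]
  rw [h2]
  exact R_pow ha _

theorem R_cc {X : Subgroup (GJ hK)} {g : GJ hK} (hg : g ∈ X) (h : IsB g) : cc g ∈ R X := by
  rintro z ⟨p, hp, hp', rfl⟩
  obtain ⟨h1, h2⟩ := conj_PP two h hp'
  exact ⟨_, X.mul_mem (X.mul_mem hg hp) (X.inv_mem hg), h1, h2⟩

/-- elements of `P` conjugating a non-translation into `X` are in `X` -/
theorem Lk {X : Subgroup (GJ hK)} (hZ : ZZ two hK ≤ X) {g x : GJ hK} (hg : g ∈ X) (hB : IsB g) (hc : cc g ≠ 1)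
    (hx : x ∈ PP hK) (hgx : x⁻¹ * g * x ∈ X) : x ∈ X := by
  apply mem_of_V two hZ hx
  have hs : IsB (x⁻¹ * g * x) := (hx.1.inv.mul hB).mul hx.1
  have hcs : cc (x⁻¹ * g * x) = cc g := by
    rw [cc_mul (hx.1.inv.mul hB) hx.1, cc_mul hx.1.inv hB, cc_inv hx.1, hx.2, inv_one, one_mul, mul_one]
  have hvs : vv (x⁻¹ * g * x) = cc g * vv x + (vv g + vv x) := by
    rw [vv_mul (hx.1.inv.mul hB) hx.1, cc_mul hx.1.inv hB, vv_mul hx.1.inv hB, cc_inv hx.1, vv_inv two hx.1, hx.2,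
      inv_one, one_mul, one_mul, div_one]
  have h1 : (x⁻¹ * g * x) * g⁻¹ ∈ PP hK := by
    refine ⟨hs.mul hB.inv, ?_⟩
    rw [cc_mul hs hB.inv, hcs, cc_inv hB, mul_inv_cancel₀ (cc_ne hB)]
  have h2 : vv ((x⁻¹ * g * x) * g⁻¹) = (cc g + 1) * vv x := by
    rw [vv_mul hs hB.inv, hcs, hvs, vv_inv two hB]
    have := cc_ne hB
    field_simp
    linear_combination (vv g) * two
  have h3 : (cc g + 1) * vv x ∈ V X := ⟨_, X.mul_mem hgx (X.inv_mem hg), h1, h2⟩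
  have h4 : cc g + 1 ≠ 0 := by
    intro h
    apply hc
    linear_combination h - two
  have h5 := R_inv (R_add (R_cc two hg hB) (R_one X)) h4 _ h3
  rwa [inv_mul_cancel_left₀ h4] at h5

/-- the key triple argument -/
theorem Ek {X : Subgroup (GJ hK)} (hX : Bin X) (hZ : ZZ two hK ≤ X) {t x : GJ hK} (ht : t ∈ X) (hB : IsB t)
    (hc : cc t ≠ 1) (hx : x ∈ PP hK) (hxX : x ∉ X) (hXx : ∀ g ∈ X, x⁻¹ * g * x ∈ X → IsB g) : False := by
  have hc0 := cc_ne hB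
  have hc1 : cc t + 1 ≠ 0 := by
    intro h
    apply hc
    linear_combination h - two
  obtain ⟨y, hy, hyv⟩ := exists_vv (hK := hK) two (vv x / (cc t + 1))
  -- b = x t x⁻¹
  have hbB : IsB (x * t * x⁻¹) := (hx.1.mul hB).mul hx.1.inv
  have hbc : cc (x * t * x⁻¹) = cc t := by
    rw [cc_mul (hx.1.mul hB) hx.1.inv, cc_mul hx.1 hB, cc_inv hx.1, hx.2, inv_one, one_mul, mul_one]
  have hbv : vv (x * t * x⁻¹) = cc t * vv x + (vv t + vv x) := by
    rw [vv_mul (hx.1.mul hB) hx.1.inv, cc_mul hx.1 hB, vv_mul hx.1 hB, vv_inv two hx.1, hx.2, one_mul, one_mul, div_one]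
  have hbaB : IsB (x * t * x⁻¹ * t) := hbB.mul hB
  -- conjugated by y
  have h1 : (t * t)⁻¹ * (y⁻¹ * (x * t * x⁻¹ * t) * y) ∈ ZZ two hK := by
    have hyi := hy.1.inv
    apply same two (hB.mul hB) ((hyi.mul hbaB).mul hy.1)
    · rw [cc_mul (hyi.mul hbaB) hy.1, cc_mul hyi hbaB, cc_mul hbB hB, hbc, cc_inv hy.1, hy.2, cc_mul hB hB]
      ring
    · rw [vv_mul (hyi.mul hbaB) hy.1, vv_mul hyi hbaB, cc_mul hyi hbaB, cc_mul hbB hB, hbc, vv_mul hbB hB, hbc, hbv,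
        cc_inv hy.1, vv_inv two hy.1, hy.2, vv_mul hB hB, inv_one, div_one]
      have hyv' : vv x = (cc t + 1) * vv y := by rw [hyv]; field_simp
      linear_combination (-(cc t + 1)) * hyv' - (cc t ^ 2 + cc t + 1) * vv y * two
  have h2 : y⁻¹ * (x * t * x⁻¹ * t) * y ∈ X := by
    have := X.mul_mem (X.mul_mem ht ht) (hZ h1)
    rwa [mul_inv_cancel_left] at this
  obtain ⟨g, hg, hgx, hgy⟩ := tri hX (a := t) (b := x * t * x⁻¹) (x := x) (y := y) ht
    (by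
      have e : x⁻¹ * (x * t * x⁻¹) * x = t := by group
      rw [e]; exact ht) h2
  have hgB := hXx g hg hgx
  by_cases hcg : cc g = 1
  · have h3 : t⁻¹ * g ∈ X := X.mul_mem (X.inv_mem ht) hg
    have h4 : IsB (t⁻¹ * g) := hB.inv.mul hgB
    have h5 : cc (t⁻¹ * g) ≠ 1 := by
      rw [cc_mul hB.inv hgB, cc_inv hB, hcg, mul_one]
      intro h
      exact hc (inv_eq_one.1 h)
    have h6 : y⁻¹ * (t⁻¹ * g) * y ∈ X := by
      have e : (t * y)⁻¹ * g * y = y⁻¹ * (t⁻¹ * g) * y := by group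
      rwa [e] at hgy
    have hyX := Lk two hZ h3 h4 h5 hy h6
    have h7 : x * t * x⁻¹ * t ∈ X := by
      have := X.mul_mem (X.mul_mem hyX h2) (X.inv_mem hyX)
      have e : y * (y⁻¹ * (x * t * x⁻¹ * t) * y) * y⁻¹ = x * t * x⁻¹ * t := by group
      rwa [e] at this
    have h8 : x * t * x⁻¹ ∈ X := by
      have := X.mul_mem h7 (X.inv_mem ht)
      rwa [mul_inv_cancel_right] at this
    apply hxX
    refine Lk two hZ h8 hbB (by rw [hbc]; exact hc) hx ?_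
    have e : x⁻¹ * (x * t * x⁻¹) * x = t := by group
    rw [e]; exact ht
  · exact hxX (Lk two hZ hg hgB hcg hx hgx)

/-- the star property for translations -/
theorem starV {X : Subgroup (GJ hK)} (hX : Bin X) (hZ : ZZ two hK ≤ X) (hP : X ≤ PP hK)
    (hti : ∀ x : GJ hK, IsB x → ∀ g ∈ X, vv g ≠ 0 → x⁻¹ * g * x ∈ X → ∀ k, x⁻¹ * k * x ∈ X → k ∈ X)
    {a l : K} (ha : a ∈ V X) (hl : ∃ x : GJ hK, IsB x ∧ cc x = l ∧ vv x = 0)
    (hl' : ∃ y : GJ hK, IsB y ∧ cc y = 1 + l ∧ vv y = 0) : l * a ∈ V X := by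
  by_cases ha0 : a = 0
  · rw [ha0, mul_zero]; exact V_zero X
  obtain ⟨p, hp, hp', rfl⟩ := ha
  obtain ⟨x, hxB, hxc, hxv⟩ := hl
  obtain ⟨y, hyB, hyc, hyv⟩ := hl'
  have hl0 : l ≠ 0 := hxc ▸ cc_ne hxB
  have hl1 : 1 + l ≠ 0 := hyc ▸ cc_ne hyB
  obtain ⟨b, hb, hbv⟩ := exists_vv (hK := hK) two (l * vv p)
  have h1 : x⁻¹ * b * x ∈ X := by
    obtain ⟨h1, h2⟩ := conj_PP' two hxB hb
    apply mem_of_V two hZ h1
    rw [h2, hbv, hxc, inv_mul_cancel_left₀ hl0]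
    exact ⟨p, hp, hp', rfl⟩
  have h2 : y⁻¹ * (b * p) * y ∈ X := by
    obtain ⟨h1, h2⟩ := conj_PP' two hyB ((PP hK).mul_mem hb hp')
    apply mem_of_V two hZ h1
    rw [h2, vv_mul hb.1 hp'.1, hbv, hyc, hb.2]
    have e : (1 + l)⁻¹ * (1 * vv p + l * vv p) = vv p := by
      field_simp
    rw [e]
    exact ⟨p, hp, hp', rfl⟩
  obtain ⟨g, hg, hgx, hgy⟩ := tri hX (a := p) (b := b) (x := x) (y := y) hp h1 h2
  have hbX : b ∈ X := by
    by_cases hg0 : vv g = 0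
    · have hgZ : g ∈ ZZ two hK := ⟨hP hg, hg0⟩
      have h3 : y⁻¹ * g * y ∈ ZZ two hK := by
        obtain ⟨h4, h5⟩ := conj_PP' two hyB (hP hg)
        exact ⟨h4, by rw [h5, hg0, mul_zero]⟩
      have h4 : y⁻¹ * p * y ∈ X := by
        have h5 := X.mul_mem (hZ h3) (X.inv_mem hgy)
        have e : y⁻¹ * g * y * ((p * y)⁻¹ * g * y)⁻¹ = y⁻¹ * p * y := by group
        rwa [e] at h5
      have h5 := hti y hyB p hp ha0 h4 _ h2
      have h6 := X.mul_mem h5 (X.inv_mem hp)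
      rwa [mul_inv_cancel_right] at h6
    · exact hti x hxB g hg hg0 hgx b h1
  exact ⟨b, hbX, hb, hbv⟩

end

omit [Fintype K] in
theorem add_self (two : (2 : K) = 0) (x : K) : x + x = 0 := by linear_combination x * two

/-- fixed field elements are multipliers -/
theorem mult_fixed {f : K} (hf : f ^ q = f) (h0 : f ≠ 0) : ∃ x : GJ hK, IsB x ∧ cc x = f ∧ vv x = 0 := by
  refine ⟨hd (Units.mk0 f h0), isB_hd _, ?_, vv_hd _⟩
  rw [cc_hd, Units.val_mk0, two_mul, pow_add, hf]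
  field_simp

/-- there is a pair of multipliers `b`, `1 + b` outside the fixed field -/
theorem exists_mult (two : (2 : K) = 0) (h4 : 4 ≤ q) : ∃ b : K, b ^ q ≠ b ∧
    (∃ x : GJ hK, IsB x ∧ cc x = b ∧ vv x = 0) ∧ ∃ y : GJ hK, IsB y ∧ cc y = 1 + b ∧ vv y = 0 := by
  obtain ⟨r, hr, -⟩ := exists_gen_norm_one hK
  have hr1 : (r : K) ^ (q + 1) = 1 := by
    rw [← Units.val_pow_eq_pow_val, ← hr, pow_orderOf_eq_one, Units.val_one]
  have hr0 : (r : K) ≠ 0 := r.ne_zero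
  have hrq : (r : K) ^ q = (r : K)⁻¹ := by
    rw [pow_succ] at hr1
    exact eq_inv_of_mul_eq_one_left hr1
  have hr3 : (r : K) ^ 3 ≠ 1 := by
    intro h
    have h1 : r ^ 3 = 1 := Units.ext (by rw [Units.val_pow_eq_pow_val, h, Units.val_one])
    have h2 := orderOf_dvd_of_pow_eq_one h1
    rw [hr] at h2
    have := Nat.le_of_dvd (by norm_num) h2
    omega
  -- b₀ = r⁻³, b₀^q = r³
  obtain ⟨c, hc⟩ : ∃ c, c = (r : K) ^ 3 := ⟨_, rfl⟩
  have hc0 : c ≠ 0 := by rw [hc]; exact pow_ne_zero _ hr0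
  have hcq : c ^ q = c⁻¹ := by
    rw [hc, ← pow_mul, mul_comm 3 q, pow_mul, hrq, inv_pow]
  have hc1 : c ≠ 1 := by rw [hc]; exact hr3
  have hcc : c⁻¹ ≠ c := by
    intro h
    have h1 : c * c = 1 := by
      nth_rewrite 1 [← h]
      exact inv_mul_cancel₀ hc0
    have h2 : (c - 1) * (c - 1) = 0 := by linear_combination h1 - (c - 1) * two
    exact hc1 (sub_eq_zero.1 (mul_self_eq_zero.1 h2))
  obtain ⟨f, hf⟩ : ∃ f, f = c + c⁻¹ := ⟨_, rfl⟩
  have hf0 : f ≠ 0 := by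
    intro h
    apply hcc
    rw [hf] at h
    linear_combination h - c * two
  have hfq : f ^ q = f := by
    rw [hf, add_pow_q hK, inv_pow, hcq, inv_inv, add_comm]
  have hfi : (f⁻¹) ^ q = f⁻¹ := by rw [inv_pow, hfq]
  obtain ⟨x, hxB, hxc, hxv⟩ := mult_fixed (hK := hK) hfi (inv_ne_zero hf0)
  -- multiplier c : from hd r⁻¹ ; c⁻¹ : from hd r
  have h1 : cc (hd (hK := hK) r) = c⁻¹ := by
    rw [cc_hd, mul_comm, pow_mul, hrq, hc]
    field_simp
  have h2 : cc (hd (hK := hK) r⁻¹) = c := by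
    rw [cc_hd, mul_comm, pow_mul, Units.val_inv_eq_inv_val, inv_pow, hrq, hc]
    field_simp
  refine ⟨c / f, ?_, ⟨hd r⁻¹ * x, (isB_hd _).mul hxB, ?_, ?_⟩, ⟨hd r * x, (isB_hd _).mul hxB, ?_, ?_⟩⟩
  · rw [div_pow, hfq, hcq]
    intro h
    apply hcc
    exact (div_left_inj' hf0).1 h
  · rw [cc_mul (isB_hd _) hxB, h2, hxc, div_eq_mul_inv]
  · rw [vv_mul (isB_hd _) hxB, hxv, vv_hd, mul_zero, add_zero]
  · rw [cc_mul (isB_hd _) hxB, h1, hxc]
    have : 1 + c / f = c⁻¹ * f⁻¹ := by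
      have : f = c + c⁻¹ := hf
      field_simp
      rw [this]
      field_simp
      linear_combination c ^ 2 * two
    rw [this]
  · rw [vv_mul (isB_hd _) hxB, hxv, vv_hd, mul_zero, add_zero]

/-- binary subgroups between `ZZ` and `PP` -/
theorem between (two : (2 : K) = 0) (h4 : 4 ≤ q) {H : Subgroup (GJ hK)} (hH : Bin H) (hZ : ZZ two hK ≤ H)
    (hP : H ≤ PP hK) : H = ZZ two hK ∨ H = PP hK := by
  classical
  by_cases hv : ∀ g ∈ H, vv g = 0
  · left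
    exact le_antisymm (fun g hg => ⟨hP hg, hv g hg⟩) hZ
  right
  push Not at hv
  obtain ⟨g0, hg0, hg0v⟩ := hv
  obtain ⟨X, ⟨hX1, hX2, hX3, g1, hg1, hg1v⟩, hmin⟩ := Set.exists_min_image
    {X : Subgroup (GJ hK) | IntC H X ∧ ZZ two hK ≤ X ∧ X ≤ PP hK ∧ ∃ g ∈ X, vv g ≠ 0}
    (fun X => Nat.card X) (Set.toFinite _) ⟨H, IntC.refl H, hZ, hP, g0, hg0, hg0v⟩
  have hXb := hX1.bin hH
  have hti : ∀ x : GJ hK, IsB x → ∀ g ∈ X, vv g ≠ 0 → x⁻¹ * g * x ∈ X → ∀ k, x⁻¹ * k * x ∈ X → k ∈ X := by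
    intro x hx g hg hgv hgx k hk
    have h1 : Nat.card X ≤ Nat.card (X ⊓ cj x X : Subgroup (GJ hK)) := by
      apply hmin
      refine ⟨hX1.inter (hX1.cj x), ?_, le_trans inf_le_left hX3, g, ⟨hg, mem_cj.2 hgx⟩, hgv⟩
      intro z hz
      refine ⟨hX2 hz, mem_cj.2 (hX2 ?_)⟩
      obtain ⟨h1, h2⟩ := conj_PP' two hx hz.1
      exact ⟨h1, by rw [h2, hz.2, mul_zero]⟩
    have h2 : X ⊓ cj x X = X := Subgroup.eq_of_le_of_card_ge inf_le_left h1
    have h3 : X ≤ cj x X := inf_eq_left.1 h2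
    have h4 : X = cj x X := by
      apply Subgroup.eq_of_le_of_card_ge h3
      unfold cj
      rw [Nat.card_congr (X.equivMapOfInjective _ (MulAut.conj x).injective).toEquiv.symm]
    rw [h4]
    exact mem_cj.2 hk
  -- V X = everything
  have hone : ∀ a ∈ V X, ∀ f : K, f ^ q = f → f * a ∈ V X := by
    intro a ha f hf
    by_cases h0 : f = 0
    · rw [h0, zero_mul]; exact V_zero X
    by_cases h1 : 1 + f = 0
    · have : f = 1 := by linear_combination h1 - two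
      rw [this, one_mul]; exact ha
    apply starV two hXb hX2 hX3 hti ha (mult_fixed hf h0) (mult_fixed _ h1)
    rw [add_pow_q hK, hf, one_pow]
  obtain ⟨b, hb, hb1, hb2⟩ := exists_mult (hK := hK) two h4
  have hV : ∀ z : K, z ∈ V X := by
    intro z
    -- z = (f1 + f2 b) * vv g1
    have hbb : b + b ^ q ≠ 0 := by
      intro h
      apply hb
      linear_combination h - b * two
    obtain ⟨w, hw⟩ : ∃ w, w = z / vv g1 := ⟨_, rfl⟩
    have hzw : z = w * vv g1 := by rw [hw]; field_simp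
    obtain ⟨f2, hf2⟩ : ∃ f2, f2 = (w + w ^ q) / (b + b ^ q) := ⟨_, rfl⟩
    have hf2q : f2 ^ q = f2 := by
      rw [hf2, div_pow, add_pow_q hK, add_pow_q hK, pow_q_pow_q hK, pow_q_pow_q hK, add_comm (w ^ q), add_comm (b ^ q)]
    have hf2b : f2 * (b + b ^ q) = w + w ^ q := by rw [hf2]; field_simp
    obtain ⟨f1, hf1⟩ : ∃ f1, f1 = w + f2 * b := ⟨_, rfl⟩
    have hf1q : f1 ^ q = f1 := by
      rw [hf1, add_pow_q hK, mul_pow, hf2q]
      linear_combination hf2b + w ^ q * two - f2 * b * two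
    have hg : vv g1 ∈ V X := ⟨g1, hg1, hX3 hg1, rfl⟩
    have h1 := hone _ hg f1 hf1q
    have h2 := hone _ (starV two hXb hX2 hX3 hti hg hb1 hb2) f2 hf2q
    have h3 := V_add h1 h2
    have e : f1 * vv g1 + f2 * (b * vv g1) = z := by
      rw [hzw, hf1]
      linear_combination f2 * b * vv g1 * two
    rwa [e] at h3
  have hPX : PP hK ≤ X := fun p hp => mem_of_V two hX2 hp (hV _)
  obtain ⟨S, ⟨s, hs⟩, hS⟩ := hX1
  have h5 : PP hK ≤ cj s H := by
    intro p hp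
    exact mem_cj.2 ((hS p).1 (hPX hp) s hs)
  apply Subgroup.eq_of_le_of_card_ge hP
  calc Nat.card (PP hK) ≤ Nat.card (cj s H) := Nat.card_le_card_of_injective _ (Subgroup.inclusion_injective h5)
    _ = Nat.card H := by
      unfold cj
      rw [Nat.card_congr (H.equivMapOfInjective _ (MulAut.conj s).injective).toEquiv.symm]

end H61.BinU3
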