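import Cfsg.Agent.Lib.H61.BinU3b
import Mathlib

/-!
Binary subgroups of `SU₃(q)`, `q` even: the Borel case (helper61).
-/

set_option autoImplicit false

namespace H61.BinU3

open Cfsg H7.QuadExt H7.UnitSU H24.U3Syl H62.BSU H61.BinSz
open H61.BinAct hiding Good
open Matrix hiding J

/-- a triple argument with double cosets -/
theorem dc {G : Type*} [Group G] {H : Subgroup G} (hH : Bin H) {w p p' h₁ h₂ : G} (hp : p ∈ H) (hp' : p' ∈ H)
    (h1 : h₁ ∈ H) (h2 : h₂ ∈ H) (e : w⁻¹ * p' * w = h₁ * (w⁻¹ * p * w) * h₂) :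
    ∃ g ∈ H, w⁻¹ * g * w ∈ H ∧ w⁻¹ * (p'⁻¹ * g * p) * w ∈ H := by
  obtain ⟨g, hg⟩ := hH 3 ![1, w, p * w] ![1, w, p' * w] (by
    have c01 : ∃ g : G, (1 : G)⁻¹ * g * 1 ∈ H ∧ w⁻¹ * g * w ∈ H := ⟨1, by simp, by simp⟩
    have c02 : ∃ g : G, (1 : G)⁻¹ * g * 1 ∈ H ∧ (p' * w)⁻¹ * g * (p * w) ∈ H := by
      refine ⟨p' * p⁻¹, by simpa using H.mul_mem hp' (H.inv_mem hp), ?_⟩
      have e : (p' * w)⁻¹ * (p' * p⁻¹) * (p * w) = 1 := by group
      rw [e]; exact H.one_mem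
    have c12 : ∃ g : G, w⁻¹ * g * w ∈ H ∧ (p' * w)⁻¹ * g * (p * w) ∈ H := by
      refine ⟨w * h₁ * w⁻¹, ?_, ?_⟩
      · have e : w⁻¹ * (w * h₁ * w⁻¹) * w = h₁ := by group
        rw [e]; exact h1
      · have e2 : (p' * w)⁻¹ * (w * h₁ * w⁻¹) * (p * w) = h₂⁻¹ := by
          calc (p' * w)⁻¹ * (w * h₁ * w⁻¹) * (p * w) = (w⁻¹ * p' * w)⁻¹ * h₁ * (w⁻¹ * p * w) := by group
            _ = _ := by rw [e]; group
        rw [e2]; exact H.inv_mem h2
    have c0 : ∃ g : G, (1 : G)⁻¹ * g * 1 ∈ H ∧ (1 : G)⁻¹ * g * 1 ∈ H := ⟨1, by simp, by simp⟩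
    have c1 : ∃ g : G, w⁻¹ * g * w ∈ H ∧ w⁻¹ * g * w ∈ H := ⟨1, by simp, by simp⟩
    have c2 : ∃ g : G, (p' * w)⁻¹ * g * (p * w) ∈ H ∧ (p' * w)⁻¹ * g * (p * w) ∈ H := by
      obtain ⟨g, -, h⟩ := c02
      exact ⟨g, h, h⟩
    intro i j
    fin_cases i <;> fin_cases j
    · simpa using c0
    · simpa using c01
    · simpa using c02
    · obtain ⟨g, h1, h2⟩ := c01; exact ⟨g, h2, h1⟩
    · simpa using c1
    · simpa using c12
    · obtain ⟨g, h1, h2⟩ := c02; exact ⟨g, h2, h1⟩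
    · obtain ⟨g, h1, h2⟩ := c12; exact ⟨g, h2, h1⟩
    · simpa using c2)
  refine ⟨g, ?_, ?_, ?_⟩
  · have := hg 0; simpa using this
  · have := hg 1; simpa using this
  · have : (p' * w)⁻¹ * g * (p * w) ∈ H := by have := hg 2; simpa using this
    have e : (p' * w)⁻¹ * g * (p * w) = w⁻¹ * (p'⁻¹ * g * p) * w := by group
    rwa [e] at this

variable {K : Type*} [Field K] [Fintype K] {q : ℕ} {hK : Fintype.card K = q ^ 2}

theorem en_conj_ww (two : (2 : K) = 0) (p : GJ hK) (i j : Fin 3) :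
    en ((ww two)⁻¹ * p * ww two) i j = en p (Fin.rev i) (Fin.rev j) := by
  rw [ww_inv]
  show ((JS two).1 * p.1.1 * (JS two).1) i j = _
  exact JMJ _ _ _

/-- an element `g` with `g` and `w⁻¹ g w` in the Borel subgroup is diagonal -/
theorem diag_of (two : (2 : K) = 0) {g : GJ hK} (h' : IsB ((ww two)⁻¹ * g * ww two)) :
    en g 0 1 = 0 ∧ en g 0 2 = 0 ∧ en g 1 2 = 0 := by
  refine ⟨?_, ?_, ?_⟩
  · have := h'.e21
    rw [en_conj_ww] at this
    exact this
  · have := h'.e20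
    rw [en_conj_ww] at this
    exact this
  · have := h'.e10
    rw [en_conj_ww] at this
    exact this

/-- consequence of the triple argument -/
theorem dc_eq (two : (2 : K) = 0) {H : Subgroup (GJ hK)} (hH : Bin H) (hP : PP hK ≤ H) (hB : H ≤ Bo hK)
    {a b a' b' : K} (h : Good q a b) (h' : Good q a' b') {t : GJ hK} (ht : t ∈ H) (hb : b ≠ 0)
    (hbb : b' = b * en t 0 0) :
    ∃ g ∈ H, IsB g ∧ a' * en g 2 2 = en g 1 1 * a ∧ b' * en g 2 2 = en g 0 0 * b := by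
  have htB : IsB t := hB ht
  have hpP : uu two a b h ∈ PP hK := ⟨isB_uu two h, cc_uu two h⟩
  have hpP' : uu two a' b' h' ∈ PP hK := ⟨isB_uu two h', cc_uu two h'⟩
  have h1 : en ((ww two)⁻¹ * uu two a b h * ww two * t) 2 0 = b * en t 0 0 := by
    rw [en_mul, htB.e10, htB.e20, en_conj_ww]
    have : en (uu (hK := hK) two a b h) (Fin.rev 2) (Fin.rev 0) = b := by
      rw [en_uu]; simp [um, Fin.rev]
    rw [this]; ring
  have h2 : en ((ww two)⁻¹ * uu (hK := hK) two a' b' h' * ww two) 2 0 = b * en t 0 0 := by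
    rw [en_conj_ww, ← hbb, en_uu]
    simp [um, Fin.rev]
  obtain ⟨u₁, hu₁, u₂, hu₂, hu⟩ := bruhat two (g := (ww two)⁻¹ * uu two a b h * ww two * t)
    (g' := (ww two)⁻¹ * uu two a' b' h' * ww two) (by
      rw [h1]; exact mul_ne_zero hb htB.h00) (by rw [h1, h2])
  obtain ⟨g, hg, hg1, hg2⟩ := dc hH (w := ww two) (hP hpP) (hP hpP') (hP hu₁) (H.mul_mem ht (hP hu₂)) (by
    rw [hu]; group)
  have hgB : IsB g := hB hg
  obtain ⟨d01, d02, d12⟩ := diag_of two (hB hg1)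
  obtain ⟨e01, e02, e12⟩ := diag_of two (hB hg2)
  obtain ⟨g', hg'⟩ : ∃ g', g' = (uu two a' b' h')⁻¹ * g * uu two a b h := ⟨_, rfl⟩
  rw [← hg'] at e01 e02 e12
  have he : uu two a' b' h' * g' = g * uu two a b h := by rw [hg']; group
  have hgB' : IsB g' := by
    rw [hg']; exact ((isB_uu two h').inv.mul hgB).mul (isB_uu two h)
  have q22 : en (uu two a' b' h' * g') 2 2 = en (g * uu two a b h) 2 2 := by rw [he]
  have q12 : en (uu two a' b' h' * g') 1 2 = en (g * uu two a b h) 1 2 := by rw [he]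
  have q02 : en (uu two a' b' h' * g') 0 2 = en (g * uu two a b h) 0 2 := by rw [he]
  rw [en_mul, en_mul, hgB.e20, hgB.e21, e02, e12] at q22
  rw [en_mul, en_mul, hgB.e10, e02, e12, d12] at q12
  rw [en_mul, en_mul, e02, e12, d01, d02] at q02
  simp only [en_uu] at q22 q12 q02
  simp [um] at q22 q12 q02
  refine ⟨g, hg, hgB, ?_, ?_⟩
  · rw [← q22]; exact q12
  · rw [← q22]; exact q02

/-- the Borel subgroups containing `P` are not binary -/
theorem not_above (two : (2 : K) = 0) (h4 : 4 ≤ q) {H : Subgroup (GJ hK)} (hH : Bin H) (hP : PP hK ≤ H)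
    (hB : H ≤ Bo hK) : False := by
  obtain ⟨b, hb⟩ := exists_trace_eq hK (one_pow (M := K) q)
  have hb0 : b ≠ 0 := by
    rintro rfl
    rw [zero_pow_q hK, add_zero] at hb
    exact zero_ne_one hb
  have hgood : Good q (1 : K) b := by unfold Good; rw [one_pow]; exact hb
  by_cases hall : ∀ t ∈ H, (en t 0 0) ^ q = en t 0 0
  · obtain ⟨r, hr, -⟩ := exists_gen_norm_one hK
    have hr1 : (r : K) ^ (q + 1) = 1 := by
      rw [← Units.val_pow_eq_pow_val, ← hr, pow_orderOf_eq_one, Units.val_one]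
    have hrne : (r : K) ≠ 1 := by
      intro h
      have h1 : r = 1 := Units.ext (by rw [h, Units.val_one])
      rw [h1, orderOf_one] at hr
      omega
    have hgood' : Good q (r : K) b := by unfold Good; rw [hr1]; exact hb
    obtain ⟨g, hg, hgB, h1, h2⟩ := dc_eq two hH hP hB hgood hgood' H.one_mem hb0 (by
      rw [en_one]; simp)
    have h3 := hall g hg
    have h0 := hgB.h00
    have h5 : en g 2 2 = en g 0 0 := by
      apply mul_left_cancel₀ hb0
      rw [h2, mul_comm]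
    have h6 : (en g 0 0) * (en g 0 0) = 1 := by
      have := hgB.eq22
      rw [h3, h5] at this
      nth_rewrite 1 [this]
      exact inv_mul_cancel₀ h0
    have h7 : (en g 0 0 - 1) * (en g 0 0 - 1) = 0 := by linear_combination h6 - (en g 0 0 - 1) * two
    have h8 : en g 0 0 = 1 := sub_eq_zero.1 (mul_self_eq_zero.1 h7)
    have h9 := hgB.eq11
    rw [h8, one_pow, inv_one, mul_one] at h9
    rw [h5, h8, h9, mul_one, mul_one] at h1
    exact hrne h1
  · push Not at hall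
    obtain ⟨t, ht, htq⟩ := hall
    obtain ⟨a', ha'⟩ := exists_norm_eq hK (c := b * en t 0 0 + (b * en t 0 0) ^ q) (by
      rw [add_pow_q hK, pow_q_pow_q hK, add_comm])
    have hgood' : Good q a' (b * en t 0 0) := ha'.symm
    obtain ⟨g, hg, hgB, h1, h2⟩ := dc_eq two hH hP hB hgood hgood' ht hb0 rfl
    apply htq
    have h3 : en t 0 0 * en g 2 2 = en g 0 0 := by
      apply mul_left_cancel₀ hb0
      rw [← mul_assoc, h2, mul_comm]
    have h0 := hgB.h00
    have h4 : (en g 0 0) ^ q ≠ 0 := pow_ne_zero _ h0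
    have h5 : en t 0 0 = en g 0 0 * (en g 0 0) ^ q := by
      rw [hgB.eq22] at h3
      exact (mul_inv_eq_iff_eq_mul₀ h4).1 h3
    rw [h5, mul_pow, pow_q_pow_q hK, mul_comm]

/-- the Borel case -/
theorem borel_case (two : (2 : K) = 0) (h4 : 4 ≤ q) {H : Subgroup (GJ hK)} (hH : Bin H) (hZ : ZZ two hK ≤ H)
    (hB : H ≤ Bo hK) : H = ZZ two hK := by
  by_cases hP : PP hK ≤ H
  · exact (not_above two h4 hH hP hB).elim
  by_cases hHP : H ≤ PP hK
  · rcases between two h4 hH hZ hHP with h | h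
    · exact h
    · exact absurd h.ge hP
  · exfalso
    obtain ⟨t, ht, htP⟩ := SetLike.not_le_iff_exists.1 hHP
    obtain ⟨x, hx, hxH⟩ := SetLike.not_le_iff_exists.1 hP
    have htB : IsB t := hB ht
    exact Ek two hH hZ ht htB (fun h => htP ⟨htB, h⟩) hx hxH (fun g hg _ => hB hg)

end H61.BinU3
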