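import Cfsg.Agent.Lib.H61.BinU3c
import Cfsg.Agent.Lib.H61.BinFix
import Mathlib

/-!
Binary subgroups of `SU₃(q)`, `q` even: the general case (helper61).
-/

set_option autoImplicit false

namespace H61.BinU3

open Cfsg H7.QuadExt H7.UnitSU H24.U3Syl H62.BSU H61.BinSz H61.BinFix
open H61.BinAct hiding Good
open Matrix hiding J

variable {K : Type*} [Field K] [Fintype K] {q : ℕ} {hK : Fintype.card K = q ^ 2}

/-- the isomorphism with `SU` -/
def Phi (two : (2 : K) = 0) (hK : Fintype.card K = q ^ 2) {θ : K} (hθ : θ + θ ^ q = 1) : GJ hK →* SU 3 K q where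
  toFun g := ⟨MS two hθ * g.1 * (MS two hθ)⁻¹, conj_mem hK (Mm_form two hK hθ) g.2⟩
  map_one' := by
    apply Subtype.ext
    show MS two hθ * 1 * (MS two hθ)⁻¹ = 1
    group
  map_mul' g h := by
    apply Subtype.ext
    show MS two hθ * (g.1 * h.1) * (MS two hθ)⁻¹ = (MS two hθ * g.1 * (MS two hθ)⁻¹) * (MS two hθ * h.1 * (MS two hθ)⁻¹)
    group

theorem Phi_inj (two : (2 : K) = 0) {θ : K} (hθ : θ + θ ^ q = 1) : Function.Injective (Phi two hK hθ) := by
  intro g h e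
  apply Subtype.ext
  have h1 : MS two hθ * g.1 * (MS two hθ)⁻¹ = MS two hθ * h.1 * (MS two hθ)⁻¹ := congrArg Subtype.val e
  exact mul_left_cancel (mul_right_cancel h1)

theorem Phi_surj (two : (2 : K) = 0) {θ : K} (hθ : θ + θ ^ q = 1) : Function.Surjective (Phi two hK hθ) := by
  rintro ⟨s, hs⟩
  have hs' := (mem_SU_iff hK s).1 hs
  obtain ⟨M, hM⟩ : ∃ M, M = MS two hθ := ⟨_, rfl⟩
  have hMf : M.1ᵀ * bar q M.1 = J K := by rw [hM]; exact Mm_form two hK hθ
  have h1 : M.1 * (M⁻¹).1 = 1 := congrArg Subtype.val (mul_inv_cancel M)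
  have h2 : bar q M.1 * bar q (M⁻¹).1 = 1 := by rw [← bar_mul hK, h1, bar_one hK]
  have h3 : (M⁻¹).1ᵀ * M.1ᵀ = 1 := by rw [← Matrix.transpose_mul, h1, Matrix.transpose_one]
  have hg : (M⁻¹ * s * M) ∈ GJ hK := by
    show ((M⁻¹).1 * s.1 * M.1)ᵀ * J K * bar q ((M⁻¹).1 * s.1 * M.1) = J K
    rw [bar_mul hK, bar_mul hK, Matrix.transpose_mul, Matrix.transpose_mul]
    calc M.1ᵀ * (s.1ᵀ * (M⁻¹).1ᵀ) * J K * (bar q (M⁻¹).1 * bar q s.1 * bar q M.1)
        = M.1ᵀ * (s.1ᵀ * (M⁻¹).1ᵀ) * (M.1ᵀ * bar q M.1) * (bar q (M⁻¹).1 * bar q s.1 * bar q M.1) := by rw [hMf]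
      _ = M.1ᵀ * (s.1ᵀ * (((M⁻¹).1ᵀ * M.1ᵀ) * (bar q M.1 * bar q (M⁻¹).1)) * bar q s.1) * bar q M.1 := by
          simp only [Matrix.mul_assoc]
      _ = M.1ᵀ * (s.1ᵀ * bar q s.1) * bar q M.1 := by rw [h2, h3, Matrix.one_mul, Matrix.mul_one]
      _ = J K := by rw [hs', Matrix.mul_one, hMf]
  refine ⟨⟨M⁻¹ * s * M, hg⟩, ?_⟩
  apply Subtype.ext
  show MS two hθ * (M⁻¹ * s * M) * (MS two hθ)⁻¹ = s
  rw [← hM]; group

/-- generation -/
theorem gen_top (two : (2 : K) = 0) (h3 : 3 ≤ q) {N : Subgroup (GJ hK)} (hP : PP hK ≤ N) (hw : ww two ∈ N) : N = ⊤ := by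
  obtain ⟨θ, hθ⟩ := exists_trace_eq hK (one_pow (M := K) q)
  have h1 : N.map (Phi two hK hθ) = ⊤ := by
    rw [eq_top_iff, ← closure_Gen two hK hθ h3, Subgroup.closure_le]
    rintro _ (⟨p, rfl⟩ | rfl)
    · exact ⟨uu two _ _ (good_pt hK p), hP ⟨isB_uu two _, cc_uu two _⟩, rfl⟩
    · exact ⟨ww two, hw, rfl⟩
  rw [eq_top_iff]
  intro g _
  have h2 : Phi two hK hθ g ∈ N.map (Phi two hK hθ) := by rw [h1]; trivial
  obtain ⟨g', hg', e⟩ := h2
  rw [← Phi_inj two hθ e]; exact hg'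

/-- normal subgroups -/
theorem normal_cases (two : (2 : K) = 0) (h3 : 3 ≤ q) {N : Subgroup (GJ hK)} (hN : N.Normal) :
    N ≤ Subgroup.center (GJ hK) ∨ N = ⊤ := by
  obtain ⟨θ, hθ⟩ := exists_trace_eq hK (one_pow (M := K) q)
  have hN' : (N.map (Phi two hK hθ)).Normal := hN.map _ (Phi_surj two hθ)
  rcases H6.SUGenC.normal_le_or hK 3 le_rfl (by omega) (N.map (Phi two hK hθ)) hN' with h | h
  · left
    intro g hg
    rw [Subgroup.mem_center_iff]
    intro x
    apply Phi_inj two hθ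
    rw [map_mul, map_mul]
    exact Subgroup.mem_center_iff.1 (h ⟨g, hg, rfl⟩) _
  · right
    rw [eq_top_iff]
    intro g _
    have h2 : Phi two hK hθ g ∈ N.map (Phi two hK hθ) := by rw [h]; trivial
    obtain ⟨g', hg', e⟩ := h2
    rw [← Phi_inj two hθ e]; exact hg'

/-- central elements are scalar -/
theorem center_sc (two : (2 : K) = 0) {z : GJ hK} (hz : z ∈ Subgroup.center (GJ hK)) : ∃ c : K, z.1.1 = diagonal (fun _ => c) := by
  obtain ⟨θ, hθ⟩ := exists_trace_eq hK (one_pow (M := K) q)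
  have h1 : Phi two hK hθ z ∈ Subgroup.center (SU 3 K q) := by
    rw [Subgroup.mem_center_iff]
    intro x
    obtain ⟨y, hy⟩ := Phi_surj (hK := hK) two hθ x
    rw [← hy, ← map_mul, ← map_mul, Subgroup.mem_center_iff.1 hz y]
  obtain ⟨c, hc⟩ := center_scalar hK (by norm_num) h1
  refine ⟨c, ?_⟩
  obtain ⟨M, hM⟩ : ∃ M, M = MS two hθ := ⟨_, rfl⟩
  have h2 : M.1 * z.1.1 * (M⁻¹).1 = diagonal (fun _ => c) := by rw [hM]; exact hc
  have h3 : (M⁻¹).1 * M.1 = 1 := congrArg Subtype.val (inv_mul_cancel M)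
  have hd : diagonal (fun _ : Fin 3 => c) = c • (1 : Matrix (Fin 3) (Fin 3) K) := by
    ext i j
    by_cases h : i = j
    · subst h; simp
    · simp [h]
  rw [hd] at h2 ⊢
  calc z.1.1 = ((M⁻¹).1 * M.1) * z.1.1 * ((M⁻¹).1 * M.1) := by rw [h3, Matrix.one_mul, Matrix.mul_one]
    _ = (M⁻¹).1 * (M.1 * z.1.1 * (M⁻¹).1) * M.1 := by simp only [Matrix.mul_assoc]
    _ = c • 1 := by rw [h2, Matrix.mul_smul, Matrix.smul_mul, Matrix.mul_one, h3]

theorem sc_center {z : GJ hK} {c : K} (hz : z.1.1 = diagonal (fun _ => c)) : z ∈ Subgroup.center (GJ hK) := by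
  rw [Subgroup.mem_center_iff]
  intro g
  apply Subtype.ext
  apply Subtype.ext
  show g.1.1 * z.1.1 = z.1.1 * g.1.1
  rw [hz]
  ext i j
  rw [Matrix.mul_diagonal, Matrix.diagonal_mul, mul_comm]

theorem center_le (two : (2 : K) = 0) : Subgroup.center (GJ hK) ≤ ZZ two hK := by
  intro z hz
  obtain ⟨c, hc⟩ := center_sc two hz
  have e : ∀ i j, en z i j = (diagonal (fun _ : Fin 3 => c)) i j := fun i j => by
    show z.1.1 i j = _
    rw [hc]
  have hB : IsB z := ⟨by rw [e]; simp, by rw [e]; simp⟩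
  have h22 : en z 2 2 = c := by rw [e]; simp
  have h11 : en z 1 1 = c := by rw [e]; simp
  have h12 : en z 1 2 = 0 := by rw [e]; simp
  have hc0 : c ≠ 0 := by rw [← h22]; exact hB.h22
  refine ⟨⟨hB, ?_⟩, ?_⟩
  · unfold cc; rw [h11, h22, div_self hc0]
  · unfold vv; rw [h12, zero_div]

/-- a central element of order two is trivial -/
theorem center_odd (two : (2 : K) = 0) {z : GJ hK} (hz : z ∈ Subgroup.center (GJ hK)) (h : z * z = 1) : z = 1 := by
  obtain ⟨c, hc⟩ := center_sc two hz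
  have e : ∀ i j, en z i j = (diagonal (fun _ : Fin 3 => c)) i j := fun i j => by
    show z.1.1 i j = _
    rw [hc]
  have h1 : en (z * z) 0 0 = 1 := by rw [h, en_one]; simp
  rw [en_mul, e, e, e, e, e] at h1
  simp at h1
  have h2 : (c - 1) * (c - 1) = 0 := by linear_combination h1 - (c - 1) * two
  have h3 : c = 1 := sub_eq_zero.1 (mul_self_eq_zero.1 h2)
  apply ext_en
  intro i j
  rw [e, h3, en_one]
  simp

/-- decomposition of `ZZ` -/
theorem ZZ_decomp (two : (2 : K) = 0) {g : GJ hK} (hg : g ∈ ZZ two hK) :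
    ∃ z ∈ Subgroup.center (GJ hK), ∃ (f : K) (h : Good q 0 f), g = z * uu two 0 f h := by
  obtain ⟨⟨hB, hc⟩, hv⟩ := hg
  have h22 := hB.h22
  have h11 : en g 1 1 = en g 2 2 := by
    unfold cc at hc
    exact (div_eq_one_iff_eq h22).1 hc
  obtain ⟨s, hs⟩ : ∃ s, s = en g 2 2 := ⟨_, rfl⟩
  have hs0 : s ≠ 0 := hs ▸ h22
  have h0 := hB.h00
  have e1 := hB.f11
  rw [h11, ← hs] at e1
  have e2 := hB.f02
  rw [← hs] at e2
  have e3 := hB.det
  rw [h11, ← hs] at e3
  have hsq0 : s ^ q ≠ 0 := pow_ne_zero _ hs0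
  have hk : en g 0 0 = s := mul_right_cancel₀ hsq0 (by rw [e2, e1])
  rw [hk] at e3
  have hsq : s ^ q = s⁻¹ := eq_inv_of_mul_eq_one_right e1
  have hz : (hd (hK := hK) (Units.mk0 s hs0)).1.1 = diagonal (fun _ => s) := by
    show hmat q s = _
    have h5 : s ^ q * s⁻¹ = s := by
      rw [hsq]
      field_simp
      linear_combination -e3
    have h6 : (s ^ q)⁻¹ = s := by rw [hsq, inv_inv]
    ext i j
    fin_cases i <;> fin_cases j <;> simp [hmat, h5, h6]
  have hzc := sc_center hz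
  have hzB : IsB (hd (hK := hK) (Units.mk0 s hs0)) := isB_hd _
  have h5 : IsB ((hd (hK := hK) (Units.mk0 s hs0))⁻¹ * g) := hzB.inv.mul hB
  have h6 : en ((hd (hK := hK) (Units.mk0 s hs0))⁻¹ * g) 0 0 = 1 := by
    have h7 : en g 0 0 = en (hd (Units.mk0 s hs0) * ((hd (hK := hK) (Units.mk0 s hs0))⁻¹ * g)) 0 0 := by
      rw [mul_inv_cancel_left]
    rw [en_mul, h5.e10, h5.e20, mul_zero, mul_zero, add_zero, add_zero, en_hd, hk] at h7
    have h8 : hmat q ((Units.mk0 s hs0 : Kˣ) : K) 0 0 = s := by simp [hmat]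
    rw [h8] at h7
    apply mul_left_cancel₀ hs0
    rw [← h7, mul_one]
  obtain ⟨a, b, hab, h7⟩ := eq_uu two h5 h6
  have h8 : vv ((hd (hK := hK) (Units.mk0 s hs0))⁻¹ * g) = 0 := by
    rw [vv_mul hzB.inv hB, hv, mul_zero, zero_add, vv_inv two hzB, vv_hd, zero_div]
  rw [h7, vv_uu] at h8
  subst h8
  exact ⟨_, hzc, b, hab, by rw [← h7]; group⟩

theorem uu_zero (two : (2 : K) = 0) (h : Good q (0 : K) 0) : uu (hK := hK) two 0 0 h = 1 := by
  apply Subtype.ext
  exact u_zero hK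

theorem uu_ne (two : (2 : K) = 0) {f : K} (h : Good q 0 f) (hf : f ≠ 0) : uu (hK := hK) two 0 f h ≠ 1 := by
  intro e
  have h1 : en (uu (hK := hK) two 0 f h) 0 2 = en (1 : GJ hK) 0 2 := by rw [e]
  rw [en_uu, en_one] at h1
  simp [um] at h1
  exact hf h1

theorem uu_sq (two : (2 : K) = 0) {f : K} (h : Good q 0 f) : uu (hK := hK) two 0 f h * uu two 0 f h = 1 := by
  apply Subtype.ext
  exact (invol_iff two hK).2 rfl

theorem uu_order (two : (2 : K) = 0) {f : K} (h : Good q 0 f) (hf : f ≠ 0) : orderOf (uu (hK := hK) two 0 f h) = 2 :=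
  orderOf_eq_prime (by rw [pow_two]; exact uu_sq two h) (uu_ne two h hf)

theorem uu_comm (two : (2 : K) = 0) {f a b : K} (h : Good q 0 f) (h' : Good q a b) :
    uu (hK := hK) two 0 f h * uu two a b h' = uu two a b h' * uu two 0 f h := by
  apply Subtype.ext
  exact (central_iff two hK h).2 rfl a b h'

/-- transitivity on isotropic points -/
theorem iso_trans (two : (2 : K) = 0) {v : Fin 3 → K} (hv : v ≠ 0)
    (h : v 0 * (v 2) ^ q + v 1 * (v 1) ^ q + v 2 * (v 0) ^ q = 0) :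
    ∃ (g : GJ hK) (l : K), ∀ i, en g i 0 = l * v i := by
  by_cases h2 : v 2 = 0
  · rw [h2, zero_pow_q hK, mul_zero, zero_mul, zero_add, add_zero, ← pow_succ'] at h
    have h1 : v 1 = 0 := by simpa using h
    have h0 : v 0 ≠ 0 := by
      intro h0
      apply hv
      funext i
      fin_cases i
      · exact h0
      · exact h1
      · exact h2
    refine ⟨1, (v 0)⁻¹, ?_⟩
    intro i
    rw [en_one]
    fin_cases i
    · show (1 : Matrix (Fin 3) (Fin 3) K) 0 0 = (v 0)⁻¹ * v 0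
      simp [h0]
    · show (1 : Matrix (Fin 3) (Fin 3) K) 1 0 = (v 0)⁻¹ * v 1
      simp [h1]
    · show (1 : Matrix (Fin 3) (Fin 3) K) 2 0 = (v 0)⁻¹ * v 2
      simp [h2]
  · have hab : Good q (v 1 / v 2) (v 0 / v 2) := by
      unfold Good
      rw [pow_succ, div_pow, div_pow]
      have : v 2 ^ q ≠ 0 := pow_ne_zero _ h2
      field_simp
      linear_combination h - v 1 * v 1 ^ q * two
    refine ⟨uu two _ _ hab * ww two, (v 2)⁻¹, ?_⟩
    intro i
    rw [en_mul]
    simp only [en_uu, en_ww]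
    fin_cases i
    · simp [um, J, div_eq_mul_inv, mul_comm]
    · simp [um, J, div_eq_mul_inv, mul_comm]
    · simp [um, J, h2]

/-- every involution is conjugate to an element of the root group -/
theorem inv_loc (two : (2 : K) = 0) {t : GJ hK} (ht : t * t = 1) (h1 : t ≠ 1) :
    ∃ (g : GJ hK) (f : K) (h : Good q 0 f), f ≠ 0 ∧ g⁻¹ * t * g = uu two 0 f h := by
  obtain ⟨j, hj⟩ : ∃ j, ∃ i, en t i j ≠ en (1 : GJ hK) i j := by
    by_contra hcon
    push Not at hcon
    exact h1 (ext_en fun i j => hcon j i)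
  obtain ⟨v, hv⟩ : ∃ v : Fin 3 → K, v = fun i => en t i j + en (1 : GJ hK) i j := ⟨_, rfl⟩
  have hti : t⁻¹ = t := inv_eq_of_mul_eq_one_right ht
  have hrev : ∀ i k, en t i k = (en t (Fin.rev k) (Fin.rev i)) ^ q := by
    intro i k
    have := en_inv t i k
    rwa [hti] at this
  have hv0 : v ≠ 0 := by
    obtain ⟨i, hi⟩ := hj
    intro h0
    apply hi
    have := congrFun h0 i
    rw [hv] at this
    simp only [Pi.zero_apply] at this
    linear_combination this - en (1 : GJ hK) i j * two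
  have hiso : v 0 * (v 2) ^ q + v 1 * (v 1) ^ q + v 2 * (v 0) ^ q = 0 := by
    have hf := form t j j
    rw [hv]
    fin_cases j
    · have r : en t 2 0 = (en t 2 0) ^ q := hrev 2 0
      simp [en_one, add_pow_q hK] at hf ⊢
      have : J K 0 0 = 0 := J00
      rw [this] at hf
      linear_combination hf - r + en t 2 0 * two
    · have r : en t 1 1 = (en t 1 1) ^ q := hrev 1 1
      simp [en_one, add_pow_q hK] at hf ⊢
      have : J K 1 1 = 1 := J11
      rw [this] at hf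
      linear_combination hf - r + (en t 1 1 + 1) * two
    · have r : en t 0 2 = (en t 0 2) ^ q := hrev 0 2
      simp [en_one, add_pow_q hK] at hf ⊢
      have : J K 2 2 = 0 := J22
      rw [this] at hf
      linear_combination hf - r + en t 0 2 * two
  have hfix : ∀ i, en t i 0 * v 0 + en t i 1 * v 1 + en t i 2 * v 2 = v i := by
    intro i
    have e1 : en (t * t) i j = en (1 : GJ hK) i j := by rw [ht]
    rw [en_mul] at e1
    have e2 : en (t * 1) i j = en t i j := by rw [mul_one]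
    rw [en_mul] at e2
    rw [hv]
    simp only
    linear_combination e1 + e2
  obtain ⟨g, l, hg⟩ := iso_trans (hK := hK) two hv0 hiso
  have hcol : ∀ i, en (t * g) i 0 = en g i 0 := by
    intro i
    rw [en_mul, hg, hg, hg, hg]
    linear_combination l * hfix i
  have hs : ∀ i, en (g⁻¹ * t * g) i 0 = en (1 : GJ hK) i 0 := by
    intro i
    rw [mul_assoc, en_mul, hcol, hcol, hcol, ← en_mul, inv_mul_cancel]
  have hB : IsB (g⁻¹ * t * g) := ⟨by rw [hs, en_one]; simp, by rw [hs, en_one]; simp⟩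
  obtain ⟨a, b, hab, he⟩ := eq_uu two hB (by rw [hs, en_one]; simp)
  have hsq : uu (hK := hK) two a b hab * uu two a b hab = 1 := by
    rw [← he]
    calc g⁻¹ * t * g * (g⁻¹ * t * g) = g⁻¹ * (t * t) * g := by group
      _ = 1 := by rw [ht]; group
  have ha : a = 0 := (invol_iff two hK).1 (congrArg Subtype.val hsq)
  subst ha
  refine ⟨g, b, hab, ?_, he⟩
  rintro rfl
  rw [uu_zero] at he
  apply h1
  calc t = g * (g⁻¹ * t * g) * g⁻¹ := by group
    _ = 1 := by rw [he]; group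

theorem hd_uu (two : (2 : K) = 0) (k : Kˣ) {f f' : K} (h : Good q 0 f) (h' : Good q 0 f')
    (e : f' = (k : K) ^ (q + 1) * f) : hd (hK := hK) k * uu two 0 f h = uu two 0 f' h' * hd k := by
  subst e
  have hk : (k : K) ≠ 0 := k.ne_zero
  have hkq : (k : K) ^ q ≠ 0 := pow_ne_zero _ hk
  apply ext_en
  intro i j
  rw [en_mul, en_mul]
  simp only [en_hd, en_uu]
  fin_cases i <;> fin_cases j <;> simp [hmat, um, zero_pow_q hK]
  field_simp
  ring

/-- all involutions are conjugate -/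
theorem one_class (two : (2 : K) = 0) (s t : GJ hK) (hs : orderOf s = 2) (ht : orderOf t = 2) : IsConj s t := by
  obtain ⟨g, f, h, hf, hg⟩ := inv_loc two (H61.BinFix.sq_one hs) (by
    rintro rfl; rw [orderOf_one] at hs; omega)
  obtain ⟨g', f', h', hf', hg'⟩ := inv_loc two (H61.BinFix.sq_one ht) (by
    rintro rfl; rw [orderOf_one] at ht; omega)
  have hq1 := (good_zero two).1 h
  have hq2 := (good_zero two).1 h'
  obtain ⟨k, hk⟩ := exists_norm_eq hK (c := f' / f) (by rw [div_pow, hq1, hq2])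
  have hk0 : k ≠ 0 := by
    rintro rfl
    rw [zero_pow (by omega)] at hk
    exact div_ne_zero hf' hf hk.symm
  have h1 := hd_uu (hK := hK) two (Units.mk0 k hk0) h h' (by rw [Units.val_mk0, hk]; field_simp)
  rw [isConj_iff]
  refine ⟨g' * hd (Units.mk0 k hk0) * g⁻¹, ?_⟩
  have e1 : s = g * uu two 0 f h * g⁻¹ := by rw [← hg]; group
  have e2 : t = g' * uu two 0 f' h' * g'⁻¹ := by rw [← hg']; group
  rw [e1, e2]
  calc g' * hd (Units.mk0 k hk0) * g⁻¹ * (g * uu two 0 f h * g⁻¹) * (g' * hd (Units.mk0 k hk0) * g⁻¹)⁻¹ =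
      g' * (hd (Units.mk0 k hk0) * uu two 0 f h) * (hd (Units.mk0 k hk0))⁻¹ * g'⁻¹ := by group
    _ = _ := by rw [h1]; group

/-- `ZZ` is inside binary subgroups containing an involution of `ZZ` -/
theorem ZZ_le_of (two : (2 : K) = 0) {X : Subgroup (GJ hK)} (hX : Bin X) (hC : Subgroup.center (GJ hK) ≤ X)
    {f : K} (h : Good q 0 f) (hf : f ≠ 0) (hfX : uu two 0 f h ∈ X) : ZZ two hK ≤ X := by
  intro g hg
  obtain ⟨z, hz, f', h', rfl⟩ := ZZ_decomp two hg
  refine X.mul_mem (hC hz) ?_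
  by_cases hf' : f' = 0
  · subst hf'
    rw [uu_zero]; exact X.one_mem
  · exact mem_of_comm (one_class two) hX (uu_order two h' hf') (uu_order two h hf) (uu_comm two h' h) hfX

theorem conj_ZZ (two : (2 : K) = 0) {x z : GJ hK} (hx : IsB x) (hz : z ∈ ZZ two hK) : x⁻¹ * z * x ∈ ZZ two hK := by
  obtain ⟨h1, h2⟩ := conj_PP' two hx hz.1
  exact ⟨h1, by rw [h2, hz.2, mul_zero]⟩

theorem conj_ZZ' (two : (2 : K) = 0) {x z : GJ hK} (hx : IsB x) (hz : z ∈ ZZ two hK) : x * z * x⁻¹ ∈ ZZ two hK := by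
  have := conj_ZZ two hx.inv hz
  rwa [inv_inv] at this

/-- non-Borel elements have a nonzero corner -/
theorem corner_ne {g : GJ hK} (h : ¬ IsB g) : en g 2 0 ≠ 0 := by
  intro h2
  apply h
  refine ⟨?_, h2⟩
  have hf := form g 0 0
  rw [h2, zero_pow_q hK, mul_zero, zero_mul, zero_add, add_zero, J00, ← pow_succ'] at hf
  simpa using hf

/-- conjugates of the root involutions in the Borel subgroup -/
theorem loc_B (two : (2 : K) = 0) {f : K} (h : Good q 0 f) (hf : f ≠ 0) {g : GJ hK}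
    (hg : IsB (g⁻¹ * uu two 0 f h * g)) : IsB g := by
  by_contra hgB
  obtain ⟨a, b, hab, β, hβ, -, he⟩ := col two (corner_ne hgB)
  have h1 : g⁻¹ * uu two 0 f h * g = β⁻¹ * ((ww two)⁻¹ * uu two 0 f h * ww two) * β := by
    have h2 : (uu two a b hab)⁻¹ * uu (hK := hK) two 0 f h * uu two a b hab = uu two 0 f h := by
      rw [mul_assoc, uu_comm two h hab, inv_mul_cancel_left]
    calc g⁻¹ * uu two 0 f h * g = β⁻¹ * ((ww two)⁻¹ * ((uu two a b hab)⁻¹ * uu two 0 f h * uu two a b hab) * ww two) * β := by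
          rw [he]; group
      _ = _ := by rw [h2]
  rw [h1] at hg
  have h3 : IsB ((ww (hK := hK) two)⁻¹ * uu two 0 f h * ww two) := by
    have := (hβ.mul hg).mul hβ.inv
    have e : β * (β⁻¹ * ((ww two)⁻¹ * uu two 0 f h * ww two) * β) * β⁻¹ = (ww two)⁻¹ * uu two 0 f h * ww two := by
      group
    rwa [e] at this
  have h4 := h3.e20
  rw [en_conj_ww, en_uu] at h4
  apply hf
  simpa [um, Fin.rev] using h4

end H61.BinU3
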