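import Cfsg.Agent.Lib.H61.BinU3d
import Mathlib

/-!
Binary subgroups of `SU₃(q)`, `q` even: classification (helper61).
-/

set_option autoImplicit false

namespace H61.BinU3

open Cfsg H7.QuadExt H7.UnitSU H24.U3Syl H62.BSU H61.BinSz H61.BinFix
open H61.BinAct hiding Good
open Matrix hiding J

variable {K : Type*} [Field K] [Fintype K] {q : ℕ} {hK : Fintype.card K = q ^ 2}

/-- intersections of conjugates of `H` of even order outside all Borel subgroups -/
structure Sp (H X : Subgroup (GJ hK)) : Prop where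
  int : IntC H X
  inv : ∃ t ∈ X, orderOf t = 2
  out : ∀ g, ¬ X ≤ cj g (Bo hK)

theorem card_cj {G : Type*} [Group G] (g : G) (X : Subgroup G) : Nat.card (cj g X) = Nat.card X := by
  unfold cj
  exact (Nat.card_congr (X.equivMapOfInjective _ (MulAut.conj g).injective).toEquiv).symm

theorem Sp.cj {H X : Subgroup (GJ hK)} (h : Sp H X) (g : GJ hK) : Sp H (H61.BinAct.cj g X) := by
  refine ⟨h.int.cj g, ?_, ?_⟩
  · obtain ⟨t, ht, h2⟩ := h.inv
    refine ⟨g * t * g⁻¹, ?_, by rw [conj_order, h2]⟩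
    rw [mem_cj]
    have e : g⁻¹ * (g * t * g⁻¹) * g = t := by group
    rw [e]; exact ht
  · intro k hk
    apply h.out (g⁻¹ * k)
    have := cj_mono' (g := g⁻¹) hk
    rwa [cj_cj', cj_cj', inv_mul_cancel, cj_one'] at this

theorem center_le_int {G : Type*} [Group G] {H X : Subgroup G} (hC : Subgroup.center G ≤ H) (h : IntC H X) :
    Subgroup.center G ≤ X := by
  obtain ⟨S, -, hS⟩ := h
  intro z hz
  rw [hS]
  intro s _
  have : s⁻¹ * z * s = z := by
    rw [mul_assoc, ← Subgroup.mem_center_iff.1 hz s, inv_mul_cancel_left]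
  rw [this]
  exact hC hz

theorem good_one (two : (2 : K) = 0) : Good q (0 : K) 1 := by
  rw [good_zero two, one_pow]

/-- the minimal configuration -/
theorem dl_core (two : (2 : K) = 0) (h4 : 4 ≤ q) {H X : Subgroup (GJ hK)} (hH : Bin H) (hT : H ≠ ⊤)
    (hX : Sp H X) (hmin : ∀ Y, Sp H Y → Nat.card X ≤ Nat.card Y) (hZ : ZZ two hK ≤ X)
    (hw : ∀ z ∈ ZZ two hK, (ww two)⁻¹ * z * ww two ∈ X) : False := by
  have hXb := hX.int.bin hH
  have mZ : ∀ {f : K} (h : Good q 0 f), uu (hK := hK) two 0 f h ∈ ZZ two hK :=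
    fun h => ⟨⟨isB_uu two h, cc_uu two h⟩, vv_uu two h⟩
  -- w in X
  have hwf : ∀ (f : K) (h0 : f ≠ 0) (h : Good q 0 f) (h' : Good q 0 f⁻¹), ∀ i j,
      en (uu (hK := hK) two 0 f h * ((ww two)⁻¹ * uu two 0 f⁻¹ h' * ww two) * uu two 0 f h) i j =
        !![0, 0, f; 0, 1, 0; f⁻¹, 0, 0] i j := by
    intro f h0 h h' i j
    obtain ⟨c, hc⟩ : ∃ c, c = (ww (hK := hK) two)⁻¹ * uu two 0 f⁻¹ h' * ww two := ⟨_, rfl⟩
    have hce : ∀ i j, en c i j = um q 0 f⁻¹ (Fin.rev i) (Fin.rev j) := by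
      intro i j; rw [hc, en_conj_ww, en_uu]
    rw [← hc]
    simp only [en_mul, hce, en_uu]
    have r0 : (Fin.rev (0 : Fin 3)) = 2 := rfl
    have r1 : (Fin.rev (1 : Fin 3)) = 1 := rfl
    have r2 : (Fin.rev (2 : Fin 3)) = 0 := rfl
    simp only [r0, r1, r2]
    have t2 : (1 : K) + 1 = 0 := by linear_combination two
    fin_cases i <;> fin_cases j <;> simp [um, zero_pow_q hK, h0, t2]
  have hwX : ww (hK := hK) two ∈ X := by
    have h1 := good_one (q := q) two
    have h1' : Good q (0 : K) (1 : K)⁻¹ := by rw [inv_one]; exact h1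
    have e : ww (hK := hK) two = uu two 0 1 h1 * ((ww two)⁻¹ * uu two 0 (1 : K)⁻¹ h1' * ww two) * uu two 0 1 h1 := by
      apply ext_en
      intro i j
      rw [hwf 1 one_ne_zero h1 h1', en_ww]
      fin_cases i <;> fin_cases j <;> simp [J]
    rw [e]
    exact X.mul_mem (X.mul_mem (hZ (mZ h1)) (hw _ (mZ h1'))) (hZ (mZ h1))
  -- an element of the fixed field
  obtain ⟨f, hfq, hf0, hf1⟩ : ∃ f : K, f ^ q = f ∧ f ≠ 0 ∧ f ≠ 1 := by
    by_contra hcon
    push Not at hcon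
    have h1 : Nat.card {x : K // x ^ q = x} ≤ 2 := by
      classical
      have : Function.Injective (fun x : {x : K // x ^ q = x} => if x.1 = 0 then (0 : Fin 2) else 1) := by
        intro x y hxy
        by_cases hx : x.1 = 0
        · by_cases hy : y.1 = 0
          · exact Subtype.ext (hx.trans hy.symm)
          · simp [hx, hy] at hxy
        · by_cases hy : y.1 = 0
          · simp [hx, hy] at hxy
          · exact Subtype.ext ((hcon x x.2 hx).trans (hcon y y.2 hy).symm)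
      have := Nat.card_le_card_of_injective _ this
      simpa using this
    rw [card_fixed hK] at h1
    omega
  have hgf : Good q (0 : K) f := (good_zero two).2 hfq
  have hgf' : Good q (0 : K) f⁻¹ := by rw [good_zero two, inv_pow, hfq]
  obtain ⟨t, ht⟩ : ∃ t, t = uu (hK := hK) two 0 f hgf * ((ww two)⁻¹ * uu two 0 f⁻¹ hgf' * ww two) * uu two 0 f hgf * ww two :=
    ⟨_, rfl⟩
  have htX : t ∈ X := by
    rw [ht]
    exact X.mul_mem (X.mul_mem (X.mul_mem (hZ (mZ hgf)) (hw _ (mZ hgf'))) (hZ (mZ hgf))) hwX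
  have hte : ∀ i j, en t i j = !![f, 0, 0; 0, 1, 0; 0, 0, f⁻¹] i j := by
    intro i j
    rw [ht, en_mul, hwf f hf0 hgf hgf', hwf f hf0 hgf hgf', hwf f hf0 hgf hgf', en_ww, en_ww, en_ww]
    fin_cases i <;> fin_cases j <;> simp [J]
  have htB : IsB t := ⟨by rw [hte]; simp, by rw [hte]; simp⟩
  have htc : cc t ≠ 1 := by
    unfold cc
    rw [hte, hte]
    simp
    exact hf1
  -- some element of P does not normalise X
  by_cases hP : PP hK ≤ nr X
  · have htop := gen_top two (by omega) hP (le_nr X hwX)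
    rcases normal_cases two (by omega) (normal_of_nr htop) with h | h
    · have h1 := h hwX
      have h2 := Subgroup.mem_center_iff.1 h1 (uu two 0 1 (good_one two))
      have h3 : en (uu (hK := hK) two 0 1 (good_one two) * ww two) 0 0 = en (ww two * uu (hK := hK) two 0 1 (good_one two)) 0 0 := by
        rw [h2]
      rw [en_mul, en_mul] at h3
      simp only [en_uu, en_ww] at h3
      simp [um, J] at h3
    · obtain ⟨S, ⟨s, hs⟩, hS⟩ := hX.int
      apply hT
      rw [eq_top_iff]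
      intro g _
      have h1 : s * g * s⁻¹ ∈ X := by rw [h]; trivial
      have h2 := (hS _).1 h1 s hs
      have e : s⁻¹ * (s * g * s⁻¹) * s = g := by group
      rwa [e] at h2
  · obtain ⟨x, hx, hxX⟩ := SetLike.not_le_iff_exists.1 hP
    have h1ne : (1 : K) ≠ 0 := one_ne_zero
    obtain ⟨z1, hz1⟩ : ∃ z1, z1 = uu (hK := hK) two 0 1 (good_one two) := ⟨_, rfl⟩
    have hz1Z : z1 ∈ ZZ two hK := hz1 ▸ mZ _
    have hz1o : orderOf z1 = 2 := hz1 ▸ uu_order two _ h1ne
    have hz1Y : z1 ∈ (X ⊓ cj x X : Subgroup (GJ hK)) :=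
      ⟨hZ hz1Z, mem_cj.2 (hZ (conj_ZZ two hx.1 hz1Z))⟩
    have hsub : ∃ g, (X ⊓ cj x X : Subgroup (GJ hK)) ≤ cj g (Bo hK) := by
      by_contra hcon
      push Not at hcon
      have hY : Sp H (X ⊓ cj x X) := ⟨hX.int.inter (hX.int.cj x), ⟨z1, hz1Y, hz1o⟩, hcon⟩
      have h2 := Subgroup.eq_of_le_of_card_ge (inf_le_left : X ⊓ cj x X ≤ X) (hmin _ hY)
      have h3 : X ≤ cj x X := inf_eq_left.1 h2
      have h4 : X = cj x X := Subgroup.eq_of_le_of_card_ge h3 (by rw [card_cj])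
      apply hxX
      intro k
      rw [← mem_cj, ← h4]
    obtain ⟨g, hg⟩ := hsub
    have hgB : IsB g := by
      apply loc_B two (good_one two) h1ne
      rw [← hz1]
      exact mem_cj.1 (hg hz1Y)
    refine Ek two hXb hZ htX htB htc hx (fun h => hxX (le_nr X h)) ?_
    intro k hk hkx
    have h5 : IsB (g⁻¹ * k * g) := mem_cj.1 (hg ⟨hk, mem_cj.2 hkx⟩)
    have h6 := (hgB.mul h5).mul hgB.inv
    have e : g * (g⁻¹ * k * g) * g⁻¹ = k := by group
    rwa [e] at h6

/-- a proper binary subgroup of even order is in a Borel subgroup -/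
theorem in_borel (two : (2 : K) = 0) (h4 : 4 ≤ q) {H : Subgroup (GJ hK)} (hH : Bin H) (hT : H ≠ ⊤)
    (hC : Subgroup.center (GJ hK) ≤ H) (hev : ∃ t ∈ H, orderOf t = 2) : ∃ g, H ≤ cj g (Bo hK) := by
  classical
  by_contra hcon
  push Not at hcon
  obtain ⟨X, hX, hmin⟩ := Set.exists_min_image {X : Subgroup (GJ hK) | Sp H X} (fun X => Nat.card X)
    (Set.toFinite _) ⟨H, IntC.refl H, hev, hcon⟩
  have hX : Sp H X := hX
  obtain ⟨t, htX, ht⟩ := hX.inv
  obtain ⟨g, f, h, hf, hg⟩ := inv_loc two (H61.BinFix.sq_one ht) (by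
    rintro rfl; rw [orderOf_one] at ht; omega)
  -- first normalisation
  obtain ⟨Y, hY⟩ : ∃ Y, Y = cj g⁻¹ X := ⟨_, rfl⟩
  have hYS : Sp H Y := hY ▸ hX.cj _
  have hYm : ∀ W, Sp H W → Nat.card Y ≤ Nat.card W := by
    intro W hW; rw [hY, card_cj]; exact hmin W hW
  have hYf : uu two 0 f h ∈ Y := by
    rw [hY, mem_cj, ← hg]
    have e : g⁻¹⁻¹ * (g⁻¹ * t * g) * g⁻¹ = t := by group
    rw [e]; exact htX
  have hYZ := ZZ_le_of two (hYS.int.bin hH) (center_le_int hC hYS.int) h hf hYf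
  -- an element outside the Borel subgroup
  have hout : ¬ Y ≤ Bo hK := by
    have := hYS.out 1
    rwa [cj_one'] at this
  obtain ⟨k, hkY, hkB⟩ := SetLike.not_le_iff_exists.1 hout
  obtain ⟨a, b, hab, β, hβ, -, hk⟩ := col two (corner_ne (g := k) hkB)
  refine dl_core two h4 (X := cj (uu two a b hab)⁻¹ Y) hH hT (hYS.cj _) ?_ ?_ ?_
  · intro W hW; rw [card_cj]; exact hYm W hW
  · intro z hz
    rw [mem_cj, inv_inv]
    exact hYZ (conj_ZZ' two (isB_uu two hab) hz)
  · intro z hz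
    rw [mem_cj, inv_inv]
    -- u w⁻¹ z w u⁻¹ = k (β⁻¹ z β) k⁻¹
    have h1 : uu two a b hab * ((ww two)⁻¹ * z * ww two) * (uu two a b hab)⁻¹ = k * (β⁻¹ * z * β) * k⁻¹ := by
      rw [hk, ww_inv]
      have hww : (ww (hK := hK) two)⁻¹ = ww two := ww_inv two
      calc uu two a b hab * (ww two * z * ww two) * (uu two a b hab)⁻¹ =
          uu two a b hab * (ww two * z * (ww two)⁻¹) * (uu two a b hab)⁻¹ := by rw [hww]
        _ = _ := by group
    rw [h1]
    exact Y.mul_mem (Y.mul_mem hkY (hYZ (conj_ZZ two hβ hz))) (Y.inv_mem hkY)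

/-- classification -/
theorem main_bin (two : (2 : K) = 0) (h4 : 4 ≤ q) {H : Subgroup (GJ hK)} (hH : Bin H) (hT : H ≠ ⊤)
    (hC : Subgroup.center (GJ hK) ≤ H) (hev : ∃ t ∈ H, orderOf t = 2) : ∃ g, H = cj g (ZZ two hK) := by
  obtain ⟨g, hg⟩ := in_borel two h4 hH hT hC hev
  -- H' = cj g⁻¹ H is in the Borel subgroup
  have hB : cj g⁻¹ H ≤ Bo hK := by
    have := cj_mono' (g := g⁻¹) hg
    rwa [cj_cj', inv_mul_cancel, cj_one'] at this
  have hb := hH.cj g⁻¹
  have hC' : Subgroup.center (GJ hK) ≤ cj g⁻¹ H := center_le_int hC (IntC.cj_self H g⁻¹)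
  obtain ⟨t, htH, ht⟩ := hev
  obtain ⟨s, hs⟩ : ∃ s, s = g⁻¹ * t * g := ⟨_, rfl⟩
  have hsH : s ∈ cj g⁻¹ H := by
    rw [mem_cj, hs]
    have e : g⁻¹⁻¹ * (g⁻¹ * t * g) * g⁻¹ = t := by group
    rw [e]; exact htH
  have hso : orderOf s = 2 := by
    have := conj_order (x := t) (g := g⁻¹)
    rw [inv_inv] at this
    rw [hs, this, ht]
  have hs2 := H61.BinFix.sq_one hso
  -- s is a root involution
  have hsB : IsB s := hB hsH
  have h00 : en s 0 0 = 1 := by
    have h1 : en (s * s) 0 0 = 1 := by rw [hs2, en_one]; simp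
    rw [en_mul, hsB.e10, hsB.e20, mul_zero, mul_zero, add_zero, add_zero] at h1
    have h2 : (en s 0 0 - 1) * (en s 0 0 - 1) = 0 := by linear_combination h1 - (en s 0 0 - 1) * two
    exact sub_eq_zero.1 (mul_self_eq_zero.1 h2)
  obtain ⟨a, b, hab, he⟩ := eq_uu two hsB h00
  have ha : a = 0 := by
    rw [he] at hs2
    exact (invol_iff two hK).1 (congrArg Subtype.val hs2)
  subst ha
  have hb0 : b ≠ 0 := by
    rintro rfl
    rw [he, uu_zero, orderOf_one] at hso
    omega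
  have hZ := ZZ_le_of two hb hC' hab hb0 (he ▸ hsH)
  have h1 := borel_case two h4 hb hZ hB
  refine ⟨g, ?_⟩
  rw [← h1, cj_cj', mul_inv_cancel, cj_one']

end H61.BinU3
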