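import Cfsg.Agent.Lib.H61.BinU3e
import Cfsg.Agent.S5737
import Mathlib

/-!
Binary subgroups of `PSU₃(2ⁿ)` of even order (helper61).
-/

set_option autoImplicit false

namespace H61.BinU3

open Cfsg H7.QuadExt H7.UnitSU H24.U3Syl H62.BSU H61.BinSz H61.BinFix
open H61.BinAct hiding Good
open Matrix hiding J

variable {K : Type*} [Field K] [Fintype K] {q : ℕ} {hK : Fintype.card K = q ^ 2}

/-- decomposition of `PP` -/
theorem PP_decomp (two : (2 : K) = 0) {g : GJ hK} (hg : g ∈ PP hK) :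
    ∃ z ∈ Subgroup.center (GJ hK), ∃ (a b : K) (h : Good q a b), g = z * uu two a b h := by
  obtain ⟨hB, hc⟩ := hg
  have h22 := hB.h22
  have h11 : en g 1 1 = en g 2 2 := by
    unfold cc at hc
    exact (div_eq_one_iff_eq h22).1 hc
  obtain ⟨s, hs⟩ : ∃ s, s = en g 2 2 := ⟨_, rfl⟩
  have hs0 : s ≠ 0 := hs ▸ h22
  have h0 := hB.h00
  have e1 := hB.f11
  rw [h11, ← hs] at e1
  have e2 := hB.f02
  rw [← hs] at e2
  have e3 := hB.det
  rw [h11, ← hs] at e3
  have hsq0 : s ^ q ≠ 0 := pow_ne_zero _ hs0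
  have hk : en g 0 0 = s := mul_right_cancel₀ hsq0 (by rw [e2, e1])
  rw [hk] at e3
  have hsq : s ^ q = s⁻¹ := eq_inv_of_mul_eq_one_right e1
  have hz : (hd (hK := hK) (Units.mk0 s hs0)).1.1 = diagonal (fun _ => s) := by
    show hmat q s = _
    have h5 : s ^ q * s⁻¹ = s := by
      rw [hsq]
      field_simp
      linear_combination -e3
    have h6 : (s ^ q)⁻¹ = s := by rw [hsq, inv_inv]
    ext i j
    fin_cases i <;> fin_cases j <;> simp [hmat, h5, h6]
  have hzc := sc_center hz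
  have hzB : IsB (hd (hK := hK) (Units.mk0 s hs0)) := isB_hd _
  have h5 : IsB ((hd (hK := hK) (Units.mk0 s hs0))⁻¹ * g) := hzB.inv.mul hB
  have h6 : en ((hd (hK := hK) (Units.mk0 s hs0))⁻¹ * g) 0 0 = 1 := by
    have h7 : en g 0 0 = en (hd (Units.mk0 s hs0) * ((hd (hK := hK) (Units.mk0 s hs0))⁻¹ * g)) 0 0 := by
      rw [mul_inv_cancel_left]
    rw [en_mul, h5.e10, h5.e20, mul_zero, mul_zero, add_zero, add_zero, en_hd, hk] at h7
    have h8 : hmat q ((Units.mk0 s hs0 : Kˣ) : K) 0 0 = s := by simp [hmat]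
    rw [h8] at h7
    apply mul_left_cancel₀ hs0
    rw [← h7, mul_one]
  obtain ⟨a, b, hab, h7⟩ := eq_uu two h5 h6
  exact ⟨_, hzc, a, b, hab, by rw [← h7]; group⟩

/-- the unitriangular group inside `GJ` -/
def UU (two : (2 : K) = 0) (hK : Fintype.card K = q ^ 2) : Subgroup (GJ hK) := (U two hK).subgroupOf (GJ hK)

theorem mem_UU {two : (2 : K) = 0} {g : GJ hK} : g ∈ UU two hK ↔ ∃ (a b : K) (h : Good q a b), g = uu two a b h := by
  constructor
  · rintro ⟨a, b, h, e⟩
    exact ⟨a, b, h, Subtype.ext e⟩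
  · rintro ⟨a, b, h, rfl⟩
    exact ⟨a, b, h, rfl⟩

theorem UU_le_PP (two : (2 : K) = 0) : UU two hK ≤ PP hK := by
  intro g hg
  obtain ⟨a, b, h, rfl⟩ := mem_UU.1 hg
  exact ⟨isB_uu two h, cc_uu two h⟩

theorem card_UU (two : (2 : K) = 0) : Nat.card (UU two hK) = q ^ 3 := by
  rw [← card_U two hK]
  have hle : U two hK ≤ GJ hK := by
    rintro g ⟨a, b, h, rfl⟩
    exact u_form two hK h
  exact Nat.card_congr (Subgroup.subgroupOfEquivOfLe hle).toEquiv

theorem center_UU (two : (2 : K) = 0) {z : GJ hK} (hz : z ∈ Subgroup.center (GJ hK)) (hzU : z ∈ UU two hK) : z = 1 := by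
  obtain ⟨c, hc⟩ := center_sc two hz
  have e : ∀ i j, en z i j = (diagonal (fun _ : Fin 3 => c)) i j := fun i j => by
    show z.1.1 i j = _
    rw [hc]
  obtain ⟨a, b, h, hz'⟩ := mem_UU.1 hzU
  have h1 : en z 0 0 = 1 := by rw [hz', en_uu]; simp [um]
  rw [e] at h1
  simp at h1
  apply ext_en
  intro i j
  rw [e, h1, en_one]
  simp

section transport

variable {G : Type*} [Group G] (f : GJ hK →* G)

theorem f_uu_of (two : (2 : K) = 0) (hker : f.ker = Subgroup.center (GJ hK)) {p : GJ hK} (hp : p ∈ PP hK) :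
    ∃ (a b : K) (h : Good q a b), f p = f (uu two a b h) := by
  obtain ⟨z, hz, a, b, h, rfl⟩ := PP_decomp two hp
  refine ⟨a, b, h, ?_⟩
  rw [← hker] at hz
  rw [map_mul, show f z = 1 from hz, one_mul]

theorem f_uu_of' (two : (2 : K) = 0) (hker : f.ker = Subgroup.center (GJ hK)) {p : GJ hK} (hp : p ∈ ZZ two hK) :
    ∃ (b : K) (h : Good q 0 b), f p = f (uu two 0 b h) := by
  obtain ⟨z, hz, b, h, rfl⟩ := ZZ_decomp two hp
  refine ⟨b, h, ?_⟩
  rw [← hker] at hz
  rw [map_mul, show f z = 1 from hz, one_mul]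

theorem mZ (two : (2 : K) = 0) {b : K} (h : Good q 0 b) : uu (hK := hK) two 0 b h ∈ ZZ two hK :=
  ⟨⟨isB_uu two h, cc_uu two h⟩, vv_uu two h⟩

theorem map_PP (two : (2 : K) = 0) (hker : f.ker = Subgroup.center (GJ hK)) : (PP hK).map f = (UU two hK).map f := by
  apply le_antisymm
  · rintro _ ⟨p, hp, rfl⟩
    obtain ⟨a, b, h, e⟩ := f_uu_of f two hker hp
    rw [e]
    exact ⟨_, mem_UU.2 ⟨a, b, h, rfl⟩, rfl⟩
  · exact Subgroup.map_mono (UU_le_PP two)

theorem card_map (two : (2 : K) = 0) (hker : f.ker = Subgroup.center (GJ hK)) : Nat.card ((PP hK).map f) = q ^ 3 := by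
  rw [map_PP f two hker, ← card_UU (hK := hK) two]
  symm
  apply Nat.card_congr
  refine Equiv.ofBijective (fun x : UU two hK => (⟨f x, x, x.2, rfl⟩ : (UU two hK).map f)) ⟨?_, ?_⟩
  · intro x y hxy
    have h1 : f x = f y := congrArg Subtype.val hxy
    have h2 : (x : GJ hK)⁻¹ * y ∈ Subgroup.center (GJ hK) := by
      rw [← hker, MonoidHom.mem_ker, map_mul, map_inv, h1, inv_mul_cancel]
    have h3 := center_UU two h2 ((UU two hK).mul_mem ((UU two hK).inv_mem x.2) y.2)
    exact Subtype.ext (inv_mul_eq_one.1 h3)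
  · rintro ⟨_, x, hx, rfl⟩
    exact ⟨⟨x, hx⟩, rfl⟩

/-- equality in `G` up to the centre -/
theorem eq_center (hker : f.ker = Subgroup.center (GJ hK)) {x y : GJ hK} (h : f x = f y) :
    ∃ c ∈ Subgroup.center (GJ hK), y = x * c := by
  refine ⟨x⁻¹ * y, ?_, by group⟩
  rw [← hker, MonoidHom.mem_ker, map_mul, map_inv, h, inv_mul_cancel]

/-- the centre of `f(P)` -/
theorem center_map (two : (2 : K) = 0) (hker : f.ker = Subgroup.center (GJ hK)) {S : Subgroup G}
    (hS : S = (PP hK).map f) : (Subgroup.center S).map S.subtype = (ZZ two hK).map f := by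
  ext x
  rw [Cfsg.Agent.S5737.mem_center_iff]
  constructor
  · rintro ⟨hx, hc⟩
    rw [hS, map_PP f two hker] at hx
    obtain ⟨p, hp, rfl⟩ := hx
    obtain ⟨a, b, h, rfl⟩ := mem_UU.1 hp
    have ha : a = 0 := by
      rw [← central_iff two hK h]
      intro c d hcd
      have hm : f (uu two c d hcd) ∈ S := by
        rw [hS]
        exact ⟨_, ⟨isB_uu two hcd, cc_uu two hcd⟩, rfl⟩
      have h1 := hc _ hm
      rw [← map_mul, ← map_mul] at h1
      obtain ⟨z, hz, h2⟩ := eq_center f hker h1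
      have hzU : z ∈ UU two hK := by
        have e : z = (uu two c d hcd * uu two a b h)⁻¹ * (uu two a b h * uu two c d hcd) := by rw [h2]; group
        rw [e]
        have m1 : uu (hK := hK) two a b h ∈ UU two hK := mem_UU.2 ⟨a, b, h, rfl⟩
        have m2 : uu (hK := hK) two c d hcd ∈ UU two hK := mem_UU.2 ⟨c, d, hcd, rfl⟩
        exact (UU two hK).mul_mem ((UU two hK).inv_mem ((UU two hK).mul_mem m2 m1)) ((UU two hK).mul_mem m1 m2)
      rw [center_UU two hz hzU, mul_one] at h2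
      exact congrArg Subtype.val h2
    subst ha
    exact ⟨_, mZ two h, rfl⟩
  · rintro ⟨z, hz, rfl⟩
    refine ⟨by rw [hS]; exact ⟨z, hz.1, rfl⟩, ?_⟩
    intro y hy
    rw [hS, map_PP f two hker] at hy
    obtain ⟨p, hp, rfl⟩ := hy
    obtain ⟨a, b, h, rfl⟩ := mem_UU.1 hp
    obtain ⟨b', h', e⟩ := f_uu_of' f two hker hz
    rw [e, ← map_mul, ← map_mul, uu_comm two h' h]

/-- `Z(P)` is binary -/
theorem bin_map (two : (2 : K) = 0) (hker : f.ker = Subgroup.center (GJ hK)) (hf : Function.Surjective f) :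
    Bin ((ZZ two hK).map f) := by
  have hloc : ∀ (g : GJ hK) (b : K) (h : Good q 0 b), b ≠ 0 → f (g⁻¹ * uu two 0 b h * g) ∈ (ZZ two hK).map f → IsB g := by
    intro g b h hb hm
    obtain ⟨z, hz, e⟩ := hm
    obtain ⟨c, hc, h1⟩ := eq_center f hker e
    apply loc_B two h hb
    rw [h1]
    exact (hz.1.1).mul (center_le two hc).1.1
  have hne : ∀ (b : K) (h : Good q 0 b), f (uu (hK := hK) two 0 b h) ≠ 1 → b ≠ 0 := by
    rintro b h h1 rfl
    apply h1
    rw [uu_zero, map_one]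
  apply bin_of_ti
  · rintro gb zb ⟨z, hz, rfl⟩ hz1 hgz
    obtain ⟨g, rfl⟩ := hf gb
    rw [Subgroup.mem_bot] at hz1
    obtain ⟨b, h, e⟩ := f_uu_of' f two hker hz
    rw [e] at hz1 hgz
    have hb := hne b h hz1
    have hB := hloc g b h hb (by simpa using hgz)
    intro k
    constructor
    · rintro ⟨k, hk, rfl⟩
      exact ⟨_, conj_ZZ two hB hk, by simp⟩
    · rintro ⟨k', hk', e'⟩
      refine ⟨_, conj_ZZ' two hB hk', ?_⟩
      rw [map_mul, map_mul, map_inv, e']
      group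
  · intro a b x y ha ha1 hb hb1 hab
    have hsq : ∀ (x z : G), x⁻¹ * z * x ∈ (ZZ two hK).map f → z * z = 1 := by
      rintro x z ⟨w, hw, e⟩
      obtain ⟨β, h, e'⟩ := f_uu_of' f two hker hw
      have h1 : (x⁻¹ * z * x) * (x⁻¹ * z * x) = 1 := by
        rw [← e, e', ← map_mul, uu_sq, map_one]
      calc z * z = x * ((x⁻¹ * z * x) * (x⁻¹ * z * x)) * x⁻¹ := by group
        _ = 1 := by rw [h1]; group
    have hb2 := hsq x b hb
    have hab2 := hsq y (b * a) hab
    have ha2 := hsq 1 a (by simpa using ha)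
    have hcomm : b⁻¹ * a * b = a := by
      have h1 := inv_eq_of_mul_eq_one_right hab2
      rw [_root_.mul_inv_rev, inv_eq_of_mul_eq_one_right hb2, inv_eq_of_mul_eq_one_right ha2] at h1
      rw [mul_assoc, h1, inv_mul_cancel_left]
    obtain ⟨w, hw, rfl⟩ := ha
    obtain ⟨φ, h, e⟩ := f_uu_of' f two hker hw
    rw [e] at ha1 hcomm
    have hφ := hne φ h ha1
    -- a lift of b of order two
    obtain ⟨w', hw', ew'⟩ := hb
    obtain ⟨φ', h', e'⟩ := f_uu_of' f two hker hw'
    obtain ⟨x', rfl⟩ := hf x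
    obtain ⟨b', hb'⟩ : ∃ b', b' = x' * uu two 0 φ' h' * x'⁻¹ := ⟨_, rfl⟩
    have hfb : f b' = b := by
      rw [hb', map_mul, map_mul, map_inv, ← e', ew']; group
    have hb's : b' * b' = 1 := by
      rw [hb']
      calc x' * uu two 0 φ' h' * x'⁻¹ * (x' * uu two 0 φ' h' * x'⁻¹) = x' * (uu two 0 φ' h' * uu two 0 φ' h') * x'⁻¹ := by group
        _ = 1 := by rw [uu_sq]; group
    have hB : IsB b' := by
      apply hloc b' φ h hφ
      rw [map_mul, map_mul, map_inv, hfb, hcomm]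
      exact ⟨_, mZ two h, rfl⟩
    have h00 : en b' 0 0 = 1 := by
      have h1 : en (b' * b') 0 0 = 1 := by rw [hb's, en_one]; simp
      rw [en_mul, hB.e10, hB.e20, mul_zero, mul_zero, add_zero, add_zero] at h1
      have h2 : (en b' 0 0 - 1) * (en b' 0 0 - 1) = 0 := by linear_combination h1 - (en b' 0 0 - 1) * two
      exact sub_eq_zero.1 (mul_self_eq_zero.1 h2)
    obtain ⟨α, β, hαβ, he⟩ := eq_uu two hB h00
    have hα : α = 0 := by
      rw [he] at hb's
      exact (invol_iff two hK).1 (congrArg Subtype.val hb's)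
    subst hα
    rw [← hfb, he]
    exact ⟨_, mZ two hαβ, rfl⟩

end transport

/-- the projection onto a group isomorphic to `PSU₃` -/
theorem exists_f (two : (2 : K) = 0) {G : Type*} [Group G] (e : G ≃* PSU 3 K q) :
    ∃ f : GJ hK →* G, Function.Surjective f ∧ f.ker = Subgroup.center (GJ hK) := by
  obtain ⟨θ, hθ⟩ := exists_trace_eq hK (one_pow (M := K) q)
  refine ⟨e.symm.toMonoidHom.comp ((QuotientGroup.mk' (Subgroup.center (SU 3 K q))).comp (Phi two hK hθ)), ?_, ?_⟩
  · exact e.symm.surjective.comp ((QuotientGroup.mk'_surjective _).comp (Phi_surj two hθ))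
  · ext x
    rw [MonoidHom.mem_ker]
    show e.symm (QuotientGroup.mk' _ (Phi two hK hθ x)) = 1 ↔ _
    rw [EmbeddingLike.map_eq_one_iff, QuotientGroup.mk'_apply, QuotientGroup.eq_one_iff,
      Subgroup.mem_center_iff, Subgroup.mem_center_iff]
    constructor
    · intro h y
      apply Phi_inj two hθ
      rw [map_mul, map_mul]
      exact h _
    · intro h y
      obtain ⟨y', hy⟩ := Phi_surj (hK := hK) two hθ y
      rw [← hy, ← map_mul, ← map_mul, h y']

theorem cj_map {G G' : Type*} [Group G] [Group G'] (f : G →* G') (g : G) (X : Subgroup G) :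
    (cj g X).map f = cj (f g) (X.map f) := by
  ext y
  rw [mem_cj]
  constructor
  · rintro ⟨x, hx, rfl⟩
    exact ⟨_, mem_cj.1 hx, by simp⟩
  · rintro ⟨x, hx, e⟩
    refine ⟨g * x * g⁻¹, ?_, ?_⟩
    · rw [SetLike.mem_coe, mem_cj]
      have : g⁻¹ * (g * x * g⁻¹) * g = x := by group
      rw [this]; exact hx
    · rw [map_mul, map_mul, map_inv, e]
      group

/-- Sylow subgroups as conjugates -/
theorem sylow_cj {G : Type*} [Group G] {p : ℕ} (S : Sylow p G) (g : G) : ((g • S : Sylow p G) : Subgroup G) = cj g S := by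
  rw [Sylow.coe_subgroup_smul]
  ext x
  rw [mem_cj, Subgroup.mem_pointwise_smul_iff_inv_smul_mem]
  have : (MulAut.conj g)⁻¹ • x = g⁻¹ * x * g := by
    rw [← map_inv, MulAut.smul_def, MulAut.conj_apply, inv_inv]
  rw [this]

theorem psu_iff {K : Type} [Field K] [Fintype K] {G : Type*} [Group G] [Finite G] {n : ℕ} (hn : 2 ≤ n)
    (hK : Fintype.card K = (2 ^ n) ^ 2) (e : G ≃* PSU 3 K (2 ^ n)) {H : Subgroup G} (hT : H ≠ ⊤)
    (hev : Even (Nat.card H)) :
    Bin H ↔ ∃ P : Sylow 2 G, H = (Subgroup.center (P : Subgroup G)).map (P : Subgroup G).subtype := by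
  haveI : Fact (Nat.Prime 2) := ⟨Nat.prime_two⟩
  have two : (2 : K) = 0 := by
    have h1 : ((Fintype.card K : ℕ) : K) = 0 := Nat.cast_card_eq_zero K
    rw [hK] at h1
    push_cast at h1
    have h2 : (2 : K) ^ n = 0 := by
      rcases pow_eq_zero_iff (two_ne_zero) |>.1 h1 with h
      exact h
    exact pow_eq_zero_iff (by omega) |>.1 h2
  have h4 : 4 ≤ 2 ^ n := by
    calc 4 = 2 ^ 2 := by norm_num
      _ ≤ 2 ^ n := Nat.pow_le_pow_right (by norm_num) hn
  obtain ⟨f, hf, hker⟩ := exists_f (hK := hK) two e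
  have hfin : Finite (PSU 3 K (2 ^ n)) := Finite.of_equiv _ e.toEquiv
  -- the Sylow subgroup
  have hcard := card_map f two hker
  have hPg : IsPGroup 2 ((PP hK).map f) := by
    rw [IsPGroup.iff_card]
    exact ⟨n * 3, by rw [hcard, pow_mul]⟩
  obtain ⟨S, hS⟩ := hPg.exists_le_sylow
  have hSc : Nat.card S = (2 ^ n) ^ 3 := by
    let S' : Sylow 2 (PSU 3 K (2 ^ n)) := default
    obtain ⟨i⟩ := H24.U3Syl.main two hK hn rfl S'
    rw [S.card_eq_multiplicity, Nat.card_congr e.toEquiv, ← S'.card_eq_multiplicity, Nat.card_congr i.toEquiv, card_U]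
  have hSe : (S : Subgroup G) = (PP hK).map f :=
    (Subgroup.eq_of_le_of_card_ge hS (by rw [hcard]; exact hSc.le)).symm
  have hcS := center_map f two hker hSe
  constructor
  · intro hb
    have hHc : (H.comap f).map f = H := Subgroup.map_comap_eq_self_of_surjective hf H
    have h1 := (bin_comap f hf H).2 hb
    obtain ⟨g, hg⟩ := main_bin two h4 h1 (by
      intro h
      apply hT
      rw [← hHc, h, ← MonoidHom.range_eq_map, MonoidHom.range_eq_top]
      exact hf) (by
      intro z hz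
      rw [← hker] at hz
      rw [Subgroup.mem_comap, show f z = 1 from hz]
      exact H.one_mem) (by
      obtain ⟨t, htH, ht⟩ := even_card_iff.1 hev
      obtain ⟨s, rfl⟩ := hf t
      -- the order of s is even
      have h2 : 2 ∣ orderOf s := by
        have := orderOf_map_dvd f s
        rwa [ht] at this
      refine ⟨s ^ (orderOf s / 2), ?_, ?_⟩
      · rw [Subgroup.mem_comap, map_pow]; exact H.pow_mem htH _
      · have h3 := orderOf_pos s
        rw [orderOf_pow_of_dvd (by omega) (Nat.div_dvd_of_dvd h2)]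
        exact Nat.div_div_self h2 (by omega))
    refine ⟨f g • S, ?_⟩
    rw [← hHc, hg, cj_map, ← hcS, ← Cfsg.Agent.S5737.center_cj, sylow_cj]
  · rintro ⟨P, rfl⟩
    obtain ⟨g, rfl⟩ := MulAction.exists_smul_eq G S P
    rw [sylow_cj, Cfsg.Agent.S5737.center_cj, hcS]
    exact (bin_map f two hker hf).cj g

end H61.BinU3
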