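import Mathlib
set_option autoImplicit false
open MulAction
universe u v
namespace H61.DBAGL

theorem cardAGL {F : Type} [Field F] [Fintype F] (h : Fintype.card F = 4) :
    Nat.card ((Fin 2 → F) ≃ᵃ[F] (Fin 2 → F)) ≤ 2880 := by
  classical
  have hGL : Nat.card ((Fin 2 → F) ≃ₗ[F] (Fin 2 → F)) = 180 := by
    have e : Matrix.GeneralLinearGroup (Fin 2) F ≃ ((Fin 2 → F) ≃ₗ[F] (Fin 2 → F)) :=
      (Matrix.GeneralLinearGroup.toLin.trans
        (LinearMap.GeneralLinearGroup.generalLinearEquiv F (Fin 2 → F))).toEquiv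
    rw [← Nat.card_congr e, Matrix.card_GL_field]
    simp [Fin.prod_univ_two, h]
  have hfin : Finite ((Fin 2 → F) ≃ₗ[F] (Fin 2 → F)) := Nat.finite_of_card_ne_zero (by omega)
  let φ : ((Fin 2 → F) ≃ᵃ[F] (Fin 2 → F)) → (Fin 2 → F) × ((Fin 2 → F) ≃ₗ[F] (Fin 2 → F)) :=
    fun f => (f 0, f.linear)
  have hφ : Function.Injective φ := by
    intro f g hfg
    have h1 : f 0 = g 0 := congrArg Prod.fst hfg
    have h2 : f.linear = g.linear := congrArg Prod.snd hfg
    ext1 p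
    have hf := f.map_vadd 0 p
    have hg := g.map_vadd 0 p
    simp only [vadd_eq_add, add_zero] at hf hg
    rw [hf, hg, h1, h2]
  calc Nat.card ((Fin 2 → F) ≃ᵃ[F] (Fin 2 → F)) ≤ Nat.card ((Fin 2 → F) × ((Fin 2 → F) ≃ₗ[F] (Fin 2 → F))) :=
        Nat.card_le_card_of_injective φ hφ
    _ = 2880 := by
        rw [Nat.card_prod, hGL, Nat.card_eq_fintype_card]
        simp [h]

end H61.DBAGL
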