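import Cfsg.Agent.Lib.H39.DB0
set_option autoImplicit false
open MulAction
universe u v
namespace H61.DBCG
open H39.DA
variable {G : Type u} {Ω : Type v} [Group G] [Finite G] [MulAction G Ω] [Finite Ω]

theorem cardSt (h : B4 G Ω) {a b : Ω} (hab : a ≠ b) : Nat.card (St G a b) = 12 := by
  obtain ⟨e⟩ := h.a4 a b hab
  rw [Nat.card_congr e.toEquiv, Nat.card_eq_fintype_card]
  have h1 := two_mul_card_alternatingGroup (α := Fin 4)
  rw [Fintype.card_perm, Fintype.card_fin] at h1
  have h2 : Nat.factorial 4 = 24 := by decide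
  omega

theorem cardG (h : B4 G Ω) (hn : Nat.card Ω = 16) : Nat.card G = 2880 := by
  classical
  obtain ⟨a, b, hab⟩ := h.two
  have h1 := Nat.card_congr (MulAction.orbitProdStabilizerEquivGroup G ((a, b) : Ω × Ω))
  rw [Nat.card_prod] at h1
  have h2 : stabilizer G ((a, b) : Ω × Ω) = St G a b := by
    ext g
    rw [mem_stabilizer_iff, St, Subgroup.mem_inf, mem_stabilizer_iff, mem_stabilizer_iff, Prod.smul_mk, Prod.mk.injEq]
  rw [h2, cardSt h hab] at h1
  have h3 : orbit G ((a, b) : Ω × Ω) = {p : Ω × Ω | p.1 ≠ p.2} := by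
    ext ⟨c, d⟩
    constructor
    · rintro ⟨g, hg⟩
      simp only [Prod.smul_mk, Prod.mk.injEq] at hg
      intro hcd
      simp only at hcd
      apply hab
      rw [← hg.1, ← hg.2] at hcd
      exact smul_left_cancel g hcd
    · intro hcd
      obtain ⟨g, h4, h5⟩ := h.tr a b c d hab hcd
      exact ⟨g, by simp only [Prod.smul_mk, h4, h5]⟩
  rw [h3] at h1
  letI := Fintype.ofFinite Ω
  have h4 : Nat.card ({p : Ω × Ω | p.1 ≠ p.2} : Set (Ω × Ω)) = 240 := by
    rw [Nat.card_eq_fintype_card] at hn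
    have h5 : ({p : Ω × Ω | p.1 ≠ p.2} : Set (Ω × Ω)) = ((Finset.univ : Finset Ω).offDiag : Set (Ω × Ω)) := by
      ext ⟨c, d⟩; simp
    rw [h5, Nat.card_coe_set_eq, Set.ncard_coe_finset, Finset.offDiag_card, Finset.card_univ, hn]
  rw [h4] at h1
  omega

end H61.DBCG
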