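import Mathlib
set_option autoImplicit false
universe u v
namespace H61.DBMod

instance fct : Fact (∀ r : ZMod 2, r ^ 2 ≠ 1 + 1 * r) := ⟨by decide⟩

theorem mod4 {A : Type u} [AddCommGroup A] [Finite A] (hA : Nat.card A = 16) (h2 : ∀ x : A, x + x = 0)
    (φ : A →+ A) (hφ : ∀ x, φ (φ x) = φ x + x) :
    ∃ (F : Type) (_ : Field F) (_ : Fintype F) (w : F) (ε : A ≃+ (Fin 2 → F)),
      Fintype.card F = 4 ∧ (∀ x, ε (φ x) = w • ε x) ∧ (∀ c : F, c = 0 ∨ c = 1 ∨ c = w ∨ c = w + 1) := by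
  classical
  letI m2 : Module (ZMod 2) A := AddCommGroup.zmodModule (n := 2) (fun x => by rw [two_nsmul]; exact h2 x)
  let φ' : A →ₗ[ZMod 2] A := φ.toZModLinearMap 2
  have hφ' : φ' * φ' = (1 : ZMod 2) • (1 : Module.End (ZMod 2) A) + (1 : ZMod 2) • φ' := by
    ext x
    simp only [one_smul]
    change φ (φ x) = x + φ x
    rw [hφ, add_comm]
  let ρ : QuadraticAlgebra (ZMod 2) 1 1 →ₐ[ZMod 2] Module.End (ZMod 2) A := QuadraticAlgebra.lift ⟨φ', hφ'⟩
  letI mF : Module (QuadraticAlgebra (ZMod 2) 1 1) A := Module.compHom A ρ.toRingHom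
  have hsm : ∀ (c : QuadraticAlgebra (ZMod 2) 1 1) (x : A), c • x = ρ c x := fun c x => rfl
  let eP : QuadraticAlgebra (ZMod 2) 1 1 ≃ ZMod 2 × ZMod 2 := QuadraticAlgebra.equivProd 1 1
  letI fF : Fintype (QuadraticAlgebra (ZMod 2) 1 1) := Fintype.ofEquiv _ eP.symm
  have hcard : Fintype.card (QuadraticAlgebra (ZMod 2) 1 1) = 4 := by
    rw [Fintype.card_congr eP]; simp
  have hfr : Module.finrank (QuadraticAlgebra (ZMod 2) 1 1) A = 2 := by
    haveI : Module.Finite (QuadraticAlgebra (ZMod 2) 1 1) A := Module.Finite.of_finite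
    have h1 := Module.natCard_eq_pow_finrank (K := QuadraticAlgebra (ZMod 2) 1 1) (V := A)
    rw [hA, Nat.card_eq_fintype_card, hcard] at h1
    have h3 : (4 : ℕ) ^ 2 = 4 ^ Module.finrank (QuadraticAlgebra (ZMod 2) 1 1) A := by rw [← h1]; norm_num
    exact (Nat.pow_right_injective (le_refl 2 |>.trans (by norm_num : (2:ℕ) ≤ 4)) h3).symm
  haveI : Module.Finite (QuadraticAlgebra (ZMod 2) 1 1) A := Module.Finite.of_finite
  let B := Module.finBasisOfFinrankEq (QuadraticAlgebra (ZMod 2) 1 1) A hfr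
  let ε : A ≃ₗ[QuadraticAlgebra (ZMod 2) 1 1] (Fin 2 → QuadraticAlgebra (ZMod 2) 1 1) := B.equivFun
  refine ⟨QuadraticAlgebra (ZMod 2) 1 1, inferInstance, fF, QuadraticAlgebra.omega, ε.toAddEquiv, hcard, ?_, ?_⟩
  · intro x
    have h1 : φ x = (QuadraticAlgebra.omega : QuadraticAlgebra (ZMod 2) 1 1) • x := by
      rw [hsm]
      have : ρ QuadraticAlgebra.omega = φ' := by
        have := QuadraticAlgebra.lift.left_inv (⟨φ', hφ'⟩ : { u : Module.End (ZMod 2) A // u * u = (1 : ZMod 2) • 1 + (1 : ZMod 2) • u })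
        exact congrArg Subtype.val this
      rw [this]; rfl
    rw [h1]
    exact ε.map_smul _ _
  · intro c
    have : ∀ x y : ZMod 2, (⟨x, y⟩ : QuadraticAlgebra (ZMod 2) 1 1) = 0 ∨ (⟨x, y⟩ : QuadraticAlgebra (ZMod 2) 1 1) = 1 ∨
      (⟨x, y⟩ : QuadraticAlgebra (ZMod 2) 1 1) = QuadraticAlgebra.omega ∨ (⟨x, y⟩ : QuadraticAlgebra (ZMod 2) 1 1) = QuadraticAlgebra.omega + 1 := by
      intro x y
      have hx : x = 0 ∨ x = 1 := by revert x; decide
      have hy : y = 0 ∨ y = 1 := by revert y; decide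
      rcases hx with rfl | rfl <;> rcases hy with rfl | rfl
      · left; rfl
      · right; right; left; rfl
      · right; left; rfl
      · right; right; right
        ext <;> simp <;> rfl
    exact this c.1 c.2

end H61.DBMod
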