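import Cfsg.Agent.Lib.H61.J1e
import Cfsg.Prelude.Def_KGroupFacts

set_option autoImplicit false

/-! The Janko group `J1`: every automorphism is inner. -/

namespace H61.J1

open H61.Mat7 Cfsg.Spor

theorem z_x_pow (i : ℕ) : z * x ^ i = x ^ (4 * i) * z := by
  induction i with
  | zero => simp
  | succ i ih =>
    rw [pow_succ, ← mul_assoc, ih, mul_assoc, z_x, ← mul_assoc, ← pow_add]
    congr 2

theorem x_pow_eq_one {i : ℕ} (h : x ^ i = 1) : 7 ∣ i := by
  rw [← orderOf_x]; exact orderOf_dvd_of_pow_eq_one h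

theorem x_pow_eq {i j : ℕ} (h : x ^ i = x ^ j) : i % 7 = j % 7 := by
  have := pow_inj_mod.1 h
  rwa [orderOf_x] at this

theorem si_pow_conj (k : ℕ) : x ^ k * s * (x ^ k)⁻¹ = si k := (si_eq k).symm

/-- relation of the pair `(x ^ k, s)` -/
theorem rel_k {k : ℕ} (h : s * si k = si (3 * k)) (hk : ¬ 7 ∣ k) : k % 7 = 1 ∨ k % 7 = 2 ∨ k % 7 = 4 := by
  rw [← si_mod k, ← si_mod (3 * k), Nat.mul_mod, ] at h
  have hlt : k % 7 < 7 := Nat.mod_lt _ (by norm_num)
  have hne : k % 7 ≠ 0 := fun h0 => hk (Nat.dvd_of_mod_eq_zero h0)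
  generalize k % 7 = r at h hlt hne ⊢
  have key : ∀ a b : ℕ, a < 7 → b < 7 → a ≠ b → si a ≠ si b := fun a b ha hb hab h => hab (si_inj ha hb h)
  interval_cases r
  · exact absurd rfl hne
  · left; rfl
  · right; left; rfl
  · exfalso
    rw [l3] at h
    exact key 1 2 (by norm_num) (by norm_num) (by norm_num) h
  · right; right; rfl
  · exfalso
    rw [l5] at h
    exact key 4 1 (by norm_num) (by norm_num) (by norm_num) h
  · exfalso
    rw [l6] at h
    exact key 2 4 (by norm_num) (by norm_num) (by norm_num) h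

/-- an automorphism fixing `x` and `s` is trivial -/
theorem aut_trivial (ε : MulAut J) (hx : ε x = x) (hs : ε s = s) : ε = 1 := by
  have hsi : ∀ i, ε (si i) = si i := by
    intro i
    rw [si_eq, map_mul, map_mul, map_inv, map_pow, hx, hs]
  have hz : ε z = z := by
    have h1 : ε z * x = x ^ 4 * ε z := by
      have := congrArg ε z_x
      rwa [map_mul, map_mul, map_pow, hx] at this
    have h2 : ε z * s = si 1 * ε z := by
      have := congrArg ε z_s
      rwa [map_mul, map_mul, hsi, hs] at this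
    have h3 : z⁻¹ * ε z = 1 := by
      apply cent_xs
      · change z⁻¹ * ε z * x = x * (z⁻¹ * ε z)
        have e1 : z * x = x ^ 4 * z := z_x
        have e2 : x ^ 4 = z * x * z⁻¹ := by rw [e1, mul_inv_cancel_right]
        rw [mul_assoc, h1, e2]; group
      · change z⁻¹ * ε z * s = s * (z⁻¹ * ε z)
        have e2 : si 1 = z * s * z⁻¹ := by rw [z_s, mul_inv_cancel_right]
        rw [mul_assoc, h2, e2]; group
    exact (inv_mul_eq_one.1 h3).symm
  have hu : ε u = u := by
    have h1 : ε u * x = x ^ 6 * ε u := by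
      have := congrArg ε u_x
      rwa [map_mul, map_mul, map_pow, hx] at this
    have h2 : ε u * z = z * ε u := by
      have := congrArg ε u_z
      rwa [map_mul, map_mul, hz] at this
    have hw : Commute (u⁻¹ * ε u) x := by
      change u⁻¹ * ε u * x = x * (u⁻¹ * ε u)
      have e2 : x ^ 6 = u * x * u⁻¹ := by rw [u_x, mul_inv_cancel_right]
      rw [mul_assoc, h1, e2]; group
    have h3 := cent_x hw
    have hfin : IsOfFinOrder x := isOfFinOrder_of_finite x
    rw [hfin.mem_zpowers_iff_mem_range_orderOf, Finset.mem_image] at h3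
    obtain ⟨i, -, hi⟩ := h3
    have hi' : ε u = u * x ^ i := by rw [hi]; group
    rw [hi'] at h2
    have h4 : x ^ i * z = z * x ^ i := by
      have : u * (x ^ i * z) = u * (z * x ^ i) := by
        calc u * (x ^ i * z) = u * x ^ i * z := by rw [mul_assoc]
          _ = z * (u * x ^ i) := h2
          _ = z * u * x ^ i := by rw [mul_assoc]
          _ = u * z * x ^ i := by rw [u_z]
          _ = _ := by rw [mul_assoc]
      exact mul_left_cancel this
    rw [z_x_pow] at h4
    have h5 : x ^ i = x ^ (4 * i) := mul_right_cancel h4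
    have h6 := x_pow_eq h5
    have h7 : 7 ∣ i := by omega
    obtain ⟨j, rfl⟩ := h7
    rw [hi', pow_mul, x_pow, one_pow, mul_one]
  have hall : ∀ g : J, ε g = g := by
    intro g
    have hg : g ∈ Subgroup.closure ({x, z, s, u} : Set J) := by rw [gen]; trivial
    induction hg using Subgroup.closure_induction with
    | mem w hw =>
      rcases hw with rfl | rfl | rfl | rfl
      · exact hx
      · exact hz
      · exact hs
      · exact hu
    | one => exact map_one ε
    | mul a b _ _ ha hb => rw [map_mul, ha, hb]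
    | inv a _ ha => rw [map_inv, ha]
  ext g
  rw [hall g]; rfl

/-- inner-equivalence -/
theorem conj_mul_mem (g : J) {α : MulAut J} (h : MulAut.conj g * α ∈ Cfsg.Inn J) : α ∈ Cfsg.Inn J := by
  have h1 : MulAut.conj g ∈ Cfsg.Inn J := ⟨g, rfl⟩
  have := mul_mem (inv_mem h1) h
  rwa [inv_mul_cancel_left] at this

theorem conj_x_pow (i : ℕ) : (x ^ i)⁻¹ * x * x ^ i = x := by
  rw [(Commute.pow_self x i).inv_left.eq, inv_mul_cancel_right]

theorem step3 (ε : MulAut J) (hx : ε x = x) (hs : ∃ i, ε s = si i) : ε ∈ Cfsg.Inn J := by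
  obtain ⟨i, hi⟩ := hs
  apply conj_mul_mem (x ^ i)⁻¹
  have h : MulAut.conj (x ^ i)⁻¹ * ε = 1 := by
    apply aut_trivial
    · rw [MulAut.mul_apply, MulAut.conj_apply, hx, inv_inv]
      exact conj_x_pow i
    · rw [MulAut.mul_apply, MulAut.conj_apply, hi, si_eq]; group
  rw [h]; exact one_mem _

theorem z_si (j : ℕ) : z * si j * z⁻¹ = si (4 * j + 1) := by
  have h1 : z * si j = si (4 * j + 1) * z := by
    rw [si_eq, ← si_add (4 * j) 1]
    calc z * (x ^ j * s * (x ^ j)⁻¹) = z * x ^ j * s * (x ^ j)⁻¹ := by simp only [mul_assoc]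
      _ = x ^ (4 * j) * z * s * (x ^ j)⁻¹ := by rw [z_x_pow]
      _ = x ^ (4 * j) * (z * s) * (x ^ j)⁻¹ := by simp only [mul_assoc]
      _ = x ^ (4 * j) * (si 1 * z) * (x ^ j)⁻¹ := by rw [z_s]
      _ = x ^ (4 * j) * si 1 * (x ^ (4 * j))⁻¹ * (x ^ (4 * j) * z * (x ^ j)⁻¹) := by group
      _ = x ^ (4 * j) * si 1 * (x ^ (4 * j))⁻¹ * (z * x ^ j * (x ^ j)⁻¹) := by rw [z_x_pow]
      _ = _ := by group
  rw [h1, mul_inv_cancel_right]

theorem step2 (δ : MulAut J) (k : ℕ) (hk : ¬ 7 ∣ k) (hx : δ x = x ^ k) (hs : δ s = s) : δ ∈ Cfsg.Inn J := by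
  have hsi : ∀ i, δ (si i) = si (k * i) := by
    intro i
    rw [si_eq, si_eq, map_mul, map_mul, map_inv, map_pow, hx, hs, pow_mul]
  have h1 := congrArg δ l1
  rw [map_mul, hs, hsi, hsi, mul_one, mul_comm k 3] at h1
  have hmod : ∀ r, k % 7 = r → x ^ k = x ^ r := by
    intro r hr
    have h2 : x ^ k = x ^ (k % 7) := by
      conv_lhs => rw [← Nat.mod_add_div k 7, pow_add, pow_mul, x_pow, one_pow, mul_one]
    rw [h2, hr]
  have hz4 : z⁻¹ * x ^ 4 * z = x := by
    have : x ^ 4 = z * x * z⁻¹ := by rw [z_x, mul_inv_cancel_right]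
    rw [this]; group
  have hz2 : z⁻¹ * x ^ 2 * z = x ^ 4 := by
    have : x ^ 2 = z * x ^ 4 * z⁻¹ := by
      rw [z_x_pow, mul_inv_cancel_right]
      have e : x ^ (4 * 4) = (x ^ 7) ^ 2 * x ^ 2 := by rw [← pow_mul, ← pow_add]
      rw [e, x_pow]; simp
    rw [this]; group
  have hs1 : z⁻¹ * s * z = si 5 := by
    have h2 := z_si 5
    rw [← si_mod (4 * 5 + 1), show (4 * 5 + 1) % 7 = 0 by norm_num, si_zero] at h2
    rw [← h2]; group
  have hs2 : z⁻¹ * si 5 * z = si 1 := by
    have h2 := z_si 1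
    have h3 : si 5 = z * si 1 * z⁻¹ := h2.symm
    rw [h3]; group
  rcases rel_k h1 hk with h | h | h
  · apply step3 δ
    · rw [hx, hmod 1 h, pow_one]
    · exact ⟨0, by rw [hs, si_zero]⟩
  · apply conj_mul_mem z⁻¹
    apply conj_mul_mem z⁻¹
    apply step3
    · rw [MulAut.mul_apply, MulAut.mul_apply, MulAut.conj_apply, MulAut.conj_apply, hx, hmod 2 h, inv_inv, hz2, hz4]
    · exact ⟨1, by rw [MulAut.mul_apply, MulAut.mul_apply, MulAut.conj_apply, MulAut.conj_apply, hs, inv_inv, hs1, hs2]⟩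
  · apply conj_mul_mem z⁻¹
    apply step3
    · rw [MulAut.mul_apply, MulAut.conj_apply, hx, hmod 4 h, inv_inv, hz4]
    · exact ⟨5, by rw [MulAut.mul_apply, MulAut.conj_apply, hs, inv_inv, hs1]⟩

theorem step1 (γ : MulAut J) (k : ℕ) (hx : γ x = x ^ k) (hs : γ s ∈ D) : γ ∈ Cfsg.Inn J := by
  rcases hs with hs | ⟨i, hi⟩
  · exfalso
    have : s = 1 := γ.injective (by rw [hs, map_one])
    exact s_ne this
  · apply conj_mul_mem (x ^ i)⁻¹
    apply step2 _ k
    · rintro ⟨j, rfl⟩
      rw [pow_mul, x_pow, one_pow] at hx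
      exact x_ne (γ.injective (by rw [hx, map_one]))
    · rw [MulAut.mul_apply, MulAut.conj_apply, hx, inv_inv]
      rw [(((Commute.refl x).pow_pow i k).inv_left).eq, inv_mul_cancel_right]
    · rw [MulAut.mul_apply, MulAut.conj_apply, hi, si_eq]; group

theorem mem_inn (α : MulAut J) : α ∈ Cfsg.Inn J := by
  classical
  obtain ⟨g, hg⟩ := conj_of_card 2 3 (by rw [card_J1]; norm_num) (D.map α.toMonoidHom) D (by
    rw [← Nat.card_congr (D.equivMapOfInjective α.toMonoidHom α.injective).toEquiv, card_D]; norm_num)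
    (by rw [card_D]; norm_num)
  apply conj_mul_mem g
  set β := MulAut.conj g * α with hβ
  have hβD : ∀ d, d ∈ D ↔ β d ∈ D := by
    intro d
    rw [hβ, MulAut.mul_apply, MulAut.conj_apply, ← hg]
    constructor
    · intro hd; exact ⟨d, hd, rfl⟩
    · rintro ⟨e, he, he'⟩
      rw [← α.injective he']; exact he
  have hnorm : ∀ w : J, (∀ d ∈ D, w * d * w⁻¹ ∈ D) → w ∈ Subgroup.normalizer (D : Set J) := by
    intro w hw
    rw [Subgroup.mem_normalizer_iff]
    intro d
    constructor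
    · exact hw d
    · intro h
      -- finite: conjugation maps `D` onto `D`
      have hinj : Function.Injective (fun d : D => (⟨w * d * w⁻¹, hw d d.2⟩ : D)) := by
        intro a b hab
        have h1 : w * (a : J) * w⁻¹ = w * (b : J) * w⁻¹ := congrArg Subtype.val hab
        exact Subtype.ext (mul_left_cancel (mul_right_cancel h1))
      have hsurj := Finite.surjective_of_injective hinj
      obtain ⟨e, he⟩ := hsurj ⟨w * d * w⁻¹, h⟩
      have h1 : w * (e : J) * w⁻¹ = w * d * w⁻¹ := congrArg Subtype.val he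
      have h2 : (e : J) = d := mul_left_cancel (mul_right_cancel h1)
      rw [← h2]; exact e.2
  have hxM : x ∈ Subgroup.normalizer (D : Set J) := by
    apply hnorm
    intro d hd
    have := x_D hd 1
    rwa [pow_one] at this
  have hβxM : β x ∈ Subgroup.normalizer (D : Set J) := by
    apply hnorm
    intro d hd
    obtain ⟨d', rfl⟩ := β.surjective d
    have hd' : d' ∈ D := (hβD d').2 hd
    rw [← map_mul, ← map_inv, ← map_mul, ← hβD]
    have := x_D hd' 1
    rwa [pow_one] at this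
  set Mn := Subgroup.normalizer (D : Set J) with hMn
  have ho1 : Nat.card (Subgroup.zpowers (⟨β x, hβxM⟩ : Mn)) = 7 ^ 1 := by
    rw [Nat.card_zpowers, Subgroup.orderOf_mk, MulEquiv.orderOf_eq, orderOf_x, pow_one]
  have ho2 : Nat.card (Subgroup.zpowers (⟨x, hxM⟩ : Mn)) = 7 ^ 1 := by
    rw [Nat.card_zpowers, Subgroup.orderOf_mk, orderOf_x, pow_one]
  obtain ⟨m, hm⟩ := conj_of_card 7 1 (by
      intro h
      have h1 := h.trans (Subgroup.card_subgroup_dvd_card Mn)
      rw [card_J1] at h1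
      norm_num at h1) (Subgroup.zpowers (⟨β x, hβxM⟩ : Mn)) (Subgroup.zpowers (⟨x, hxM⟩ : Mn)) ho1 ho2
  have h1 := (hm ⟨β x, hβxM⟩).1 (Subgroup.mem_zpowers _)
  have hfin : IsOfFinOrder (⟨x, hxM⟩ : Mn) := isOfFinOrder_of_finite _
  rw [hfin.mem_zpowers_iff_mem_range_orderOf, Finset.mem_image] at h1
  obtain ⟨k, -, hk⟩ := h1
  have hk' : x ^ k = (m : J) * β x * (m : J)⁻¹ := congrArg Subtype.val hk
  apply conj_mul_mem (m : J)
  apply step1 _ k
  · rw [MulAut.mul_apply, MulAut.conj_apply, ← hk']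
  · rw [MulAut.mul_apply, MulAut.conj_apply]
    have h2 : β s ∈ D := (hβD s).1 s_mem_D
    exact (Subgroup.mem_normalizer_iff.1 m.2 (β s)).1 h2

theorem card_out : Nat.card (Cfsg.Out J) = 1 := by
  have h : Cfsg.Inn J = ⊤ := by
    rw [eq_top_iff]
    intro α _
    exact mem_inn α
  change Nat.card (MulAut J ⧸ Cfsg.Inn J) = 1
  rw [← Subgroup.index_eq_card, h, Subgroup.index_top]

end H61.J1
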