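import Cfsg.Agent.Lib.H61.J1a
import Cfsg.Prelude.Def_Spor_J1
import Mathlib.GroupTheory.Coset.Card

set_option autoImplicit false

/-! The Janko group `J1`: the double coset decomposition over the monomial subgroup `H` of order 168. -/

namespace H61.J1

open H61.Mat7 Cfsg.Spor

abbrev GM := Matrix.GeneralLinearGroup (Fin 7) (ZMod 11)

/-- `N` is a code of `g` -/
def Cd (N : ℕ) (g : GM) : Prop := ok N ∧ (g : M) = dec N

theorem Cd.mul {A B : ℕ} {g h : GM} (hA : Cd A g) (hB : Cd B h) : Cd (Mat7.mul A B) (g * h) :=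
  ⟨ok_mul hA.1 hB.1, by rw [dec_mul hA.1 hB.1, ← hA.2, ← hB.2]; rfl⟩

theorem Cd.inj {A : ℕ} {g h : GM} (hA : Cd A g) (hB : Cd A h) : g = h := by
  apply Units.ext
  rw [hA.2, hB.2]

theorem ok_mem {N : ℕ} (h : N ∈ xC :: xiC :: yC :: zC :: ziC :: s1C :: uC :: one :: NL ++ SL ++ HL ++ DL) : ok N := by
  apply ok_of_okB
  have := ok_all
  rw [List.all_eq_true] at this
  exact this N h

theorem ok_one : ok one := ok_mem (by simp)

theorem dec_one : dec one = 1 := by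
  have h : ∀ p : Fin 7 × Fin 7, ((dg (row one p.1) p.2 : ℕ) : ZMod 11) = (1 : Matrix (Fin 7) (Fin 7) (ZMod 11)) p.1 p.2 := by
    decide +kernel
  ext i j
  exact h (i, j)

theorem Cd_one : Cd one 1 := ⟨ok_one, by rw [dec_one]; rfl⟩

theorem Cd_X : Cd xC jankoX := by
  refine ⟨ok_mem (by simp), ?_⟩
  have h : ∀ p : Fin 7 × Fin 7, Cfsg.jankoMatrixX p.1 p.2 = ((dg (row xC p.1) p.2 : ℕ) : ZMod 11) := by
    decide +kernel
  ext i j
  exact h (i, j)

theorem Cd_Y : Cd yC jankoY := by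
  refine ⟨ok_mem (by simp), ?_⟩
  have h : ∀ p : Fin 7 × Fin 7, Cfsg.jankoMatrixY p.1 p.2 = ((dg (row yC p.1) p.2 : ℕ) : ZMod 11) := by
    decide +kernel
  ext i j
  exact h (i, j)

/-- evaluation of a word -/
def wordG : List Bool → GM
  | [] => 1
  | true :: l => jankoX * wordG l
  | false :: l => jankoY * wordG l

theorem Cd_word (l : List Bool) : Cd (wordC l) (wordG l) := by
  induction l with
  | nil => exact Cd_one
  | cons b l ih =>
    cases b
    · exact Cd_Y.mul ih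
    · exact Cd_X.mul ih

theorem wordG_mem (l : List Bool) : wordG l ∈ Cfsg.Spor.J1 := by
  induction l with
  | nil => exact one_mem _
  | cons b l ih =>
    cases b
    · exact mul_mem (Subgroup.subset_closure (by simp)) ih
    · exact mul_mem (Subgroup.subset_closure (by simp)) ih

def gX : GM := jankoX
def gS : GM := wordG wordS1
def gU : GM := wordG wordu
def gZ : GM := wordG wordZ

theorem Cd_gX : Cd xC gX := Cd_X
theorem Cd_gS : Cd s1C gS := by rw [← words_ok.1]; exact Cd_word _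
theorem Cd_gU : Cd uC gU := by rw [← words_ok.2.1]; exact Cd_word _
theorem Cd_gZ : Cd zC gZ := by rw [← words_ok.2.2]; exact Cd_word _

theorem inv_of {A B : ℕ} {g : GM} (hA : Cd A g) (hB : ok B) (h : Mat7.mul A B = one) : Cd B g⁻¹ := by
  refine ⟨hB, ?_⟩
  have h1 : (g : M) * dec B = 1 := by
    rw [hA.2, ← dec_mul hA.1 hB, h, dec_one]
  have h2 : ((g⁻¹ : GM) : M) * (g : M) = 1 := by
    rw [← Units.val_mul, inv_mul_cancel, Units.val_one]
  calc ((g⁻¹ : GM) : M) = ((g⁻¹ : GM) : M) * ((g : M) * dec B) := by rw [h1, mul_one]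
    _ = (((g⁻¹ : GM) : M) * (g : M)) * dec B := by rw [mul_assoc]
    _ = dec B := by rw [h2, one_mul]

theorem Cd_gXi : Cd xiC gX⁻¹ := inv_of Cd_gX (ok_mem (by simp)) inv_codes.1
theorem Cd_gZi : Cd ziC gZ⁻¹ := inv_of Cd_gZ (ok_mem (by simp)) inv_codes.2.1
theorem Cd_gSi : Cd s1C gS⁻¹ := inv_of Cd_gS Cd_gS.1 inv_codes.2.2
theorem gS_inv : gS⁻¹ = gS := Cd_gSi.inj Cd_gS
theorem Cd_gUi : Cd uC gU⁻¹ := inv_of Cd_gU Cd_gU.1 u_conj.2.2
theorem gU_inv : gU⁻¹ = gU := Cd_gUi.inj Cd_gU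
theorem gU_sq : gU * gU = 1 := by
  nth_rewrite 1 [← gU_inv]
  exact inv_mul_cancel gU

theorem Cd_pow {A : ℕ} {g : GM} (hA : Cd A g) (n : ℕ) : Cd (powC A n) (g ^ n) := by
  induction n with
  | zero => rw [pow_zero]; exact Cd_one
  | succ n ih => rw [pow_succ']; exact hA.mul ih

/-- the subgroup `7:3` -/
def N : Subgroup GM := Subgroup.closure {gX, gZ}

/-- the subgroup `2^3:7:3` -/
def H : Subgroup GM := Subgroup.closure {gX, gZ, gS}

theorem gX_mem_N : gX ∈ N := Subgroup.subset_closure (by simp)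
theorem gZ_mem_N : gZ ∈ N := Subgroup.subset_closure (by simp)
theorem gX_mem_H : gX ∈ H := Subgroup.subset_closure (by simp)
theorem gZ_mem_H : gZ ∈ H := Subgroup.subset_closure (by simp)
theorem gS_mem_H : gS ∈ H := Subgroup.subset_closure (by simp)

theorem N_le_H : N ≤ H := by
  apply Subgroup.closure_mono
  intro g hg
  rcases hg with rfl | rfl
  · exact Or.inl rfl
  · exact Or.inr (Or.inl rfl)

theorem NL_spec {a : ℕ} (ha : a ∈ NL) : ∃ g ∈ N, Cd a g := by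
  rw [NL_eq, List.mem_flatMap] at ha
  obtain ⟨i, -, ha⟩ := ha
  rw [List.mem_map] at ha
  obtain ⟨j, -, rfl⟩ := ha
  exact ⟨gX ^ i * gZ ^ j, mul_mem (pow_mem gX_mem_N i) (pow_mem gZ_mem_N j), (Cd_pow Cd_gX i).mul (Cd_pow Cd_gZ j)⟩

/-- the diagonal subgroup `2^3`, as a set -/
def Dset : Set GM := {g | ∃ a ∈ SL, Cd a g}

theorem SL_spec {a : ℕ} (ha : a ∈ SL) : ∃ g ∈ H, Cd a g := by
  rw [SL_eq, List.mem_cons] at ha
  rcases ha with rfl | ha
  · exact ⟨1, one_mem _, Cd_one⟩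
  · rw [List.mem_map] at ha
    obtain ⟨i, -, rfl⟩ := ha
    exact ⟨gX ^ i * gS * (gX⁻¹) ^ i, mul_mem (mul_mem (pow_mem gX_mem_H i) gS_mem_H) (pow_mem (inv_mem gX_mem_H) i),
      ((Cd_pow Cd_gX i).mul Cd_gS).mul (Cd_pow Cd_gXi i)⟩

theorem HL_spec {a : ℕ} (ha : a ∈ HL) : ∃ x ∈ N, ∃ s ∈ Dset, Cd a (x * s) := by
  rw [HL_eq, List.mem_flatMap] at ha
  obtain ⟨b, hb, ha⟩ := ha
  rw [List.mem_map] at ha
  obtain ⟨c, hc, rfl⟩ := ha
  obtain ⟨g, hg, hg'⟩ := NL_spec hb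
  obtain ⟨s, -, hs'⟩ := SL_spec hc
  exact ⟨g, hg, s, ⟨c, hc, hs'⟩, hg'.mul hs'⟩

theorem Dset_sub {g : GM} (hg : g ∈ Dset) : g ∈ H := by
  obtain ⟨a, ha, hag⟩ := hg
  obtain ⟨h, hh, hah⟩ := SL_spec ha
  rw [hag.inj hah]; exact hh

theorem HL_spec' {a : ℕ} (ha : a ∈ HL) : ∃ h ∈ H, Cd a h := by
  obtain ⟨x, hx, s, hs, h⟩ := HL_spec ha
  exact ⟨x * s, mul_mem (N_le_H hx) (Dset_sub hs), h⟩

theorem HL_mul {g : ℕ} (hg : g ∈ [xC, xiC, zC, ziC, s1C]) {a : ℕ} (ha : a ∈ HL) : Mat7.mul g a ∈ HL := by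
  have h := HL_closed
  rw [List.all_eq_true] at h
  have h1 := h g hg
  rw [List.all_eq_true] at h1
  have h2 := h1 a ha
  rw [force_eq] at h2
  exact mem_of_memB h2

theorem one_mem_HL : one ∈ HL := mem_of_memB (by decide +kernel)

theorem mem_H_iff {g : GM} : g ∈ H ↔ ∃ a ∈ HL, Cd a g := by
  constructor
  · intro hg
    induction hg using Subgroup.closure_induction_left with
    | one => exact ⟨one, one_mem_HL, Cd_one⟩
    | mul_left x hx y _ ih =>
      obtain ⟨a, ha, hay⟩ := ih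
      simp only [Set.mem_insert_iff, Set.mem_singleton_iff] at hx
      rcases hx with rfl | rfl | rfl
      · exact ⟨_, HL_mul (by simp) ha, Cd_gX.mul hay⟩
      · exact ⟨_, HL_mul (by simp) ha, Cd_gZ.mul hay⟩
      · exact ⟨_, HL_mul (by simp) ha, Cd_gS.mul hay⟩
    | inv_mul_cancel x hx y _ ih =>
      obtain ⟨a, ha, hay⟩ := ih
      simp only [Set.mem_insert_iff, Set.mem_singleton_iff] at hx
      rcases hx with rfl | rfl | rfl
      · exact ⟨_, HL_mul (by simp) ha, Cd_gXi.mul hay⟩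
      · exact ⟨_, HL_mul (by simp) ha, Cd_gZi.mul hay⟩
      · exact ⟨_, HL_mul (by simp) ha, Cd_gSi.mul hay⟩
  · rintro ⟨a, ha, hag⟩
    obtain ⟨h, hh, hah⟩ := HL_spec' ha
    rw [hag.inj hah]; exact hh

theorem H_decomp {h : GM} (hh : h ∈ H) : ∃ x ∈ N, ∃ s ∈ Dset, h = x * s := by
  obtain ⟨a, ha, hag⟩ := mem_H_iff.1 hh
  obtain ⟨x, hx, s, hs, h1⟩ := HL_spec ha
  exact ⟨x, hx, s, hs, hag.inj h1⟩

theorem u_N {x : GM} (hx : x ∈ N) : gU * x * gU⁻¹ ∈ N := by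
  have hXX : gU * gX * gU⁻¹ = gX⁻¹ := by
    have : Cd (Mat7.mul uC xC) (gU * gX) := Cd_gU.mul Cd_gX
    rw [u_conj.1] at this
    have h2 : Cd (Mat7.mul xiC uC) (gX⁻¹ * gU) := Cd_gXi.mul Cd_gU
    rw [this.inj h2, mul_inv_cancel_right]
  have hZZ : gU * gZ * gU⁻¹ = gZ := by
    have : Cd (Mat7.mul uC zC) (gU * gZ) := Cd_gU.mul Cd_gZ
    rw [u_conj.2.1] at this
    have h2 : Cd (Mat7.mul zC uC) (gZ * gU) := Cd_gZ.mul Cd_gU
    rw [this.inj h2, mul_inv_cancel_right]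
  induction hx using Subgroup.closure_induction with
  | mem y hy =>
    simp only [Set.mem_insert_iff, Set.mem_singleton_iff] at hy
    rcases hy with rfl | rfl
    · rw [hXX]; exact inv_mem gX_mem_N
    · rw [hZZ]; exact gZ_mem_N
  | one => rw [mul_one, mul_inv_cancel]; exact one_mem _
  | mul y z _ _ hy hz =>
    have : gU * (y * z) * gU⁻¹ = (gU * y * gU⁻¹) * (gU * z * gU⁻¹) := by group
    rw [this]; exact mul_mem hy hz
  | inv y _ hy =>
    have : gU * y⁻¹ * gU⁻¹ = (gU * y * gU⁻¹)⁻¹ := by group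
    rw [this]; exact inv_mem hy

/-- double coset representatives -/
def Rset : Set GM := {g | ∃ a ∈ DL, Cd a g}

theorem getD_mem {l : List ℕ} {n : ℕ} (h : n < l.length) : l.getD n 0 ∈ l := by
  rw [List.getD_eq_getElem _ _ h]
  exact List.getElem_mem h

theorem len_HL : HL.length = 168 := by decide +kernel
theorem len_DL : DL.length = 11 := by decide +kernel

/-- the group generated by `H` and `gU` -/
def G0 : Subgroup GM := Subgroup.closure {gX, gZ, gS, gU}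

theorem H_le_G0 : H ≤ G0 := by
  apply Subgroup.closure_mono
  intro g hg
  rcases hg with rfl | rfl | rfl
  · exact Or.inl rfl
  · exact Or.inr (Or.inl rfl)
  · exact Or.inr (Or.inr (Or.inl rfl))

theorem gU_mem_G0 : gU ∈ G0 := Subgroup.subset_closure (by simp)

theorem DL_spec : ∀ i < 11, ∃ g ∈ G0, Cd (DL.getD i 0) g := by
  have key : ∀ {s d : ℕ}, (∃ g ∈ H, Cd s g) → (∃ g ∈ G0, Cd d g) → ∃ g ∈ G0, Cd (Mat7.mul uC (Mat7.mul s d)) g := by
    rintro s d ⟨g, hg, hs⟩ ⟨e, he, hd⟩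
    exact ⟨gU * (g * e), mul_mem gU_mem_G0 (mul_mem (H_le_G0 hg) he), Cd_gU.mul (hs.mul hd)⟩
  have hS : ∀ i < 8, ∃ g ∈ H, Cd (SL.getD i 0) g := by
    intro i hi
    apply SL_spec
    apply getD_mem
    have : SL.length = 8 := by decide +kernel
    omega
  have h0 : ∃ g ∈ G0, Cd (DL.getD 0 0) g := by
    rw [show DL.getD 0 0 = one by decide +kernel]
    exact ⟨1, one_mem _, Cd_one⟩
  have h1 : ∃ g ∈ G0, Cd (DL.getD 1 0) g := by
    rw [show DL.getD 1 0 = Mat7.mul uC (Mat7.mul (SL.getD 0 0) (DL.getD 0 0)) by decide +kernel]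
    exact key (hS 0 (by norm_num)) h0
  have h2 : ∃ g ∈ G0, Cd (DL.getD 2 0) g := by
    rw [show DL.getD 2 0 = Mat7.mul uC (Mat7.mul (SL.getD 1 0) (DL.getD 1 0)) by decide +kernel]
    exact key (hS 1 (by norm_num)) h1
  have h3 : ∃ g ∈ G0, Cd (DL.getD 3 0) g := by
    rw [show DL.getD 3 0 = Mat7.mul uC (Mat7.mul (SL.getD 1 0) (DL.getD 2 0)) by decide +kernel]
    exact key (hS 1 (by norm_num)) h2
  have h4 : ∃ g ∈ G0, Cd (DL.getD 4 0) g := by
    rw [show DL.getD 4 0 = Mat7.mul uC (Mat7.mul (SL.getD 2 0) (DL.getD 2 0)) by decide +kernel]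
    exact key (hS 2 (by norm_num)) h2
  have h5 : ∃ g ∈ G0, Cd (DL.getD 5 0) g := by
    rw [show DL.getD 5 0 = Mat7.mul uC (Mat7.mul (SL.getD 1 0) (DL.getD 3 0)) by decide +kernel]
    exact key (hS 1 (by norm_num)) h3
  have h6 : ∃ g ∈ G0, Cd (DL.getD 6 0) g := by
    rw [show DL.getD 6 0 = Mat7.mul uC (Mat7.mul (SL.getD 2 0) (DL.getD 3 0)) by decide +kernel]
    exact key (hS 2 (by norm_num)) h3
  have h7 : ∃ g ∈ G0, Cd (DL.getD 7 0) g := by
    rw [show DL.getD 7 0 = Mat7.mul uC (Mat7.mul (SL.getD 3 0) (DL.getD 3 0)) by decide +kernel]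
    exact key (hS 3 (by norm_num)) h3
  have h8 : ∃ g ∈ G0, Cd (DL.getD 8 0) g := by
    rw [show DL.getD 8 0 = Mat7.mul uC (Mat7.mul (SL.getD 3 0) (DL.getD 5 0)) by decide +kernel]
    exact key (hS 3 (by norm_num)) h5
  have h9 : ∃ g ∈ G0, Cd (DL.getD 9 0) g := by
    rw [show DL.getD 9 0 = Mat7.mul uC (Mat7.mul (SL.getD 6 0) (DL.getD 5 0)) by decide +kernel]
    exact key (hS 6 (by norm_num)) h5
  have h10 : ∃ g ∈ G0, Cd (DL.getD 10 0) g := by
    rw [show DL.getD 10 0 = Mat7.mul uC (Mat7.mul (SL.getD 6 0) (DL.getD 7 0)) by decide +kernel]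
    exact key (hS 6 (by norm_num)) h7
  intro i hi
  interval_cases i <;> assumption

theorem Rset_sub {d : GM} (hd : d ∈ Rset) : d ∈ G0 := by
  obtain ⟨a, ha, had⟩ := hd
  obtain ⟨i, hi, rfl⟩ := List.getElem_of_mem ha
  rw [len_DL] at hi
  obtain ⟨g, hg, hg'⟩ := DL_spec i hi
  rw [List.getD_eq_getElem _ _ (by rw [len_DL]; exact hi)] at hg'
  rw [had.inj hg']; exact hg

theorem cert_spec {s d : GM} (hs : s ∈ Dset) (hd : d ∈ Rset) : ∃ a ∈ H, ∃ e ∈ Rset, ∃ b ∈ H, gU * (s * d) = a * (e * b) := by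
  obtain ⟨sc, hsc, hs⟩ := hs
  obtain ⟨dc, hdc, hd⟩ := hd
  have hmem : (dc, sc) ∈ DL.flatMap fun d => SL.map fun s => (d, s) := by
    rw [List.mem_flatMap]
    exact ⟨dc, hdc, List.mem_map.2 ⟨sc, hsc, rfl⟩⟩
  obtain ⟨i, hi, hi'⟩ := List.getElem_of_mem hmem
  have hi2 : i < certs.length := by rw [certs_len]; exact hi
  have hz : ((DL.flatMap fun d => SL.map fun s => (d, s)).zip certs)[i]'(by
      rw [List.length_zip]; exact lt_min hi hi2) = ((dc, sc), certs[i]) := by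
    rw [List.getElem_zip, hi']
  have hok := certs_ok
  rw [List.all_eq_true] at hok
  have h1 := hok _ (List.getElem_mem (l := (DL.flatMap fun d => SL.map fun s => (d, s)).zip certs) (n := i) (by
      rw [List.length_zip]; exact lt_min hi hi2))
  rw [hz] at h1
  generalize certs[i] = c at h1
  obtain ⟨a, k, b⟩ := c
  simp only [certOK, Bool.and_eq_true] at h1
  obtain ⟨⟨⟨ha, hk⟩, hb⟩, he⟩ := h1
  have ha' := Nat.le_of_ble_eq_true ha
  have hk' := Nat.le_of_ble_eq_true hk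
  have hb' := Nat.le_of_ble_eq_true hb
  have he' := Nat.eq_of_beq_eq_true he
  obtain ⟨ga, hga, hga'⟩ := HL_spec' (getD_mem (l := HL) (n := a) (by rw [len_HL]; omega))
  obtain ⟨gb, hgb, hgb'⟩ := HL_spec' (getD_mem (l := HL) (n := b) (by rw [len_HL]; omega))
  have hkm := getD_mem (l := DL) (n := k) (by rw [len_DL]; omega)
  have hek : ∃ e : GM, Cd (DL.getD k 0) e := by
    have hok' : ok (DL.getD k 0) := by
      exact ok_mem (List.mem_append_right _ hkm)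
    -- the matrix is invertible since `mul u (mul s d)` is
    have hu : dec uC * (dec sc * dec dc) = dec (HL.getD a 0) * (dec (DL.getD k 0) * dec (HL.getD b 0)) := by
      have e1 := congrArg dec he'
      rw [dec_mul Cd_gU.1 (ok_mul hs.1 hd.1), dec_mul hs.1 hd.1, dec_mul hga'.1 (ok_mul hok' hgb'.1),
        dec_mul hok' hgb'.1] at e1
      exact e1
    rw [← Cd_gU.2, ← hs.2, ← hd.2, ← hga'.2, ← hgb'.2] at hu
    refine ⟨ga⁻¹ * (gU * (s * d)) * gb⁻¹, hok', ?_⟩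
    have h2 : ((ga⁻¹ * (gU * (s * d)) * gb⁻¹ : GM) : M) = ((ga⁻¹ : GM) : M) * ((gU : M) * ((s : M) * (d : M))) * ((gb⁻¹ : GM) : M) := rfl
    rw [h2, hu]
    have h3 : ((ga⁻¹ : GM) : M) * (ga : M) = 1 := by rw [← Units.val_mul, inv_mul_cancel, Units.val_one]
    have h4 : (gb : M) * ((gb⁻¹ : GM) : M) = 1 := by rw [← Units.val_mul, mul_inv_cancel, Units.val_one]
    calc ((ga⁻¹ : GM) : M) * ((ga : M) * (dec (DL.getD k 0) * (gb : M))) * ((gb⁻¹ : GM) : M) =
        (((ga⁻¹ : GM) : M) * (ga : M)) * dec (DL.getD k 0) * ((gb : M) * ((gb⁻¹ : GM) : M)) := by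
          simp only [mul_assoc]
      _ = dec (DL.getD k 0) := by rw [h3, h4, one_mul, mul_one]
  obtain ⟨e, hee⟩ := hek
  refine ⟨ga, hga, e, ⟨_, hkm, hee⟩, gb, hgb, ?_⟩
  have h5 : Cd (Mat7.mul uC (Mat7.mul sc dc)) (gU * (s * d)) := Cd_gU.mul (hs.mul hd)
  have h6 : Cd (Mat7.mul (HL.getD a 0) (Mat7.mul (DL.getD k 0) (HL.getD b 0))) (ga * (e * gb)) := hga'.mul (hee.mul hgb')
  have he'' : Mat7.mul uC (Mat7.mul sc dc) = Mat7.mul (HL.getD a 0) (Mat7.mul (DL.getD k 0) (HL.getD b 0)) := he'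
  rw [he''] at h5
  exact h5.inj h6

theorem G0_decomp {g : GM} (hg : g ∈ G0) : ∃ a ∈ H, ∃ d ∈ Rset, ∃ b ∈ H, g = a * d * b := by
  have hone : (1 : GM) ∈ Rset := ⟨one, mem_of_memB (by decide +kernel), Cd_one⟩
  have hH : ∀ x ∈ H, ∀ y, (∃ a ∈ H, ∃ d ∈ Rset, ∃ b ∈ H, y = a * d * b) → ∃ a ∈ H, ∃ d ∈ Rset, ∃ b ∈ H, x * y = a * d * b := by
    rintro x hx y ⟨a, ha, d, hd, b, hb, rfl⟩
    exact ⟨x * a, mul_mem hx ha, d, hd, b, hb, by simp only [mul_assoc]⟩
  have hU : ∀ y, (∃ a ∈ H, ∃ d ∈ Rset, ∃ b ∈ H, y = a * d * b) → ∃ a ∈ H, ∃ d ∈ Rset, ∃ b ∈ H, gU * y = a * d * b := by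
    rintro y ⟨a, ha, d, hd, b, hb, rfl⟩
    obtain ⟨x, hx, s, hs, rfl⟩ := H_decomp ha
    obtain ⟨a', ha', e, he, b', hb', h1⟩ := cert_spec hs hd
    refine ⟨gU * x * gU⁻¹ * a', mul_mem (N_le_H (u_N hx)) ha', e, he, b' * b, mul_mem hb' hb, ?_⟩
    calc gU * (x * s * d * b) = gU * x * gU⁻¹ * (gU * (s * d)) * b := by group
      _ = _ := by rw [h1]; simp only [mul_assoc]
  induction hg using Subgroup.closure_induction_left with
  | one => exact ⟨1, one_mem _, 1, hone, 1, one_mem _, by simp⟩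
  | mul_left x hx y _ ih =>
    simp only [Set.mem_insert_iff, Set.mem_singleton_iff] at hx
    rcases hx with rfl | rfl | rfl | rfl
    · exact hH _ gX_mem_H _ ih
    · exact hH _ gZ_mem_H _ ih
    · exact hH _ gS_mem_H _ ih
    · exact hU _ ih
  | inv_mul_cancel x hx y _ ih =>
    simp only [Set.mem_insert_iff, Set.mem_singleton_iff] at hx
    rcases hx with rfl | rfl | rfl | rfl
    · exact hH _ (inv_mem gX_mem_H) _ ih
    · exact hH _ (inv_mem gZ_mem_H) _ ih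
    · exact hH _ (inv_mem gS_mem_H) _ ih
    · rw [gU_inv]; exact hU _ ih

theorem G0_eq : G0 = Cfsg.Spor.J1 := by
  apply le_antisymm
  · rw [G0, Subgroup.closure_le]
    intro g hg
    simp only [Set.mem_insert_iff, Set.mem_singleton_iff] at hg
    rcases hg with rfl | rfl | rfl | rfl
    · exact Subgroup.subset_closure (by simp [gX])
    · exact wordG_mem _
    · exact wordG_mem _
    · exact wordG_mem _
  · rw [Cfsg.Spor.J1, Subgroup.closure_le]
    intro g hg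
    simp only [Set.mem_insert_iff, Set.mem_singleton_iff] at hg
    rcases hg with rfl | rfl
    · exact H_le_G0 gX_mem_H
    · -- `Y` is in a double coset
      obtain ⟨ga, hga, hga'⟩ := HL_spec' (getD_mem (l := HL) (n := 6) (by rw [len_HL]; norm_num))
      obtain ⟨gb, hgb, hgb'⟩ := HL_spec' (getD_mem (l := HL) (n := 24) (by rw [len_HL]; norm_num))
      have h1 : Cd (DL.getD 1 0) gU := by
        rw [show DL.getD 1 0 = uC by decide +kernel]
        exact Cd_gU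
      have h2 := hga'.mul (h1.mul hgb')
      rw [← y_eq] at h2
      have h3 := Cd_Y.inj h2
      change jankoY ∈ G0
      rw [h3]
      exact mul_mem (H_le_G0 hga) (mul_mem gU_mem_G0 (H_le_G0 hgb))

end H61.J1
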