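import Cfsg.Agent.Lib.H61.J1b
import Mathlib.GroupTheory.Perm.Cycle.Type

set_option autoImplicit false

/-! The Janko group `J1`: order and element orders. -/

namespace H61.J1

open H61.Mat7 Cfsg.Spor

theorem dg_lt (r j : ℕ) : dg r j < 1024 := Nat.mod_lt _ (by norm_num)

/-- codes are determined by the matrix -/
theorem dec_inj {a b : ℕ} (ha : ok a) (hb : ok b) (la : a < R ^ 7) (lb : b < R ^ 7) (h : dec a = dec b) : a = b := by
  have hdig : ∀ i < 7, ∀ j < 7, dg (row a i) j = dg (row b i) j := by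
    intro i hi j hj
    have h1 : ((dg (row a i) j : ℕ) : ZMod 11) = ((dg (row b i) j : ℕ) : ZMod 11) := congrFun (congrFun h ⟨i, hi⟩) ⟨j, hj⟩
    rw [ZMod.natCast_eq_natCast_iff] at h1
    have h2 := ha i hi j hj
    have h3 := hb i hi j hj
    exact Nat.ModEq.eq_of_lt_of_lt h1 (by omega) (by omega)
  have hrow : ∀ i < 7, row a i = row b i := by
    intro i hi
    rw [expand (row a i) (row_lt a i), expand (row b i) (row_lt b i)]
    rw [hdig i hi 0 (by norm_num), hdig i hi 1 (by norm_num), hdig i hi 2 (by norm_num), hdig i hi 3 (by norm_num),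
      hdig i hi 4 (by norm_num), hdig i hi 5 (by norm_num), hdig i hi 6 (by norm_num)]
  have hR : 0 < R := by unfold R; norm_num
  have hexp : ∀ c : ℕ, c < R ^ 7 → c = row c 0 + R * (row c 1 + R * (row c 2 + R * (row c 3 + R * (row c 4 + R * (row c 5 + R * row c 6))))) := by
    intro c hc
    have st : ∀ (x i : ℕ), x / R ^ i = row x i + R * (x / R ^ (i + 1)) := by
      intro x i
      unfold row
      rw [pow_succ, ← Nat.div_div_eq_div_mul]
      exact (Nat.mod_add_div (x / R ^ i) R).symm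
    have h0 := st c 0
    rw [pow_zero, Nat.div_one] at h0
    have h7 : c / R ^ (6 + 1) = 0 := Nat.div_eq_of_lt hc
    have h6 := st c 6
    rw [h7, mul_zero, add_zero] at h6
    rw [st c 1, st c 2, st c 3, st c 4, st c 5, h6] at h0
    exact h0
  rw [hexp a la, hexp b lb, hrow 0 (by norm_num), hrow 1 (by norm_num), hrow 2 (by norm_num), hrow 3 (by norm_num),
    hrow 4 (by norm_num), hrow 5 (by norm_num), hrow 6 (by norm_num)]

theorem Cd.code_inj {a b : ℕ} {g : GM} (ha : Cd a g) (hb : Cd b g) (la : a < R ^ 7) (lb : b < R ^ 7) : a = b :=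
  dec_inj ha.1 hb.1 la lb (ha.2.symm.trans hb.2)

theorem powchk_spec {x : ℕ} {g : GM} (h : Cd x g) (hp : powchk x = true) :
    g ^ 6 = 1 ∨ g ^ 10 = 1 ∨ g ^ 15 = 1 ∨ g ^ 7 = 1 ∨ g ^ 11 = 1 ∨ g ^ 19 = 1 := by
  unfold powchk at hp
  simp only [force_eq, Bool.or_eq_true] at hp
  have p2 := h.mul h
  rw [← pow_two] at p2
  have p3 := p2.mul h
  rw [← pow_succ] at p3
  have p4 := p2.mul p2
  rw [← pow_add] at p4
  have p5 := p4.mul h
  rw [← pow_succ] at p5
  have p10 := p5.mul p5
  rw [← pow_add] at p10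
  have p15 := p10.mul p5
  rw [← pow_add] at p15
  have key : ∀ {c : ℕ} {n : ℕ}, Cd c (g ^ n) → Nat.beq c one = true → g ^ n = 1 := by
    intro c n hc hb
    have := Nat.eq_of_beq_eq_true hb
    subst this
    exact hc.inj Cd_one
  rcases hp with hp | hp | ((hp | hp) | hp) | hp
  · left
    have := p3.mul p3
    rw [← pow_add] at this
    exact key this hp
  · right; left
    exact key p10 hp
  · right; right; left
    exact key p15 hp
  · right; right; right; left
    have := p4.mul p3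
    rw [← pow_add] at this
    exact key this hp
  · right; right; right; right; left
    have := p10.mul h
    rw [← pow_succ] at this
    exact key this hp
  · right; right; right; right; right
    have := p15.mul p4
    rw [← pow_add] at this
    exact key this hp

theorem pow_cases {g : GM} (hg : g ∈ G0) :
    g ^ 6 = 1 ∨ g ^ 10 = 1 ∨ g ^ 15 = 1 ∨ g ^ 7 = 1 ∨ g ^ 11 = 1 ∨ g ^ 19 = 1 := by
  obtain ⟨a, ha, d, ⟨dc, hdc, hd⟩, b, hb, rfl⟩ := G0_decomp hg
  obtain ⟨c, hc, hc'⟩ := mem_H_iff.1 (mul_mem hb ha)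
  have h1 := pow_ok
  rw [List.all_eq_true] at h1
  have h2 := h1 dc hdc
  rw [List.all_eq_true] at h2
  have h3 := powchk_spec (hd.mul hc') (h2 c hc)
  have h4 : ∀ n, (a * d * b) ^ n = a * (d * (b * a)) ^ n * a⁻¹ := by
    intro n
    have e : a * d * b = a * (d * (b * a)) * a⁻¹ := by group
    rw [e, conj_pow]
  have h5 : ∀ n, (d * (b * a)) ^ n = 1 → (a * d * b) ^ n = 1 := by
    intro n hn
    rw [h4, hn, mul_one, mul_inv_cancel]
  rcases h3 with h | h | h | h | h | h
  · exact Or.inl (h5 _ h)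
  · exact Or.inr (Or.inl (h5 _ h))
  · exact Or.inr (Or.inr (Or.inl (h5 _ h)))
  · exact Or.inr (Or.inr (Or.inr (Or.inl (h5 _ h))))
  · exact Or.inr (Or.inr (Or.inr (Or.inr (Or.inl (h5 _ h)))))
  · exact Or.inr (Or.inr (Or.inr (Or.inr (Or.inr (h5 _ h)))))

/-- sizes of codes -/
def small (n : ℕ) : Bool := Nat.ble (n + 1) (R ^ 7)

theorem HL_small : HL.all small = true := by decide +kernel

theorem HL_lt {a : ℕ} (ha : a ∈ HL) : a < R ^ 7 := by
  have := HL_small
  rw [List.all_eq_true] at this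
  exact Nat.le_of_ble_eq_true (this a ha)

attribute [local irreducible] HL DL NL SL

theorem card_H : Nat.card H = 168 := by
  classical
  choose! f hf using fun (g : GM) (hg : g ∈ H) => mem_H_iff.1 hg
  have e : Nat.card H = Nat.card {a // a ∈ HL.toFinset} := by
    apply Nat.card_congr
    refine Equiv.ofBijective (fun g => ⟨f g.1, by rw [List.mem_toFinset]; exact (hf g.1 g.2).1⟩) ⟨?_, ?_⟩
    · intro g h hgh
      have h1 : f g.1 = f h.1 := congrArg Subtype.val hgh
      have h2 := (hf g.1 g.2).2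
      rw [h1] at h2
      exact Subtype.ext (h2.inj (hf h.1 h.2).2)
    · rintro ⟨a, ha⟩
      rw [List.mem_toFinset] at ha
      obtain ⟨g, hg, hag⟩ := HL_spec' ha
      refine ⟨⟨g, hg⟩, ?_⟩
      apply Subtype.ext
      exact (hf g hg).2.code_inj hag (HL_lt (hf g hg).1) (HL_lt ha)
  rw [e, Nat.card_eq_fintype_card, Fintype.card_coe, List.toFinset_card_of_nodup (nodup_of_nodupB HL_nodupB), len_HL]

theorem ncard_le_of_lists {α : Type*} (S : Set α) (A B : List ℕ) (e : ℕ → ℕ → ℕ → α)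
    (h : ∀ g ∈ S, ∃ a ∈ A, ∃ b ∈ B, ∃ c ∈ A, g = e a b c) : S.ncard ≤ A.length * (B.length * A.length) := by
  classical
  have hsub : S ⊆ ((A.toFinset ×ˢ B.toFinset ×ˢ A.toFinset).image
      (fun p : ℕ × ℕ × ℕ => e p.1 p.2.1 p.2.2) : Finset α) := by
    intro g hg
    obtain ⟨a, ha, b, hb, c, hc, rfl⟩ := h g hg
    rw [Finset.mem_coe, Finset.mem_image]
    refine ⟨(a, b, c), ?_, rfl⟩
    simp only [Finset.mem_product, List.mem_toFinset]
    exact ⟨ha, hb, hc⟩
  refine (Set.ncard_le_ncard hsub (Finset.finite_toSet _)).trans ?_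
  rw [Set.ncard_coe_finset]
  refine Finset.card_image_le.trans ?_
  rw [Finset.card_product, Finset.card_product]
  exact Nat.mul_le_mul (List.toFinset_card_le A) (Nat.mul_le_mul (List.toFinset_card_le B) (List.toFinset_card_le A))

/-- the element with a given code -/
noncomputable def el (a : ℕ) : GM := by
  classical
  exact if h : ∃ g : GM, Cd a g then h.choose else 1

theorem el_eq {a : ℕ} {g : GM} (h : Cd a g) : el a = g := by
  have hex : ∃ g : GM, Cd a g := ⟨g, h⟩
  have h1 : el a = hex.choose := by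
    unfold el
    exact dif_pos hex
  rw [h1]
  exact hex.choose_spec.inj h

theorem card_G0_le : Nat.card G0 ≤ 310464 := by
  have h1 : Nat.card G0 = (G0 : Set GM).ncard := (Nat.card_coe_set_eq (G0 : Set GM))
  rw [h1]
  have h2 := ncard_le_of_lists (G0 : Set GM) HL DL (fun a b c => el a * el b * el c) (by
    intro g hg
    obtain ⟨a, ha, d, ⟨dc, hdc, hd⟩, b, hb, rfl⟩ := G0_decomp hg
    obtain ⟨ac, hac, ha'⟩ := mem_H_iff.1 ha
    obtain ⟨bc, hbc, hb'⟩ := mem_H_iff.1 hb
    refine ⟨ac, hac, dc, hdc, bc, hbc, ?_⟩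
    rw [el_eq ha', el_eq hd, el_eq hb'])
  rw [len_HL, len_DL] at h2
  exact h2

theorem one_lt : one < R ^ 7 := by decide +kernel

theorem order_of_code {c : ℕ} {g : GM} (hc : Cd c g) (n : ℕ) (hn : 0 < n) (h1 : powC c n = one)
    (h2 : ∀ p, p.Prime → p ∣ n → (!(Nat.beq (powC c (n / p)) one) && small (powC c (n / p))) = true) : orderOf g = n := by
  apply orderOf_eq_of_pow_and_pow_div_prime hn
  · have := Cd_pow hc n
    rw [h1] at this
    exact this.inj Cd_one
  · intro p hp hpn h3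
    have h4 := Cd_pow hc (n / p)
    rw [h3] at h4
    have h5 := h2 p hp hpn
    rw [Bool.and_eq_true] at h5
    have h6 := h4.code_inj Cd_one (Nat.le_of_ble_eq_true h5.2) one_lt
    rw [h6, Nat.beq_refl] at h5
    exact absurd h5.1 (by decide)

theorem exists_code (k a : ℕ) (hk : k < 11) (ha : a < 168) :
    ∃ g ∈ G0, Cd (Mat7.mul (DL.getD k 0) (HL.getD a 0)) g := by
  obtain ⟨g, hg, hg'⟩ := DL_spec k hk
  obtain ⟨h, hh, hh'⟩ := HL_spec' (getD_mem (l := HL) (n := a) (by rw [len_HL]; exact ha))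
  exact ⟨g * h, mul_mem hg (H_le_G0 hh), hg'.mul hh'⟩

theorem prime_dvd_mul' {p a b : ℕ} (hp : p.Prime) (ha : a.Prime) (hb : b.Prime) (h : p ∣ a * b) : p = a ∨ p = b := by
  rcases (Nat.Prime.dvd_mul hp).1 h with h | h
  · left; exact (Nat.prime_dvd_prime_iff_eq hp ha).1 h
  · right; exact (Nat.prime_dvd_prime_iff_eq hp hb).1 h

theorem exists_order_six : ∃ g ∈ G0, orderOf g = 6 := by
  obtain ⟨g, hg, hc⟩ := exists_code 0 9 (by norm_num) (by norm_num)
  refine ⟨g, hg, order_of_code hc 6 (by norm_num) (by decide +kernel) ?_⟩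
  intro p hp hpn
  rcases prime_dvd_mul' (a := 2) (b := 3) hp (by norm_num) (by norm_num) hpn with rfl | rfl <;> decide +kernel

theorem exists_order_ten : ∃ g ∈ G0, orderOf g = 10 := by
  obtain ⟨g, hg, hc⟩ := exists_code 1 4 (by norm_num) (by norm_num)
  refine ⟨g, hg, order_of_code hc 10 (by norm_num) (by decide +kernel) ?_⟩
  intro p hp hpn
  rcases prime_dvd_mul' (a := 2) (b := 5) hp (by norm_num) (by norm_num) hpn with rfl | rfl <;> decide +kernel

theorem exists_order_fifteen : ∃ g ∈ G0, orderOf g = 15 := by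
  obtain ⟨g, hg, hc⟩ := exists_code 1 11 (by norm_num) (by norm_num)
  refine ⟨g, hg, order_of_code hc 15 (by norm_num) (by decide +kernel) ?_⟩
  intro p hp hpn
  rcases prime_dvd_mul' (a := 3) (b := 5) hp (by norm_num) (by norm_num) hpn with rfl | rfl <;> decide +kernel

theorem exists_order_seven : ∃ g ∈ G0, orderOf g = 7 := by
  obtain ⟨g, hg, hc⟩ := exists_code 0 24 (by norm_num) (by norm_num)
  refine ⟨g, hg, order_of_code hc 7 (by norm_num) (by decide +kernel) ?_⟩
  intro p hp hpn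
  obtain rfl := (Nat.prime_dvd_prime_iff_eq hp (by norm_num)).1 hpn
  decide +kernel

theorem exists_order_eleven : ∃ g ∈ G0, orderOf g = 11 := by
  obtain ⟨g, hg, hc⟩ := exists_code 2 29 (by norm_num) (by norm_num)
  refine ⟨g, hg, order_of_code hc 11 (by norm_num) (by decide +kernel) ?_⟩
  intro p hp hpn
  obtain rfl := (Nat.prime_dvd_prime_iff_eq hp (by norm_num)).1 hpn
  decide +kernel

theorem exists_order_nineteen : ∃ g ∈ G0, orderOf g = 19 := by
  obtain ⟨g, hg, hc⟩ := exists_code 1 1 (by norm_num) (by norm_num)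
  refine ⟨g, hg, order_of_code hc 19 (by norm_num) (by decide +kernel) ?_⟩
  intro p hp hpn
  obtain rfl := (Nat.prime_dvd_prime_iff_eq hp (by norm_num)).1 hpn
  decide +kernel

theorem dvd_card {n : ℕ} (h : ∃ g ∈ G0, orderOf g = n) : n ∣ Nat.card G0 := by
  obtain ⟨g, hg, rfl⟩ := h
  have h1 := orderOf_dvd_natCard (⟨g, hg⟩ : G0)
  rwa [Subgroup.orderOf_mk] at h1

theorem card_G0 : Nat.card G0 = 175560 := by
  have h1 : 168 ∣ Nat.card G0 := by
    rw [← card_H]
    exact Subgroup.card_dvd_of_le H_le_G0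
  have h2 := dvd_card exists_order_fifteen
  have h3 := dvd_card exists_order_eleven
  have h4 := dvd_card exists_order_nineteen
  have h5 := card_G0_le
  have h6 : 175560 ∣ Nat.card G0 := by
    have e1 : Nat.lcm 168 15 = 840 := by decide
    have e2 : Nat.lcm 840 11 = 9240 := by decide
    have e3 : Nat.lcm 9240 19 = 175560 := by decide
    rw [← e3, ← e2, ← e1]
    exact Nat.lcm_dvd (Nat.lcm_dvd (Nat.lcm_dvd h1 h2) h3) h4
  obtain ⟨c, hc⟩ := h6
  have hpos : 0 < Nat.card G0 := Nat.card_pos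
  have : c = 1 := by
    rcases Nat.lt_or_ge c 2 with h | h
    · interval_cases c
      · rw [mul_zero] at hc; omega
      · rfl
    · exfalso
      have : 175560 * 2 ≤ 175560 * c := Nat.mul_le_mul_left _ h
      omega
  rw [hc, this]

theorem card_J1 : Nat.card Cfsg.Spor.J1 = 175560 := by rw [← G0_eq]; exact card_G0

theorem orderOf_dvd_cases (g : Cfsg.Spor.J1) : orderOf g ∣ 6 ∨ orderOf g ∣ 10 ∨ orderOf g ∣ 15 ∨ orderOf g ∣ 7 ∨
    orderOf g ∣ 11 ∨ orderOf g ∣ 19 := by
  have hg : (g : GM) ∈ G0 := by rw [G0_eq]; exact g.2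
  have h := pow_cases hg
  simp only [orderOf_dvd_iff_pow_eq_one]
  have e : ∀ n : ℕ, (g : GM) ^ n = 1 → g ^ n = 1 := fun n hn => Subtype.ext hn
  rcases h with h | h | h | h | h | h
  · exact Or.inl (e _ h)
  · exact Or.inr (Or.inl (e _ h))
  · exact Or.inr (Or.inr (Or.inl (e _ h)))
  · exact Or.inr (Or.inr (Or.inr (Or.inl (e _ h))))
  · exact Or.inr (Or.inr (Or.inr (Or.inr (Or.inl (e _ h)))))
  · exact Or.inr (Or.inr (Or.inr (Or.inr (Or.inr (e _ h)))))

theorem lift_order {n : ℕ} (h : ∃ g ∈ G0, orderOf g = n) : ∃ g : Cfsg.Spor.J1, orderOf g = n := by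
  obtain ⟨g, hg, rfl⟩ := h
  rw [G0_eq] at hg
  exact ⟨⟨g, hg⟩, Subgroup.orderOf_mk g hg⟩

end H61.J1
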