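import Cfsg.Agent.Lib.H61.J1c
import Mathlib.GroupTheory.Sylow
import Mathlib.GroupTheory.SpecificGroups.ZGroup

set_option autoImplicit false

/-! The Janko group `J1`: local structure, simplicity. -/

namespace H61.J1

open H61.Mat7 Cfsg.Spor

/-- the group, as a type -/
abbrev J := ↥Cfsg.Spor.J1

def x : J := ⟨gX, Subgroup.subset_closure (by simp [gX])⟩
def s : J := ⟨gS, wordG_mem _⟩
def u : J := ⟨gU, wordG_mem _⟩
def z : J := ⟨gZ, wordG_mem _⟩

theorem ext_of {g h : J} {a b : ℕ} (hg : Cd a (g : GM)) (hh : Cd b (h : GM)) (hab : a = b) : g = h := by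
  subst hab
  exact Subtype.ext (hg.inj hh)

theorem Cd_x : Cd xC (x : GM) := Cd_gX
theorem Cd_s : Cd s1C (s : GM) := Cd_gS
theorem Cd_u : Cd uC (u : GM) := Cd_gU
theorem Cd_z : Cd zC (z : GM) := Cd_gZ
theorem Cd_1 : Cd one ((1 : J) : GM) := Cd_one

theorem Cd_mul' {g h : J} {a b : ℕ} (hg : Cd a (g : GM)) (hh : Cd b (h : GM)) : Cd (Mat7.mul a b) ((g * h : J) : GM) := hg.mul hh

theorem Cd_pow' {g : J} {a : ℕ} (hg : Cd a (g : GM)) (n : ℕ) : Cd (powC a n) ((g ^ n : J) : GM) := Cd_pow hg n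

theorem x_pow : x ^ 7 = 1 := ext_of (Cd_pow' Cd_x 7) Cd_1 (by decide +kernel)
theorem z_pow : z ^ 3 = 1 := ext_of (Cd_pow' Cd_z 3) Cd_1 (by decide +kernel)
theorem s_sq : s * s = 1 := ext_of (Cd_mul' Cd_s Cd_s) Cd_1 (by decide +kernel)
theorem u_sq : u * u = 1 := ext_of (Cd_mul' Cd_u Cd_u) Cd_1 (by decide +kernel)
theorem u_x : u * x = x ^ 6 * u := ext_of (Cd_mul' Cd_u Cd_x) (Cd_mul' (Cd_pow' Cd_x 6) Cd_u) (by decide +kernel)
theorem u_z : u * z = z * u := ext_of (Cd_mul' Cd_u Cd_z) (Cd_mul' Cd_z Cd_u) (by decide +kernel)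
theorem z_x : z * x = x ^ 4 * z := ext_of (Cd_mul' Cd_z Cd_x) (Cd_mul' (Cd_pow' Cd_x 4) Cd_z) (by decide +kernel)

/-- the involutions of the diagonal subgroup -/
def si (i : ℕ) : J := x ^ i * s * x ^ (6 * i)

theorem Cd_si (i : ℕ) : Cd (Mat7.mul (Mat7.mul (powC xC i) s1C) (powC xC (6 * i))) ((si i : J) : GM) :=
  Cd_mul' (Cd_mul' (Cd_pow' Cd_x i) Cd_s) (Cd_pow' Cd_x (6 * i))

theorem z_s : z * s = si 1 * z := ext_of (Cd_mul' Cd_z Cd_s) (Cd_mul' (Cd_si 1) Cd_z) (by decide +kernel)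

theorem l1 : s * si 1 = si 3 := ext_of (Cd_mul' Cd_s (Cd_si 1)) (Cd_si 3) (by decide +kernel)
theorem l2 : s * si 2 = si 6 := ext_of (Cd_mul' Cd_s (Cd_si 2)) (Cd_si 6) (by decide +kernel)
theorem l3 : s * si 3 = si 1 := ext_of (Cd_mul' Cd_s (Cd_si 3)) (Cd_si 1) (by decide +kernel)
theorem l4 : s * si 4 = si 5 := ext_of (Cd_mul' Cd_s (Cd_si 4)) (Cd_si 5) (by decide +kernel)
theorem l5 : s * si 5 = si 4 := ext_of (Cd_mul' Cd_s (Cd_si 5)) (Cd_si 4) (by decide +kernel)
theorem l6 : s * si 6 = si 2 := ext_of (Cd_mul' Cd_s (Cd_si 6)) (Cd_si 2) (by decide +kernel)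

theorem x_mul_x6 (i : ℕ) : x ^ i * x ^ (6 * i) = 1 := by
  rw [← pow_add, show i + 6 * i = 7 * i by ring, pow_mul, x_pow, one_pow]

theorem x6_mul_x (i : ℕ) : x ^ (6 * i) * x ^ i = 1 := by
  rw [← pow_add, show 6 * i + i = 7 * i by ring, pow_mul, x_pow, one_pow]

theorem x6 (i : ℕ) : x ^ (6 * i) = (x ^ i)⁻¹ := eq_inv_of_mul_eq_one_left (x6_mul_x i)

theorem si_eq (i : ℕ) : si i = x ^ i * s * (x ^ i)⁻¹ := by rw [si, x6]

theorem si_zero : si 0 = s := by rw [si_eq]; simp

theorem si_add (i j : ℕ) : x ^ i * si j * (x ^ i)⁻¹ = si (i + j) := by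
  rw [si_eq, si_eq, pow_add]; group

theorem si_mod (i : ℕ) : si (i % 7) = si i := by
  have h : x ^ (i % 7) = x ^ i := by
    conv_rhs => rw [← Nat.mod_add_div i 7, pow_add, pow_mul, x_pow, one_pow, mul_one]
  rw [si_eq, si_eq, h]

theorem si_sq (i : ℕ) : si i * si i = 1 := by
  rw [si_eq]
  have : x ^ i * s * (x ^ i)⁻¹ * (x ^ i * s * (x ^ i)⁻¹) = x ^ i * (s * s) * (x ^ i)⁻¹ := by group
  rw [this, s_sq]; group

theorem s_ne : s ≠ 1 := by
  intro h
  have h1 := Cd_s
  rw [h] at h1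
  have := h1.code_inj Cd_one (by decide +kernel) one_lt
  exact absurd this (by decide +kernel)

theorem x_ne : x ≠ 1 := by
  intro h
  have h1 := Cd_x
  rw [h] at h1
  have := h1.code_inj Cd_one (by decide +kernel) one_lt
  exact absurd this (by decide +kernel)

theorem z_ne : z ≠ 1 := by
  intro h
  have h1 := Cd_z
  rw [h] at h1
  have := h1.code_inj Cd_one (by decide +kernel) one_lt
  exact absurd this (by decide +kernel)

theorem si_ne (i : ℕ) : si i ≠ 1 := by
  intro h
  rw [si_eq] at h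
  apply s_ne
  have : s = (x ^ i)⁻¹ * (x ^ i * s * (x ^ i)⁻¹) * x ^ i := by group
  rw [this, h]; group

theorem s_mul_si (k : ℕ) (hk : k < 7) : s * si k = 1 ∨ ∃ j, j < 7 ∧ s * si k = si j := by
  interval_cases k
  · left; rw [si_zero, s_sq]
  · right; exact ⟨3, by norm_num, l1⟩
  · right; exact ⟨6, by norm_num, l2⟩
  · right; exact ⟨1, by norm_num, l3⟩
  · right; exact ⟨5, by norm_num, l4⟩
  · right; exact ⟨4, by norm_num, l5⟩
  · right; exact ⟨2, by norm_num, l6⟩

theorem si_mul_si (i k : ℕ) : si i * si (i + k) = 1 ∨ ∃ j, si i * si (i + k) = si j := by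
  have h1 : si i * si (i + k) = x ^ i * (s * si k) * (x ^ i)⁻¹ := by
    rw [← si_add, si_eq i]; group
  have h2 := s_mul_si (k % 7) (Nat.mod_lt _ (by norm_num))
  rw [si_mod] at h2
  rw [h1]
  rcases h2 with h2 | ⟨j, -, h2⟩
  · left; rw [h2]; group
  · right; exact ⟨i + j, by rw [h2, si_add]⟩

/-- the diagonal subgroup `2^3` -/
def D : Subgroup J where
  carrier := {g | g = 1 ∨ ∃ i, g = si i}
  one_mem' := Or.inl rfl
  mul_mem' := by
    rintro a b (rfl | ⟨i, rfl⟩) (rfl | ⟨j, rfl⟩)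
    · left; rw [one_mul]
    · right; exact ⟨j, one_mul _⟩
    · right; exact ⟨i, mul_one _⟩
    · have h := si_mul_si i (j + 6 * i)
      have e : si (i + (j + 6 * i)) = si j := by
        rw [← si_mod, ← si_mod j]
        congr 1
        omega
      rw [e] at h
      exact h
  inv_mem' := by
    rintro a (rfl | ⟨i, rfl⟩)
    · left; exact inv_one
    · right
      exact ⟨i, inv_eq_of_mul_eq_one_left (si_sq i)⟩

theorem mem_D {g : J} : g ∈ D ↔ g = 1 ∨ ∃ i, g = si i := Iff.rfl

theorem s_mem_D : s ∈ D := Or.inr ⟨0, si_zero.symm⟩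

theorem D_sq {g : J} (hg : g ∈ D) : g * g = 1 := by
  rcases hg with rfl | ⟨i, rfl⟩
  · exact mul_one 1
  · exact si_sq i

theorem D_comm {g h : J} (hg : g ∈ D) (hh : h ∈ D) : g * h = h * g := by
  have h1 := D_sq (mul_mem hg hh)
  have h2 := D_sq hg
  have h3 := D_sq hh
  have e1 : (g * h)⁻¹ = g * h := inv_eq_of_mul_eq_one_left h1
  have e2 : g⁻¹ = g := inv_eq_of_mul_eq_one_left h2
  have e3 : h⁻¹ = h := inv_eq_of_mul_eq_one_left h3
  rw [mul_inv_rev, e2, e3] at e1
  exact e1.symm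

theorem x_D {g : J} (hg : g ∈ D) (i : ℕ) : x ^ i * g * (x ^ i)⁻¹ ∈ D := by
  rcases hg with rfl | ⟨j, rfl⟩
  · left; group
  · right; exact ⟨i + j, si_add i j⟩

theorem si_inj {i j : ℕ} (hi : i < 7) (hj : j < 7) (h : si i = si j) : i = j := by
  have key : ∀ k, k < 7 → k ≠ 0 → s ≠ si k := by
    intro k hk hk0 h
    have h1 : s * si k = 1 := by rw [← h]; exact s_sq
    interval_cases k
    · exact hk0 rfl
    · rw [l1] at h1; exact si_ne _ h1
    · rw [l2] at h1; exact si_ne _ h1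
    · rw [l3] at h1; exact si_ne _ h1
    · rw [l4] at h1; exact si_ne _ h1
    · rw [l5] at h1; exact si_ne _ h1
    · rw [l6] at h1; exact si_ne _ h1
  by_contra hne
  have h2 : si ((7 - i) + i) = si ((7 - i) + j) := by rw [← si_add, ← si_add, h]
  have e1 : si ((7 - i) + i) = s := by
    rw [← si_zero, ← si_mod]
    congr 1
    omega
  rw [e1, ← si_mod] at h2
  refine key (((7 - i) + j) % 7) (Nat.mod_lt _ (by norm_num)) ?_ h2
  omega

theorem card_D : Nat.card D = 8 := by
  have h : Fin 8 ≃ D := Equiv.ofBijective (fun i : Fin 8 => if i = 7 then (1 : D) else ⟨si i, Or.inr ⟨i, rfl⟩⟩) (by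
    constructor
    · intro i j hij
      by_cases hi : i = 7 <;> by_cases hj : j = 7
      · rw [hi, hj]
      · simp only [hi, hj, if_true, if_false] at hij
        exact absurd (congrArg Subtype.val hij).symm (si_ne _)
      · simp only [hi, hj, if_true, if_false] at hij
        exact absurd (congrArg Subtype.val hij) (si_ne _)
      · simp only [hi, hj, if_false] at hij
        have h1 : si i = si j := congrArg Subtype.val hij
        have hi' : (i : ℕ) < 7 := by
          rcases Nat.lt_or_ge (i : ℕ) 7 with h | h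
          · exact h
          · exact absurd (Fin.ext (by have := i.2; change (i : ℕ) = 7; omega)) hi
        have hj' : (j : ℕ) < 7 := by
          rcases Nat.lt_or_ge (j : ℕ) 7 with h | h
          · exact h
          · exact absurd (Fin.ext (by have := j.2; change (j : ℕ) = 7; omega)) hj
        exact Fin.ext (si_inj hi' hj' h1)
    · rintro ⟨g, hg⟩
      rcases hg with rfl | ⟨i, rfl⟩
      · exact ⟨7, if_pos rfl⟩
      · refine ⟨⟨i % 7, by omega⟩, ?_⟩
        have hne : (⟨i % 7, by omega⟩ : Fin 8) ≠ 7 := by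
          intro h
          have : i % 7 = 7 := congrArg Fin.val h
          omega
        simp only [hne, if_false]
        exact Subtype.ext (si_mod i))
  rw [← Nat.card_congr h, Nat.card_fin]

instance : Finite J := Nat.finite_of_card_ne_zero (by rw [card_J1]; norm_num)

theorem gen : Subgroup.closure ({x, z, s, u} : Set J) = ⊤ := by
  rw [eq_top_iff]
  intro g _
  have h1 : (g : GM) ∈ G0 := by rw [G0_eq]; exact g.2
  have h2 : G0 ≤ (Subgroup.closure ({x, z, s, u} : Set J)).map Cfsg.Spor.J1.subtype := by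
    rw [G0, Subgroup.closure_le]
    intro y hy
    rcases hy with rfl | rfl | rfl | rfl
    · exact ⟨x, Subgroup.subset_closure (by simp), rfl⟩
    · exact ⟨z, Subgroup.subset_closure (by simp), rfl⟩
    · exact ⟨s, Subgroup.subset_closure (by simp), rfl⟩
    · exact ⟨u, Subgroup.subset_closure (by simp), rfl⟩
  obtain ⟨h, hh, hh'⟩ := h2 h1
  have : h = g := Subtype.ext hh'
  rw [← this]; exact hh

instance fact7 : Fact (Nat.Prime 7) := ⟨by norm_num⟩

theorem orderOf_x : orderOf x = 7 := orderOf_eq_prime x_pow x_ne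

/-- orders of commuting elements -/
theorem order_bad {g h : J} (hc : Commute g h) {p q : ℕ} (hp : orderOf g = p) (hq : orderOf h = q) (hco : Nat.Coprime p q)
    (hbad : ¬ (p * q ∣ 6 ∨ p * q ∣ 10 ∨ p * q ∣ 15 ∨ p * q ∣ 7 ∨ p * q ∣ 11 ∨ p * q ∣ 19)) : False := by
  have h1 := hc.orderOf_mul_eq_mul_orderOf_of_coprime (by rw [hp, hq]; exact hco)
  have h2 := orderOf_dvd_cases (g * h)
  rw [h1, hp, hq] at h2
  exact hbad h2

theorem prime_dvd_J {r : ℕ} (hr : r.Prime) (h : r ∣ 175560) : r = 2 ∨ r = 3 ∨ r = 5 ∨ r = 7 ∨ r = 11 ∨ r = 19 := by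
  have hr3 : r ∣ 2 * (2 * (2 * (3 * (5 * (7 * (11 * 19)))))) := h
  rcases (Nat.Prime.dvd_mul hr).1 hr3 with h | h
  · left; exact (Nat.prime_dvd_prime_iff_eq hr (by norm_num)).1 h
  rcases (Nat.Prime.dvd_mul hr).1 h with h | h
  · left; exact (Nat.prime_dvd_prime_iff_eq hr (by norm_num)).1 h
  rcases (Nat.Prime.dvd_mul hr).1 h with h | h
  · left; exact (Nat.prime_dvd_prime_iff_eq hr (by norm_num)).1 h
  right
  rcases (Nat.Prime.dvd_mul hr).1 h with h | h
  · left; exact (Nat.prime_dvd_prime_iff_eq hr (by norm_num)).1 h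
  right
  rcases (Nat.Prime.dvd_mul hr).1 h with h | h
  · left; exact (Nat.prime_dvd_prime_iff_eq hr (by norm_num)).1 h
  right
  rcases (Nat.Prime.dvd_mul hr).1 h with h | h
  · left; exact (Nat.prime_dvd_prime_iff_eq hr (by norm_num)).1 h
  right
  rcases (Nat.Prime.dvd_mul hr).1 h with h | h
  · left; exact (Nat.prime_dvd_prime_iff_eq hr (by norm_num)).1 h
  · right; exact (Nat.prime_dvd_prime_iff_eq hr (by norm_num)).1 h

/-- the centralizer of `x` is `⟨x⟩` -/
theorem cent_x {y : J} (h : Commute y x) : y ∈ Subgroup.zpowers x := by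
  set C := Subgroup.centralizer ({x} : Set J) with hC
  have hmem : ∀ w : J, w ∈ C ↔ Commute w x := by
    intro w
    rw [hC, Subgroup.mem_centralizer_iff]
    simp only [Set.mem_singleton_iff, forall_eq]
    exact ⟨fun h => h.symm, fun h => h.symm⟩
  have hcard : Nat.card C ∣ 7 := by
    have hdvd : Nat.card C ∣ 175560 := by rw [← card_J1]; exact Subgroup.card_subgroup_dvd_card C
    have hprime : ∀ r : ℕ, r.Prime → r ∣ Nat.card C → r = 7 := by
      intro r hr hrC
      have : Fact r.Prime := ⟨hr⟩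
      obtain ⟨w, hw⟩ := exists_prime_orderOf_dvd_card' r hrC
      have hw' : orderOf (w : J) = r := by rw [Subgroup.orderOf_coe]; exact hw
      have hc : Commute x (w : J) := ((hmem w).1 w.2).symm
      rcases prime_dvd_J hr (hrC.trans hdvd) with rfl | rfl | rfl | rfl | rfl | rfl
      · exact (order_bad hc orderOf_x hw' (by norm_num) (by decide)).elim
      · exact (order_bad hc orderOf_x hw' (by norm_num) (by decide)).elim
      · exact (order_bad hc orderOf_x hw' (by norm_num) (by decide)).elim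
      · rfl
      · exact (order_bad hc orderOf_x hw' (by norm_num) (by decide)).elim
      · exact (order_bad hc orderOf_x hw' (by norm_num) (by decide)).elim
    have hne : Nat.card C ≠ 0 := Nat.card_pos.ne'
    have h1 := Nat.eq_prime_pow_of_unique_prime_dvd hne (fun {d} hd hd' => hprime d hd hd')
    rw [h1] at hdvd ⊢
    have : (Nat.card C).primeFactorsList.length < 2 := by
      by_contra hcon
      have h2 : 7 ^ 2 ∣ 175560 := (Nat.pow_dvd_pow 7 (by omega)).trans hdvd
      norm_num at h2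
    exact (Nat.pow_dvd_pow 7 (show (Nat.card C).primeFactorsList.length ≤ 1 by omega)).trans (by norm_num)
  have hle : Subgroup.zpowers x ≤ C := by
    rw [Subgroup.zpowers_le]
    exact (hmem x).2 (Commute.refl x)
  have heq : Subgroup.zpowers x = C := by
    apply Subgroup.eq_of_le_of_card_ge hle
    rw [Nat.card_zpowers, orderOf_x]
    exact Nat.le_of_dvd (by norm_num) hcard
  rw [heq]
  exact (hmem y).2 h

end H61.J1
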