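import Mathlib.Data.ZMod.Basic
import Mathlib.LinearAlgebra.Matrix.Notation
import Mathlib.Tactic

set_option autoImplicit false

/-! `7 × 7` matrices over `ZMod 11`, coded as natural numbers with 49 digits in base 1024. -/

namespace H61.Mat7

abbrev M := Matrix (Fin 7) (Fin 7) (ZMod 11)

/-- `1024 ^ 7` -/
abbrev R : ℕ := 1180591620717411303424

def red (x : ℕ) : ℕ :=
  x % 1024 % 11 + 1024 * (x / 1024 % 1024 % 11 + 1024 * (x / 1048576 % 1024 % 11 + 1024 * (x / 1073741824 % 1024 % 11 +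
    1024 * (x / 1099511627776 % 1024 % 11 + 1024 * (x / 1125899906842624 % 1024 % 11 +
      1024 * (x / 1152921504606846976 % 1024 % 11))))))

def rowmul (r b0 b1 b2 b3 b4 b5 b6 : ℕ) : ℕ :=
  red ((r % 1024) * b0 + (r / 1024 % 1024) * b1 + (r / 1048576 % 1024) * b2 + (r / 1073741824 % 1024) * b3 +
    (r / 1099511627776 % 1024) * b4 + (r / 1125899906842624 % 1024) * b5 + (r / 1152921504606846976 % 1024) * b6)

def row (N i : ℕ) : ℕ := N / R ^ i % R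

def rm (N B : ℕ) : ℕ :=
  rowmul N (B % R) (B / R % R) (B / R^2 % R) (B / R^3 % R) (B / R^4 % R) (B / R^5 % R) (B / R^6 % R)

def mul (A B : ℕ) : ℕ :=
  rm (A % R) B + R * (rm (A / R % R) B + R * (rm (A / R^2 % R) B + R * (rm (A / R^3 % R) B + R * (rm (A / R^4 % R) B +
    R * (rm (A / R^5 % R) B + R * (rm (A / R^6 % R) B))))))

/-- digit `j` -/
def dg (r j : ℕ) : ℕ := r / 1024 ^ j % 1024

/-- decoding -/
def dec (N : ℕ) : M := fun i j => ((dg (row N i) j : ℕ) : ZMod 11)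

/-- all digits at most 10 -/
def Rok (r : ℕ) : Prop := ∀ j < 7, dg r j ≤ 10

def ok (N : ℕ) : Prop := ∀ i < 7, Rok (row N i)

theorem seven_cases {j : ℕ} (h : j < 7) : j = 0 ∨ j = 1 ∨ j = 2 ∨ j = 3 ∨ j = 4 ∨ j = 5 ∨ j = 6 := by omega

theorem expand (r : ℕ) (hr : r < R) : r = dg r 0 + 1024 * (dg r 1 + 1024 * (dg r 2 + 1024 * (dg r 3 + 1024 * (dg r 4 +
    1024 * (dg r 5 + 1024 * dg r 6))))) := by
  unfold dg
  norm_num only [pow_zero, pow_one]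
  unfold R at hr
  omega

theorem dg_expand (c0 c1 c2 c3 c4 c5 c6 : ℕ) (h0 : c0 < 1024) (h1 : c1 < 1024) (h2 : c2 < 1024) (h3 : c3 < 1024)
    (h4 : c4 < 1024) (h5 : c5 < 1024) (h6 : c6 < 1024) (j : Fin 7) :
    dg (c0 + 1024 * (c1 + 1024 * (c2 + 1024 * (c3 + 1024 * (c4 + 1024 * (c5 + 1024 * c6)))))) j =
      (![c0, c1, c2, c3, c4, c5, c6] : Fin 7 → ℕ) j := by
  unfold dg
  fin_cases j
  · change (c0 + 1024 * (c1 + 1024 * (c2 + 1024 * (c3 + 1024 * (c4 + 1024 * (c5 + 1024 * c6)))))) / 1 % 1024 = c0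
    omega
  · change (c0 + 1024 * (c1 + 1024 * (c2 + 1024 * (c3 + 1024 * (c4 + 1024 * (c5 + 1024 * c6)))))) / 1024 % 1024 = c1
    omega
  · change (c0 + 1024 * (c1 + 1024 * (c2 + 1024 * (c3 + 1024 * (c4 + 1024 * (c5 + 1024 * c6)))))) / 1048576 % 1024 = c2
    omega
  · change (c0 + 1024 * (c1 + 1024 * (c2 + 1024 * (c3 + 1024 * (c4 + 1024 * (c5 + 1024 * c6)))))) / 1073741824 % 1024 = c3
    omega
  · change (c0 + 1024 * (c1 + 1024 * (c2 + 1024 * (c3 + 1024 * (c4 + 1024 * (c5 + 1024 * c6)))))) / 1099511627776 % 1024 = c4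
    omega
  · change (c0 + 1024 * (c1 + 1024 * (c2 + 1024 * (c3 + 1024 * (c4 + 1024 * (c5 + 1024 * c6)))))) / 1125899906842624 % 1024 = c5
    omega
  · change (c0 + 1024 * (c1 + 1024 * (c2 + 1024 * (c3 + 1024 * (c4 + 1024 * (c5 + 1024 * c6)))))) / 1152921504606846976 % 1024 = c6
    omega

theorem red_expand (c0 c1 c2 c3 c4 c5 c6 : ℕ) (h0 : c0 < 1024) (h1 : c1 < 1024) (h2 : c2 < 1024) (h3 : c3 < 1024)
    (h4 : c4 < 1024) (h5 : c5 < 1024) (h6 : c6 < 1024) :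
    red (c0 + 1024 * (c1 + 1024 * (c2 + 1024 * (c3 + 1024 * (c4 + 1024 * (c5 + 1024 * c6)))))) =
      c0 % 11 + 1024 * (c1 % 11 + 1024 * (c2 % 11 + 1024 * (c3 % 11 + 1024 * (c4 % 11 + 1024 * (c5 % 11 + 1024 * (c6 % 11)))))) := by
  have e0 := dg_expand c0 c1 c2 c3 c4 c5 c6 h0 h1 h2 h3 h4 h5 h6 0
  have e1 := dg_expand c0 c1 c2 c3 c4 c5 c6 h0 h1 h2 h3 h4 h5 h6 1
  have e2 := dg_expand c0 c1 c2 c3 c4 c5 c6 h0 h1 h2 h3 h4 h5 h6 2
  have e3 := dg_expand c0 c1 c2 c3 c4 c5 c6 h0 h1 h2 h3 h4 h5 h6 3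
  have e4 := dg_expand c0 c1 c2 c3 c4 c5 c6 h0 h1 h2 h3 h4 h5 h6 4
  have e5 := dg_expand c0 c1 c2 c3 c4 c5 c6 h0 h1 h2 h3 h4 h5 h6 5
  have e6 := dg_expand c0 c1 c2 c3 c4 c5 c6 h0 h1 h2 h3 h4 h5 h6 6
  generalize c0 + 1024 * (c1 + 1024 * (c2 + 1024 * (c3 + 1024 * (c4 + 1024 * (c5 + 1024 * c6))))) = x at *
  unfold dg at *
  unfold red
  have f0 : x % 1024 = c0 := by
    have : x / 1 % 1024 = c0 := e0
    rwa [Nat.div_one] at this
  have f1 : x / 1024 % 1024 = c1 := e1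
  have f2 : x / 1048576 % 1024 = c2 := e2
  have f3 : x / 1073741824 % 1024 = c3 := e3
  have f4 : x / 1099511627776 % 1024 = c4 := e4
  have f5 : x / 1125899906842624 % 1024 = c5 := e5
  have f6 : x / 1152921504606846976 % 1024 = c6 := e6
  rw [f0, f1, f2, f3, f4, f5, f6]

theorem rowmul_spec (r b0 b1 b2 b3 b4 b5 b6 : ℕ) (hr : Rok r) (k0 : b0 < R) (k1 : b1 < R) (k2 : b2 < R)
    (k3 : b3 < R) (k4 : b4 < R) (k5 : b5 < R) (k6 : b6 < R) (o0 : Rok b0) (o1 : Rok b1) (o2 : Rok b2) (o3 : Rok b3)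
    (o4 : Rok b4) (o5 : Rok b5) (o6 : Rok b6) :
    rowmul r b0 b1 b2 b3 b4 b5 b6 < R ∧ ∀ j : Fin 7, dg (rowmul r b0 b1 b2 b3 b4 b5 b6) j =
      (dg r 0 * dg b0 j + dg r 1 * dg b1 j + dg r 2 * dg b2 j + dg r 3 * dg b3 j + dg r 4 * dg b4 j + dg r 5 * dg b5 j +
        dg r 6 * dg b6 j) % 11 := by
  have bd : ∀ j < 7, dg r 0 * dg b0 j + dg r 1 * dg b1 j + dg r 2 * dg b2 j + dg r 3 * dg b3 j + dg r 4 * dg b4 j +
      dg r 5 * dg b5 j + dg r 6 * dg b6 j < 1024 := by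
    intro j hj
    have t0 : dg r 0 * dg b0 j ≤ 10 * 10 := Nat.mul_le_mul (hr 0 (by norm_num)) (o0 j hj)
    have t1 : dg r 1 * dg b1 j ≤ 10 * 10 := Nat.mul_le_mul (hr 1 (by norm_num)) (o1 j hj)
    have t2 : dg r 2 * dg b2 j ≤ 10 * 10 := Nat.mul_le_mul (hr 2 (by norm_num)) (o2 j hj)
    have t3 : dg r 3 * dg b3 j ≤ 10 * 10 := Nat.mul_le_mul (hr 3 (by norm_num)) (o3 j hj)
    have t4 : dg r 4 * dg b4 j ≤ 10 * 10 := Nat.mul_le_mul (hr 4 (by norm_num)) (o4 j hj)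
    have t5 : dg r 5 * dg b5 j ≤ 10 * 10 := Nat.mul_le_mul (hr 5 (by norm_num)) (o5 j hj)
    have t6 : dg r 6 * dg b6 j ≤ 10 * 10 := Nat.mul_le_mul (hr 6 (by norm_num)) (o6 j hj)
    omega
  have hx : rowmul r b0 b1 b2 b3 b4 b5 b6 = red (dg r 0 * b0 + dg r 1 * b1 + dg r 2 * b2 + dg r 3 * b3 + dg r 4 * b4 +
      dg r 5 * b5 + dg r 6 * b6) := by
    unfold rowmul dg
    congr 1
    norm_num only [pow_zero, pow_one, Nat.div_one]
  have hs : dg r 0 * b0 + dg r 1 * b1 + dg r 2 * b2 + dg r 3 * b3 + dg r 4 * b4 + dg r 5 * b5 + dg r 6 * b6 =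
      (dg r 0 * dg b0 0 + dg r 1 * dg b1 0 + dg r 2 * dg b2 0 + dg r 3 * dg b3 0 + dg r 4 * dg b4 0 + dg r 5 * dg b5 0 + dg r 6 * dg b6 0) + 1024 * (
      (dg r 0 * dg b0 1 + dg r 1 * dg b1 1 + dg r 2 * dg b2 1 + dg r 3 * dg b3 1 + dg r 4 * dg b4 1 + dg r 5 * dg b5 1 + dg r 6 * dg b6 1) + 1024 * (
      (dg r 0 * dg b0 2 + dg r 1 * dg b1 2 + dg r 2 * dg b2 2 + dg r 3 * dg b3 2 + dg r 4 * dg b4 2 + dg r 5 * dg b5 2 + dg r 6 * dg b6 2) + 1024 * (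
      (dg r 0 * dg b0 3 + dg r 1 * dg b1 3 + dg r 2 * dg b2 3 + dg r 3 * dg b3 3 + dg r 4 * dg b4 3 + dg r 5 * dg b5 3 + dg r 6 * dg b6 3) + 1024 * (
      (dg r 0 * dg b0 4 + dg r 1 * dg b1 4 + dg r 2 * dg b2 4 + dg r 3 * dg b3 4 + dg r 4 * dg b4 4 + dg r 5 * dg b5 4 + dg r 6 * dg b6 4) + 1024 * (
      (dg r 0 * dg b0 5 + dg r 1 * dg b1 5 + dg r 2 * dg b2 5 + dg r 3 * dg b3 5 + dg r 4 * dg b4 5 + dg r 5 * dg b5 5 + dg r 6 * dg b6 5) + 1024 * (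
      (dg r 0 * dg b0 6 + dg r 1 * dg b1 6 + dg r 2 * dg b2 6 + dg r 3 * dg b3 6 + dg r 4 * dg b4 6 + dg r 5 * dg b5 6 + dg r 6 * dg b6 6))))))) := by
    conv_lhs => rw [expand b0 k0, expand b1 k1, expand b2 k2, expand b3 k3, expand b4 k4, expand b5 k5, expand b6 k6]
    ring
  rw [hx, hs, red_expand _ _ _ _ _ _ _ (bd 0 (by norm_num)) (bd 1 (by norm_num)) (bd 2 (by norm_num)) (bd 3 (by norm_num))
    (bd 4 (by norm_num)) (bd 5 (by norm_num)) (bd 6 (by norm_num))]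
  constructor
  · unfold R
    have m : ∀ x : ℕ, x % 11 < 11 := fun x => Nat.mod_lt _ (by norm_num)
    generalize (dg r 0 * dg b0 0 + dg r 1 * dg b1 0 + dg r 2 * dg b2 0 + dg r 3 * dg b3 0 + dg r 4 * dg b4 0 + dg r 5 * dg b5 0 + dg r 6 * dg b6 0) = y0
    generalize (dg r 0 * dg b0 1 + dg r 1 * dg b1 1 + dg r 2 * dg b2 1 + dg r 3 * dg b3 1 + dg r 4 * dg b4 1 + dg r 5 * dg b5 1 + dg r 6 * dg b6 1) = y1
    generalize (dg r 0 * dg b0 2 + dg r 1 * dg b1 2 + dg r 2 * dg b2 2 + dg r 3 * dg b3 2 + dg r 4 * dg b4 2 + dg r 5 * dg b5 2 + dg r 6 * dg b6 2) = y2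
    generalize (dg r 0 * dg b0 3 + dg r 1 * dg b1 3 + dg r 2 * dg b2 3 + dg r 3 * dg b3 3 + dg r 4 * dg b4 3 + dg r 5 * dg b5 3 + dg r 6 * dg b6 3) = y3
    generalize (dg r 0 * dg b0 4 + dg r 1 * dg b1 4 + dg r 2 * dg b2 4 + dg r 3 * dg b3 4 + dg r 4 * dg b4 4 + dg r 5 * dg b5 4 + dg r 6 * dg b6 4) = y4
    generalize (dg r 0 * dg b0 5 + dg r 1 * dg b1 5 + dg r 2 * dg b2 5 + dg r 3 * dg b3 5 + dg r 4 * dg b4 5 + dg r 5 * dg b5 5 + dg r 6 * dg b6 5) = y5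
    generalize (dg r 0 * dg b0 6 + dg r 1 * dg b1 6 + dg r 2 * dg b2 6 + dg r 3 * dg b3 6 + dg r 4 * dg b4 6 + dg r 5 * dg b5 6 + dg r 6 * dg b6 6) = y6
    omega
  · have m : ∀ x : ℕ, x % 11 < 1024 := fun x => lt_trans (Nat.mod_lt _ (by norm_num)) (by norm_num)
    intro j
    rw [dg_expand _ _ _ _ _ _ _ (m _) (m _) (m _) (m _) (m _) (m _) (m _) j]
    fin_cases j <;> rfl

theorem row_lt (N i : ℕ) : row N i < R := Nat.mod_lt _ (by unfold R; norm_num)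

theorem rm_spec (N B : ℕ) (hN : Rok N) (hB : ok B) : rm N B < R ∧ ∀ j : Fin 7, dg (rm N B) j =
      (dg N 0 * dg (row B 0) j + dg N 1 * dg (row B 1) j + dg N 2 * dg (row B 2) j + dg N 3 * dg (row B 3) j +
        dg N 4 * dg (row B 4) j + dg N 5 * dg (row B 5) j + dg N 6 * dg (row B 6) j) % 11 := by
  have h : rm N B = rowmul N (row B 0) (row B 1) (row B 2) (row B 3) (row B 4) (row B 5) (row B 6) := by
    unfold rm row
    rw [pow_zero, pow_one, Nat.div_one]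
  rw [h]
  exact rowmul_spec N _ _ _ _ _ _ _ hN (row_lt _ _) (row_lt _ _) (row_lt _ _) (row_lt _ _) (row_lt _ _) (row_lt _ _)
    (row_lt _ _) (hB 0 (by norm_num)) (hB 1 (by norm_num)) (hB 2 (by norm_num)) (hB 3 (by norm_num)) (hB 4 (by norm_num))
    (hB 5 (by norm_num)) (hB 6 (by norm_num))

theorem row_expand (c0 c1 c2 c3 c4 c5 c6 : ℕ) (h0 : c0 < R) (h1 : c1 < R) (h2 : c2 < R) (h3 : c3 < R)
    (h4 : c4 < R) (h5 : c5 < R) (h6 : c6 < R) (j : Fin 7) :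
    row (c0 + R * (c1 + R * (c2 + R * (c3 + R * (c4 + R * (c5 + R * c6)))))) j =
      (![c0, c1, c2, c3, c4, c5, c6] : Fin 7 → ℕ) j := by
  have hR : 0 < R := by unfold R; norm_num
  have step : ∀ (a b i : ℕ), a < R → row (a + R * b) (i + 1) = row b i := by
    intro a b i ha
    unfold row
    rw [pow_succ', ← Nat.div_div_eq_div_mul, Nat.add_mul_div_left _ _ hR, Nat.div_eq_of_lt ha, Nat.zero_add]
  have zero : ∀ a b : ℕ, a < R → row (a + R * b) 0 = a := by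
    intro a b ha
    unfold row
    rw [pow_zero, Nat.div_one, Nat.add_mul_mod_self_left, Nat.mod_eq_of_lt ha]
  have last : ∀ a : ℕ, a < R → row a 0 = a := by
    intro a ha
    unfold row
    rw [pow_zero, Nat.div_one, Nat.mod_eq_of_lt ha]
  fin_cases j
  · exact zero _ _ h0
  · exact (step _ _ 0 h0).trans (zero _ _ h1)
  · exact (step _ _ 1 h0).trans ((step _ _ 0 h1).trans (zero _ _ h2))
  · exact (step _ _ 2 h0).trans ((step _ _ 1 h1).trans ((step _ _ 0 h2).trans (zero _ _ h3)))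
  · exact (step _ _ 3 h0).trans ((step _ _ 2 h1).trans ((step _ _ 1 h2).trans ((step _ _ 0 h3).trans (zero _ _ h4))))
  · exact (step _ _ 4 h0).trans ((step _ _ 3 h1).trans ((step _ _ 2 h2).trans ((step _ _ 1 h3).trans
      ((step _ _ 0 h4).trans (zero _ _ h5)))))
  · exact (step _ _ 5 h0).trans ((step _ _ 4 h1).trans ((step _ _ 3 h2).trans ((step _ _ 2 h3).trans
      ((step _ _ 1 h4).trans ((step _ _ 0 h5).trans (last _ h6))))))

theorem mul_row (A B : ℕ) (hA : ok A) (hB : ok B) (i : Fin 7) : row (mul A B) i = rm (row A i) B := by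
  have e : mul A B = rm (row A 0) B + R * (rm (row A 1) B + R * (rm (row A 2) B + R * (rm (row A 3) B +
      R * (rm (row A 4) B + R * (rm (row A 5) B + R * (rm (row A 6) B)))))) := by
    unfold mul row
    rw [pow_zero, pow_one, Nat.div_one]
  rw [e, row_expand _ _ _ _ _ _ _ (rm_spec _ B (hA 0 (by norm_num)) hB).1 (rm_spec _ B (hA 1 (by norm_num)) hB).1
    (rm_spec _ B (hA 2 (by norm_num)) hB).1 (rm_spec _ B (hA 3 (by norm_num)) hB).1 (rm_spec _ B (hA 4 (by norm_num)) hB).1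
    (rm_spec _ B (hA 5 (by norm_num)) hB).1 (rm_spec _ B (hA 6 (by norm_num)) hB).1]
  fin_cases i <;> rfl

theorem dg_mul (A B : ℕ) (hA : ok A) (hB : ok B) (i j : Fin 7) : dg (row (mul A B) i) j =
    (dg (row A i) 0 * dg (row B 0) j + dg (row A i) 1 * dg (row B 1) j + dg (row A i) 2 * dg (row B 2) j +
      dg (row A i) 3 * dg (row B 3) j + dg (row A i) 4 * dg (row B 4) j + dg (row A i) 5 * dg (row B 5) j +
      dg (row A i) 6 * dg (row B 6) j) % 11 := by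
  rw [mul_row A B hA hB i]
  exact (rm_spec _ B (hA i i.2) hB).2 j

theorem ok_mul {A B : ℕ} (hA : ok A) (hB : ok B) : ok (mul A B) := by
  intro i hi j hj
  have := dg_mul A B hA hB ⟨i, hi⟩ ⟨j, hj⟩
  rw [this]
  have h2 := Nat.mod_lt (dg (row A i) 0 * dg (row B 0) j + dg (row A i) 1 * dg (row B 1) j + dg (row A i) 2 * dg (row B 2) j +
      dg (row A i) 3 * dg (row B 3) j + dg (row A i) 4 * dg (row B 4) j + dg (row A i) 5 * dg (row B 5) j +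
      dg (row A i) 6 * dg (row B 6) j) (show 11 > 0 by norm_num)
  exact Nat.lt_succ_iff.1 h2

theorem dec_mul {A B : ℕ} (hA : ok A) (hB : ok B) : dec (mul A B) = dec A * dec B := by
  ext i j
  rw [Matrix.mul_apply]
  unfold dec
  rw [dg_mul A B hA hB i j, ZMod.natCast_mod, Fin.sum_univ_seven]
  push_cast
  rfl

def okB (N : ℕ) : Bool := (List.range 7).all fun i => (List.range 7).all fun j => decide (dg (row N i) j ≤ 10)

theorem ok_of_okB {N : ℕ} (h : okB N = true) : ok N := by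
  intro i hi j hj
  unfold okB at h
  rw [List.all_eq_true] at h
  have h1 := h i (List.mem_range.2 hi)
  rw [List.all_eq_true] at h1
  exact of_decide_eq_true (h1 j (List.mem_range.2 hj))

def one : ℕ := 1 + R * (1024 + R * (1048576 + R * (1073741824 + R * (1099511627776 + R * (1125899906842624 + R * 1152921504606846976)))))

end H61.Mat7
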