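import Mathlib

/-!
A simple criterion for nonabelian Sylow 2-subgroups.
-/

set_option autoImplicit false

open Subgroup

namespace H61.NA

/-- `X` contains a dihedral or quaternion configuration: a 2-element `y` inverting a 2-element `x` with
`x * x ≠ 1`. -/
def NA (X : Type*) [Group X] : Prop :=
  ∃ (x y : X) (k : ℕ), x ^ 2 ^ k = 1 ∧ y ^ 2 ^ k = 1 ∧ y * x * y⁻¹ = x⁻¹ ∧ x * x ≠ 1

variable {X Y : Type*} [Group X] [Group Y]

theorem pgroup_zpowers {x : X} {k : ℕ} (h : x ^ 2 ^ k = 1) : IsPGroup 2 (zpowers x) := by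
  rintro ⟨z, hz⟩
  obtain ⟨m, rfl⟩ := mem_zpowers_iff.mp hz
  refine ⟨k, Subtype.ext ?_⟩
  change (x ^ m) ^ 2 ^ k = 1
  rw [← zpow_natCast, ← zpow_mul, mul_comm, zpow_mul, zpow_natCast, h, one_zpow]

/-- the Sylow 2-subgroups are not abelian -/
theorem not_comm [Finite X] (h : NA X) : ∃ S : Sylow 2 X, ¬ IsMulCommutative ↥(S : Subgroup X) := by
  obtain ⟨x, y, k, hx, hy, hxy, hne⟩ := h
  have h1 : zpowers y ≤ normalizer (zpowers x : Set X) := by
    rw [zpowers_le, mem_normalizer_iff]
    have h2 : ∀ m : ℤ, y * x ^ m * y⁻¹ = x ^ (-m) := by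
      intro m
      have h3 : y * x ^ m * y⁻¹ = (y * x * y⁻¹) ^ m := by
        have := (map_zpow (MulAut.conj y) x m)
        simpa [MulAut.conj_apply] using this
      rw [h3, hxy, inv_zpow']
    have h2' : ∀ m : ℤ, y⁻¹ * x ^ m * y = x ^ (-m) := by
      intro m
      have h3 := h2 (-m)
      rw [neg_neg] at h3
      rw [← h3]
      group
    intro z
    constructor
    · intro hz
      obtain ⟨m, rfl⟩ := mem_zpowers_iff.mp hz
      rw [h2 m]
      exact zpow_mem (mem_zpowers x) _
    · intro hz
      obtain ⟨m, hm⟩ := mem_zpowers_iff.mp hz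
      have h3 : z = y⁻¹ * x ^ m * y := by rw [hm]; group
      rw [h3, h2' m]
      exact zpow_mem (mem_zpowers x) _
  have h2 : IsPGroup 2 (zpowers x ⊔ zpowers y : Subgroup X) := by
    rw [sup_comm]
    exact IsPGroup.to_sup_of_normal_right' (pgroup_zpowers hy) (pgroup_zpowers hx) h1
  obtain ⟨S, hS⟩ := h2.exists_le_sylow
  refine ⟨S, fun hc => hne ?_⟩
  have hxS : x ∈ (S : Subgroup X) := hS (le_sup_left (a := zpowers x) (mem_zpowers x))
  have hyS : y ∈ (S : Subgroup X) := hS (le_sup_right (b := zpowers y) (mem_zpowers y))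
  have h3 := congrArg Subtype.val (hc.is_comm.comm (⟨x, hxS⟩ : (S : Subgroup X)) ⟨y, hyS⟩)
  have h4 : x * y = y * x := h3
  have h5 : x⁻¹ = x := by rw [← hxy, ← h4]; group
  calc x * x = x⁻¹ * x := by rw [h5]
    _ = 1 := inv_mul_cancel x

/-- monotone under injective homomorphisms -/
theorem of_injective (f : X →* Y) (hf : Function.Injective f) (h : NA X) : NA Y := by
  obtain ⟨x, y, k, hx, hy, hxy, hne⟩ := h
  refine ⟨f x, f y, k, ?_, ?_, ?_, ?_⟩
  · rw [← map_pow, hx, map_one]
  · rw [← map_pow, hy, map_one]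
  · rw [← map_mul, ← map_inv, ← map_mul, hxy, map_inv]
  · intro h1
    apply hne
    apply hf
    rw [map_mul, h1, map_one]

theorem congr (e : X ≃* Y) (h : NA X) : NA Y := of_injective e.toMonoidHom e.injective h

/-- two noncommuting involutions `a, e` with `(ae)^4 = 1` -/
theorem of_invol {a e : X} (ha : a * a = 1) (he : e * e = 1) (h4 : (a * e) ^ 4 = 1)
    (hne : a * e ≠ e * a) : NA X := by
  have ha' : a⁻¹ = a := inv_eq_of_mul_eq_one_right ha
  have he' : e⁻¹ = e := inv_eq_of_mul_eq_one_right he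
  refine ⟨a * e, a, 2, by simpa using h4, ?_, ?_, ?_⟩
  · have : a ^ 2 = 1 := by rw [pow_two, ha]
    rw [show (2 ^ 2 : ℕ) = 2 * 2 by norm_num, pow_mul, this, one_pow]
  · rw [mul_inv_rev, ha', he', ← mul_assoc, ha, one_mul]
  · intro h
    apply hne
    have h1 : a * e = (a * e)⁻¹ := eq_inv_of_mul_eq_one_left h
    rw [h1, mul_inv_rev, ha', he']

/-- a Coxeter configuration of type `A₃` with distinct end nodes -/
theorem of_A3 {a b c : X} (ha : a * a = 1) (hb : b * b = 1) (hc : c * c = 1)
    (hab : a * b * a = b * a * b) (hbc : b * c * b = c * b * c) (hac : a * c = c * a)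
    (hne : a ≠ c) : NA X := by
  have ha' : a⁻¹ = a := inv_eq_of_mul_eq_one_right ha
  have hb' : b⁻¹ = b := inv_eq_of_mul_eq_one_right hb
  have hc' : c⁻¹ = c := inv_eq_of_mul_eq_one_right hc
  -- `e = b a c b` swaps `a` and `c`
  have h1 : (b * a * c * b) * a * (b * a * c * b)⁻¹ = c := by
    have e1 : (b * a * c * b)⁻¹ = b * c * a * b := by
      rw [mul_inv_rev, mul_inv_rev, mul_inv_rev, ha', hb', hc']; simp only [mul_assoc]
    rw [e1]
    calc b * a * c * b * a * (b * c * a * b)
        = b * (a * c) * (b * a * b) * c * a * b := by simp only [mul_assoc]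
      _ = b * (c * a) * (a * b * a) * c * a * b := by rw [hac, hab]
      _ = b * c * (a * a) * b * (a * c) * a * b := by simp only [mul_assoc]
      _ = b * c * b * (c * a) * a * b := by rw [ha, hac]; simp only [mul_one, mul_assoc]
      _ = (b * c * b) * c * (a * a) * b := by simp only [mul_assoc]
      _ = (c * b * c) * c * b := by rw [hbc, ha, mul_one]
      _ = c * b * (c * c) * b := by simp only [mul_assoc]
      _ = c * (b * b) := by rw [hc, mul_one, mul_assoc]
      _ = c := by rw [hb, mul_one]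
  have he : (b * a * c * b) * (b * a * c * b) = 1 := by
    calc (b * a * c * b) * (b * a * c * b) = b * a * c * (b * b) * a * c * b := by simp only [mul_assoc]
      _ = b * a * (c * a) * c * b := by rw [hb]; simp only [mul_one, mul_assoc]
      _ = b * a * (a * c) * c * b := by rw [hac]
      _ = b * (a * a) * (c * c) * b := by simp only [mul_assoc]
      _ = 1 := by rw [ha, hc, mul_one, mul_one, hb]
  have he' : (b * a * c * b)⁻¹ = b * a * c * b := inv_eq_of_mul_eq_one_right he
  have h2 : (b * a * c * b) * a * (b * a * c * b) = c := by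
    rw [he'] at h1
    exact h1
  apply of_invol (a := a) (e := b * a * c * b) ha he
  · have h3 : (a * (b * a * c * b)) ^ 2 = a * c := by
      rw [pow_two]
      calc a * (b * a * c * b) * (a * (b * a * c * b)) = a * ((b * a * c * b) * a * (b * a * c * b)) := by
            simp only [mul_assoc]
        _ = a * c := by rw [h2]
    rw [show (4 : ℕ) = 2 * 2 by norm_num, pow_mul, h3, pow_two]
    calc a * c * (a * c) = a * (c * a) * c := by simp only [mul_assoc]
      _ = a * (a * c) * c := by rw [hac]
      _ = (a * a) * (c * c) := by simp only [mul_assoc]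
      _ = 1 := by rw [ha, hc, mul_one]
  · intro h
    apply hne
    calc a = a * ((b * a * c * b) * (b * a * c * b)) := by rw [he, mul_one]
      _ = (a * (b * a * c * b)) * (b * a * c * b) := by simp only [mul_assoc]
      _ = ((b * a * c * b) * a) * (b * a * c * b) := by rw [h]
      _ = c := h2

end H61.NA
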